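import Mathlib
import Cfsg.Agent.Lib.FgsB.Basic
import Cfsg.Agent.Lib.CharApps.QBaer.Classes
import Cfsg.Agent.Lib.Coprime.Action

/-!
# Elementary facts on class sizes
-/

set_option autoImplicit false
set_option linter.style.haveILetI false

open scoped Pointwise

namespace CfsgLib.CharApps.ClassSizes

variable {G : Type*} [Group G]

/-- The size of the class of `g`, as an index. -/
noncomputable abbrev idx (g : G) : ℕ := (Subgroup.centralizer ({g} : Set G)).index

local notation "C[" g "]" => Subgroup.centralizer ({g} : Set G)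

theorem mem_C {g c : G} : c ∈ C[g] ↔ Commute c g :=
  Subgroup.mem_centralizer_singleton_iff

theorem center_le_C (g : G) : Subgroup.center G ≤ C[g] := fun _z hz =>
  mem_C.2 (Subgroup.mem_center_iff.1 hz g).symm

theorem self_mem_C (g : G) : g ∈ C[g] := mem_C.2 (Commute.refl g)

theorem C_le_C_pow (g : G) (k : ℕ) : C[g] ≤ C[g ^ k] := fun _c hc =>
  mem_C.2 ((mem_C.1 hc).pow_right k)

theorem C_eq_top_iff {g : G} : C[g] = ⊤ ↔ g ∈ Subgroup.center G := by
  rw [Subgroup.centralizer_eq_top_iff_subset, Set.singleton_subset_iff]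
  rfl

theorem idx_eq_one_iff {g : G} : idx g = 1 ↔ g ∈ Subgroup.center G := by
  rw [idx, Subgroup.index_eq_one, C_eq_top_iff]

theorem C_eq_of_mul_center {g z : G} (hz : z ∈ Subgroup.center G) : C[g * z] = C[g] := by
  ext c
  rw [mem_C, mem_C]
  have h : Commute c z := Subgroup.mem_center_iff.1 hz c
  refine ⟨fun hc => ?_, fun hc => hc.mul_right h⟩
  simpa using hc.mul_right h.inv_right

theorem mem_center_of_pow {g : G} {k : ℕ} (hk : g ^ k ∈ Subgroup.center G)
    (hc : k.Coprime (orderOf g)) : g ∈ Subgroup.center G := by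
  obtain ⟨j, hj⟩ := exists_pow_eq_self_of_coprime hc
  rw [← hj]
  exact pow_mem hk j

theorem C_mul_eq {a b : G} (h : Commute a b) (hc : (orderOf a).Coprime (orderOf b)) :
    C[a * b] = C[a] ⊓ C[b] := by
  refine le_antisymm (fun c hc' => ?_) fun c hc' => mem_C.2 ((mem_C.1 hc'.1).mul_right (mem_C.1 hc'.2))
  have h1 : Commute c a := by
    obtain ⟨j, hj⟩ := exists_pow_eq_self_of_coprime hc.symm
    have := (mem_C.1 hc').pow_right (orderOf b)
    rw [h.mul_pow, pow_orderOf_eq_one, mul_one] at this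
    rw [← hj]
    exact this.pow_right j
  refine ⟨mem_C.2 h1, mem_C.2 ?_⟩
  simpa using h1.inv_right.mul_right (mem_C.1 hc')

theorem idx_conj (g x : G) [Finite G] : idx (g * x * g⁻¹) = idx x :=
  QBaer.index_centralizer_conj_eq g x

theorem mem_center_conj {g x : G} : g * x * g⁻¹ ∈ Subgroup.center G ↔ x ∈ Subgroup.center G := by
  refine ⟨fun h => ?_, fun h => (inferInstance : (Subgroup.center G).Normal).conj_mem x h g⟩
  simpa [mul_assoc] using (inferInstance : (Subgroup.center G).Normal).conj_mem _ h g⁻¹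

variable [Finite G]

theorem idx_pos (g : G) : 0 < idx g := Nat.pos_of_ne_zero Subgroup.index_ne_zero_of_finite

theorem idx_dvd_of_le {a b : G} (h : C[a] ≤ C[b]) : idx b ∣ idx a := Subgroup.index_dvd_of_le h

theorem C_eq_of_le_of_idx {a b : G} (h : C[a] ≤ C[b]) (he : idx a = idx b) : C[a] = C[b] := by
  refine le_antisymm h (Subgroup.relIndex_eq_one.1 ?_)
  have h1 := Subgroup.relIndex_mul_index h
  change idx a = idx b at he
  exact Nat.eq_of_mul_eq_mul_right (idx_pos b) (by rw [one_mul]; exact h1.trans he)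

theorem index_inf_of_coprime {A B : Subgroup G} (h : A.index.Coprime B.index) :
    (A ⊓ B).index = A.index * B.index := by
  refine le_antisymm (Subgroup.index_inf_le) (Nat.le_of_dvd
    (Nat.pos_of_ne_zero Subgroup.index_ne_zero_of_finite) ?_)
  exact h.mul_dvd_of_dvd_of_dvd (Subgroup.index_dvd_of_le inf_le_left)
    (Subgroup.index_dvd_of_le inf_le_right)

/-- A subgroup containing, for each prime dividing its index in `H`, all elements of `H` of
that prime power order, contains `H`. -/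
theorem le_of_primes {H K : Subgroup G}
    (h : ∀ q : ℕ, q.Prime → q ∣ K.relIndex H → ∀ u ∈ H, (∃ e, orderOf u = q ^ e) → u ∈ K) :
    H ≤ K := by
  rw [← Subgroup.relIndex_eq_one]
  by_contra hne
  obtain ⟨q, hq, hdvd⟩ := Nat.exists_prime_and_dvd hne
  haveI := Fact.mk hq
  obtain ⟨S⟩ : Nonempty (Sylow q ↥H) := inferInstance
  have hS : (S : Subgroup ↥H) ≤ K.subgroupOf H := by
    intro u hu
    obtain ⟨e, he⟩ := (IsPGroup.iff_orderOf.1 S.isPGroup') ⟨u, hu⟩
    exact h q hq hdvd u.1 u.2 ⟨e, by rwa [Subgroup.orderOf_mk, ← Subgroup.orderOf_coe] at he⟩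
  exact S.not_dvd_index (hdvd.trans (Subgroup.index_dvd_of_le hS))

/-- A noncentral element has a noncentral power of prime power order. -/
theorem exists_noncentral_primary {g : G} (hg : g ∉ Subgroup.center G) :
    ∃ q k e : ℕ, q.Prime ∧ orderOf (g ^ k) = q ^ e ∧ g ^ k ∉ Subgroup.center G := by
  by_contra hcon
  push Not at hcon
  refine hg ((le_of_primes (H := Subgroup.zpowers g) (K := Subgroup.center G)
    fun q hq _ u hu ⟨e, he⟩ => ?_) (Subgroup.mem_zpowers g))
  obtain ⟨k, rfl⟩ := mem_powers_iff_mem_zpowers.2 hu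
  exact hcon q k e hq he

/-- The splitting of an element into its part with primes dividing `m` and the rest. -/
theorem exists_split (g : G) (m : ℕ) :
    ∃ k₁ k₂ : ℕ, g ^ k₁ * g ^ k₂ = g ∧ (∃ e, orderOf (g ^ k₁) ∣ m ^ e) ∧
      (orderOf (g ^ k₂)).Coprime m := by
  have key : ∀ o : ℕ, o ≠ 0 → ∃ A B e, o = A * B ∧ A ∣ m ^ e ∧ B.Coprime m := by
    intro o
    induction o using Nat.strong_induction_on with
    | _ o ih =>
      intro ho
      by_cases hc : o.Coprime m
      · exact ⟨1, o, 0, (one_mul o).symm, one_dvd _, hc⟩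
      · obtain ⟨o', ho'⟩ := Nat.gcd_dvd_left o m
        have hd : 1 < o.gcd m := by
          have := Nat.gcd_pos_of_pos_left m (Nat.pos_of_ne_zero ho)
          rw [Nat.Coprime] at hc; omega
        generalize hgd : o.gcd m = d at ho' hd
        have ho0 : o' ≠ 0 := by rintro rfl; exact ho (by simpa using ho')
        obtain ⟨A, B, e, hAB, hA, hB⟩ := ih o' (by
          rw [ho']; exact lt_mul_of_one_lt_left (Nat.pos_of_ne_zero ho0) hd) ho0
        refine ⟨d * A, B, e + 1, by rw [ho', hAB, mul_assoc], ?_, hB⟩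
        rw [pow_succ']
        exact Nat.mul_dvd_mul (hgd ▸ Nat.gcd_dvd_right o m) hA
  obtain ⟨A, B, e, hAB, hA, hB⟩ := key _ (orderOf_pos g).ne'
  have hcop : A.Coprime B := ((hB.pow_right e).coprime_dvd_right hA).symm
  obtain ⟨u, hu1, hu2⟩ := Nat.chineseRemainder hcop 1 0
  obtain ⟨v, hv1, hv2⟩ := Nat.chineseRemainder hcop 0 1
  rw [Nat.modEq_zero_iff_dvd] at hu2 hv1
  refine ⟨u, v, ?_, ⟨e, dvd_trans ?_ hA⟩, Nat.Coprime.coprime_dvd_left ?_ hB⟩
  · rw [← pow_add]
    nth_rw 2 [← pow_one g]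
    rw [pow_eq_pow_iff_modEq, hAB]
    refine (Nat.modEq_and_modEq_iff_modEq_mul hcop).1 ⟨?_, ?_⟩
    · simpa using hu1.add ((Nat.modEq_zero_iff_dvd).2 hv1)
    · simpa using ((Nat.modEq_zero_iff_dvd).2 hu2).add hv2
  · refine orderOf_dvd_of_pow_eq_one ?_
    rw [← pow_mul]
    exact orderOf_dvd_iff_pow_eq_one.1 (by rw [hAB, mul_comm u]; exact Nat.mul_dvd_mul dvd_rfl hu2)
  · refine orderOf_dvd_of_pow_eq_one ?_
    rw [← pow_mul]
    exact orderOf_dvd_iff_pow_eq_one.1 (by rw [hAB]; exact Nat.mul_dvd_mul hv1 dvd_rfl)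

theorem C_split {g : G} {k₁ k₂ : ℕ} (h : g ^ k₁ * g ^ k₂ = g) :
    C[g] = C[g ^ k₁] ⊓ C[g ^ k₂] := by
  refine le_antisymm (le_inf (C_le_C_pow g k₁) (C_le_C_pow g k₂)) fun c hc => mem_C.2 ?_
  rw [← h]
  exact (mem_C.1 hc.1).mul_right (mem_C.1 hc.2)

/-- If an element of coprime order moves `a` by a translation it centralises, it fixes `a`. -/
theorem commute_of_conj_eq_mul {h a c : G} (hhc : Commute h c)
    (hcop : (orderOf h).Coprime (orderOf c)) (heq : h * a * h⁻¹ = c * a) : Commute h a := by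
  have key : ∀ i : ℕ, h ^ i * a * (h ^ i)⁻¹ = c ^ i * a := by
    intro i
    induction i with
    | zero => simp
    | succ i ih =>
      calc h ^ (i + 1) * a * (h ^ (i + 1))⁻¹ = h * (h ^ i * a * (h ^ i)⁻¹) * h⁻¹ := by
            rw [pow_succ']; group
        _ = (h * c ^ i * h⁻¹) * (h * a * h⁻¹) := by rw [ih]; group
        _ = c ^ i * (c * a) := by rw [heq, (hhc.pow_right i).eq, mul_inv_cancel_right]
        _ = c ^ (i + 1) * a := by rw [pow_succ, mul_assoc]
  have h1 := key (orderOf h)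
  rw [pow_orderOf_eq_one, inv_one, one_mul, mul_one, right_eq_mul] at h1
  have h2 := Nat.eq_one_of_dvd_coprimes hcop (orderOf_dvd_of_pow_eq_one h1) dvd_rfl
  rw [orderOf_eq_one_iff] at h2
  rw [h2, one_mul] at heq
  exact mul_inv_eq_iff_eq_mul.1 heq

/-- The subgroup generated by the elements `a⁻¹ a^g`. -/
def commSub (a : G) : Subgroup G :=
  Subgroup.closure (Set.range fun g : G => a⁻¹ * (g * a * g⁻¹))

omit [Finite G] in
theorem mem_commSub (a g : G) : a⁻¹ * (g * a * g⁻¹) ∈ commSub a :=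
  Subgroup.subset_closure ⟨g, rfl⟩

omit [Finite G] in
instance commSub_normal (a : G) : (commSub a).Normal := by
  refine ⟨fun t ht h => ?_⟩
  induction ht using Subgroup.closure_induction with
  | mem t ht =>
    obtain ⟨g, rfl⟩ := ht
    have e : h * (a⁻¹ * (g * a * g⁻¹)) * h⁻¹ =
        (a⁻¹ * (h * a * h⁻¹))⁻¹ * (a⁻¹ * (h * g * a * (h * g)⁻¹)) := by group
    rw [e]
    exact mul_mem (inv_mem (mem_commSub a h)) (mem_commSub a (h * g))
  | one => simp
  | mul x y _ _ hx hy =>
    have e : h * (x * y) * h⁻¹ = h * x * h⁻¹ * (h * y * h⁻¹) := by group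
    rw [e]; exact mul_mem hx hy
  | inv x _ hx =>
    have e : h * x⁻¹ * h⁻¹ = (h * x * h⁻¹)⁻¹ := by group
    rw [e]; exact inv_mem hx

/-- The product of two classes with centralisers of coprime index, when it is no larger
than the second one. -/
theorem card_commSub_dvd {a b : G} (hab : (idx a).Coprime (idx b))
    (hle : idx (a * b) ≤ idx b) : Nat.card (commSub a) ∣ idx b := by
  let S : Set G := {z | IsConj b z}
  have hcard : ∀ c : G, Nat.card {z | IsConj c z} = idx c := FgsB.card_isConj_eq_index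
  have hS : ∀ g z, z ∈ S → IsConj (a * b) (g * a * g⁻¹ * z) := by
    intro g z hz
    obtain ⟨h, rfl⟩ := isConj_iff.1 (hz : IsConj b z)
    obtain ⟨y, hy, hc⟩ := QBaer.exists_left_factor hab (h⁻¹ * g)
    refine isConj_iff.2 ⟨h * y, ?_⟩
    have hy' : y * b * y⁻¹ = b := by rw [(mem_C.1 hy).eq, mul_inv_cancel_right]
    have hc' : y⁻¹ * (h⁻¹ * g) * a * (y⁻¹ * (h⁻¹ * g))⁻¹ = a := by
      rw [(mem_C.1 hc).eq, mul_inv_cancel_right]
    calc h * y * (a * b) * (h * y)⁻¹
        = h * y * a * y⁻¹ * h⁻¹ * (h * (y * b * y⁻¹) * h⁻¹) := by group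
      _ = h * y * (y⁻¹ * (h⁻¹ * g) * a * (y⁻¹ * (h⁻¹ * g))⁻¹) * y⁻¹ * h⁻¹ *
          (h * b * h⁻¹) := by rw [hy', hc']
      _ = g * a * g⁻¹ * (h * b * h⁻¹) := by group
  let f : G → {z | IsConj b z} → {z | IsConj (a * b) z} :=
    fun g z => ⟨g * a * g⁻¹ * z.1, hS g z.1 z.2⟩
  have hf : ∀ g, Function.Bijective (f g) := fun g =>
    Function.Injective.bijective_of_nat_card_le
      (fun z z' hzz => Subtype.ext (mul_left_cancel (congrArg Subtype.val hzz :)))
      (by rw [hcard, hcard]; exact hle)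
  have hgen : ∀ g, ∀ z ∈ S, a⁻¹ * (g * a * g⁻¹) * z ∈ S := by
    intro g z hz
    obtain ⟨w, hw⟩ := (hf 1).2 (f g ⟨z, hz⟩)
    have hwe : a * w.1 = g * a * g⁻¹ * z := by
      have := congrArg Subtype.val hw
      simpa [f] using this
    have e : a⁻¹ * (g * a * g⁻¹) * z = w.1 := by rw [mul_assoc, ← hwe, inv_mul_cancel_left]
    rw [e]; exact w.2
  have hstab : ∀ t ∈ commSub a, ∀ z, z ∈ S ↔ t * z ∈ S := by
    intro t ht
    induction ht using Subgroup.closure_induction with
    | mem t ht =>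
      obtain ⟨g, rfl⟩ := ht
      intro z
      refine ⟨hgen g z, fun h => ?_⟩
      let e : S → S := fun w => ⟨a⁻¹ * (g * a * g⁻¹) * w.1, hgen g w.1 w.2⟩
      have he : Function.Injective e := fun w w' hww =>
        Subtype.ext (mul_left_cancel (congrArg Subtype.val hww :))
      obtain ⟨w, hw⟩ := (Finite.injective_iff_surjective.1 he) ⟨_, h⟩
      rw [← mul_left_cancel (congrArg Subtype.val hw :)]
      exact w.2
    | one => simp
    | mul x y _ _ hx hy => intro z; rw [mul_assoc, hy z, hx (y * z)]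
    | inv x _ hx => intro z; rw [hx (x⁻¹ * z), mul_inv_cancel_left]
  have hpre : QuotientGroup.mk (s := commSub a) ⁻¹' (QuotientGroup.mk (s := commSub a) '' S) = S := by
    ext w
    refine ⟨fun ⟨z, hz, he⟩ => ?_, fun hw => ⟨w, hw, rfl⟩⟩
    have h1 : w * z⁻¹ ∈ commSub a := by
      have := (commSub_normal a).conj_mem _ (QuotientGroup.eq.1 he) z
      rwa [mul_inv_cancel_left] at this
    simpa using (hstab _ h1 z).1 hz
  refine ⟨Nat.card ↥(QuotientGroup.mk (s := commSub a) '' S), ?_⟩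
  rw [← hcard b, ← Nat.card_prod]
  refine Nat.card_congr ?_
  refine Equiv.trans ?_ (QuotientGroup.preimageMkEquivSubgroupProdSet (commSub a) _)
  exact Equiv.setCongr hpre.symm

/-- A normal subgroup of order prime to the class size of `a` centralises `a`. -/
theorem le_C_of_coprime {T : Subgroup G} [hT : T.Normal] {a : G}
    (h : (Nat.card T).Coprime (idx a)) : T ≤ C[a] := by
  have hn : C[a] ≤ Subgroup.normalizer (T : Set G) := by
    rw [Subgroup.normalizer_eq_top_iff.2 hT]; exact le_top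
  have h1 := CfsgLib.Coprime.relIndex_dvd_of_normalizes (L := ⊤) (le_top : C[a] ≤ ⊤) le_top hn
  rw [Subgroup.relIndex_top_right] at h1
  have h2 : (C[a] ⊓ T).relIndex T = 1 :=
    Nat.eq_one_of_dvd_coprimes h (Subgroup.relIndex_dvd_card _ _) h1
  exact (Subgroup.relIndex_eq_one.1 h2).trans inf_le_left

/-- The translation subgroup of an element it centralises is abelian. -/
theorem commute_commSub {a : G} (h : commSub a ≤ C[a]) {s t : G} (hs : s ∈ commSub a)
    (ht : t ∈ commSub a) : Commute s t := by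
  have key : ∀ g, Commute t (g * a * g⁻¹) := by
    intro g
    have h1 : g⁻¹ * t * g ∈ commSub a := by
      simpa using (commSub_normal a).conj_mem t ht g⁻¹
    calc t * (g * a * g⁻¹) = g * ((g⁻¹ * t * g) * a) * g⁻¹ := by group
      _ = g * (a * (g⁻¹ * t * g)) * g⁻¹ := by rw [(mem_C.1 (h h1)).eq]
      _ = g * a * g⁻¹ * t := by group
  induction hs using Subgroup.closure_induction with
  | mem s hs =>
    obtain ⟨g, rfl⟩ := hs
    have h1 : Commute t a := by simpa using key 1
    exact (h1.inv_right.mul_right (key g)).symm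
  | one => exact Commute.one_left t
  | mul x y _ _ hx hy => exact hx.mul_left hy
  | inv x _ hx => exact hx.inv_left

/-- An element of order prime to that of a translation subgroup it centralises is central. -/
theorem mem_center_of_commSub {a : G} {N : ℕ} (h : commSub a ≤ C[a])
    (hN : Nat.card (commSub a) ∣ N) (hc : (orderOf a).Coprime N) : a ∈ Subgroup.center G := by
  rw [Subgroup.mem_center_iff]
  intro g
  have ht := mem_commSub a g
  generalize he : a⁻¹ * (g * a * g⁻¹) = t at ht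
  have hg : g * a * g⁻¹ = a * t := by rw [← he]; group
  have h1 : t ^ orderOf a = 1 := by
    have h2 : (g * a * g⁻¹) ^ orderOf a = 1 := by rw [conj_pow, pow_orderOf_eq_one]; group
    rwa [hg, (mem_C.1 (h ht)).symm.mul_pow, pow_orderOf_eq_one, one_mul] at h2
  have h3 := Nat.eq_one_of_dvd_coprimes hc (orderOf_dvd_of_pow_eq_one h1)
    ((Subgroup.orderOf_dvd_natCard _ ht).trans hN)
  rw [orderOf_eq_one_iff] at h3
  rw [h3, mul_one] at hg
  exact mul_inv_eq_iff_eq_mul.1 hg

/-- An element of order prime to `|T|` centralising `T = commSub a ≤ C(a)` fixes `a`. -/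
theorem mem_C_of_centralizes_commSub {a h : G} {N : ℕ} (hT : commSub a ≤ C[a])
    (hN : Nat.card (commSub a) ∣ N) (hc : (orderOf h).Coprime N)
    (hh : h ∈ Subgroup.centralizer (commSub a : Set G)) : h ∈ C[a] := by
  have ht := mem_commSub a h
  generalize he : a⁻¹ * (h * a * h⁻¹) = t at ht
  refine mem_C.2 (commute_of_conj_eq_mul (c := t) ((Subgroup.mem_centralizer_iff.1 hh t ht).symm)
    (hc.coprime_dvd_right ((Subgroup.orderOf_dvd_natCard _ ht).trans hN)) ?_)
  rw [(mem_C.1 (hT ht)).eq, ← he]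
  group

/-- A `q`-element with `q` not dividing the index of `H` is conjugate into `H`. -/
theorem exists_conj_mem {H : Subgroup G} {u : G} {q e : ℕ} (hq : q.Prime)
    (hu : orderOf u = q ^ e) (hH : ¬ q ∣ H.index) : ∃ g : G, g⁻¹ * u * g ∈ H := by
  haveI := Fact.mk hq
  have hp : IsPGroup q (Subgroup.zpowers u) :=
    IsPGroup.of_card (n := e) (by rw [Nat.card_zpowers, hu])
  obtain ⟨p, hp⟩ := hp.nonempty_fixed_point_of_prime_not_dvd_card (G ⧸ H)
    (by rwa [← Subgroup.index_eq_card])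
  obtain ⟨g, rfl⟩ := QuotientGroup.mk_surjective p
  have h1 : QuotientGroup.mk (s := H) (u * g) = QuotientGroup.mk g :=
    hp ⟨u, Subgroup.mem_zpowers u⟩
  exact ⟨g, by simpa [mul_assoc] using QuotientGroup.eq.1 h1.symm⟩

theorem orderOf_pow_dvd' (g : G) (k : ℕ) : orderOf (g ^ k) ∣ orderOf g :=
  orderOf_dvd_of_pow_eq_one (by rw [← pow_mul, mul_comm, pow_mul, pow_orderOf_eq_one, one_pow])

end CfsgLib.CharApps.ClassSizes
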