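import Cfsg.Agent.Lib.CharApps.ClassSizes.Basic

/-!
# Groups whose two largest class sizes are coprime: arithmetic of the centralisers
-/

set_option autoImplicit false
set_option linter.style.haveILetI false

namespace CfsgLib.CharApps.ClassSizes

variable {G : Type*} [Group G] [Finite G]

local notation "C[" g "]" => Subgroup.centralizer ({g} : Set G)
local notation "Z" => Subgroup.center G

/-- `x` and `y` realise the two largest class sizes `n < m`, which are coprime. -/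
structure Top (m n : ℕ) (x y : G) : Prop where
  hmn : n < m
  hn : 1 < n
  hcop : m.Coprime n
  htop : ∀ z : G, idx z ≤ m
  hsec : ∀ z : G, idx z < m → idx z ≤ n
  hx : idx x = n
  hy : idx y = m

namespace Top

variable {m n : ℕ} {x y : G} (S : Top m n x y)
include S

theorem em (z : G) : idx z = m ∨ idx z ≤ n :=
  (lt_or_eq_of_le (S.htop z)).symm.imp_right (S.hsec z)

theorem not_n_dvd_m : ¬ n ∣ m := fun h => by
  have h1 := Nat.eq_one_of_dvd_coprimes S.hcop h dvd_rfl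
  have := S.hn
  omega

theorem not_m_dvd_n : ¬ m ∣ n := fun h => by
  have := Nat.le_of_dvd (by have := S.hn; omega) h
  have := S.hmn
  omega

theorem eq_m_of_dvd {z : G} (h : m ∣ idx z) : idx z = m :=
  le_antisymm (S.htop z) (Nat.le_of_dvd (idx_pos z) h)

theorem eq_n_of_dvd {z : G} (h : n ∣ idx z) : idx z = n := by
  rcases S.em z with hm | hle
  · exact absurd (hm ▸ h) S.not_n_dvd_m
  · exact le_antisymm hle (Nat.le_of_dvd (idx_pos z) h)

theorem commSub_dvd {a : G} (ha : (idx a).Coprime m) : Nat.card (commSub a) ∣ m := by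
  rw [← S.hy]
  refine card_commSub_dvd (b := y) (by rw [S.hy]; exact ha) ?_
  rw [S.hy]
  exact S.htop _

theorem commSub_le {a : G} (ha : (idx a).Coprime m) : commSub a ≤ C[a] :=
  le_C_of_coprime (Nat.Coprime.coprime_dvd_left (S.commSub_dvd ha) ha.symm)

/-- An element of order prime to `m` with class size prime to `m` is central. -/
theorem mem_center_of_coprime {a : G} (ha : (idx a).Coprime m) (ho : (orderOf a).Coprime m) :
    a ∈ Z :=
  mem_center_of_commSub (S.commSub_le ha) (S.commSub_dvd ha) ho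

theorem normalise : ∃ x' : G, Top m n x' y ∧ C[x'] = C[x] ∧ ∃ e, orderOf x' ∣ m ^ e := by
  obtain ⟨k₁, k₂, hk, he, hc⟩ := exists_split x m
  have hle : (idx (x ^ k₂)).Coprime m :=
    Nat.Coprime.coprime_dvd_left (idx_dvd_of_le (C_le_C_pow x k₂)) (by rw [S.hx]; exact S.hcop.symm)
  have hz := S.mem_center_of_coprime hle hc
  have hC : C[x ^ k₁] = C[x] := by
    conv_rhs => rw [← hk]
    exact (C_eq_of_mul_center hz).symm
  refine ⟨x ^ k₁, ⟨S.hmn, S.hn, S.hcop, S.htop, S.hsec, ?_, S.hy⟩, hC, he⟩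
  rw [idx, hC]
  exact S.hx

/-- A noncentral element with class size prime to `n` has class size `m`. -/
theorem idx_eq_m {e : ℕ} (hxo : orderOf x ∣ m ^ e) {b : G} (hb : (idx b).Coprime n)
    (hbZ : b ∉ Z) : idx b = m := by
  have hinf : C[b] ⊓ C[x] ≤ C[b * x] := fun c hc =>
    mem_C.2 ((mem_C.1 hc.1).mul_right (mem_C.1 hc.2))
  have hdvd : idx (b * x) ∣ idx b * n := by
    have h := Subgroup.index_dvd_of_le hinf
    rw [index_inf_of_coprime (by change (idx b).Coprime (idx x); rw [S.hx]; exact hb)] at h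
    change idx (b * x) ∣ idx b * idx x at h
    rwa [S.hx] at h
  rcases S.em (b * x) with hm | hle
  · rw [hm] at hdvd
    exact S.eq_m_of_dvd (S.hcop.dvd_of_dvd_mul_right hdvd)
  exfalso
  have hT : Nat.card (commSub b) ∣ n := by
    rw [← S.hx]
    exact card_commSub_dvd (by rw [S.hx]; exact hb) (by rw [S.hx]; exact hle)
  have hTb : commSub b ≤ C[b] := le_C_of_coprime (Nat.Coprime.coprime_dvd_left hT hb.symm)
  have hxm : (idx x).Coprime m := by rw [S.hx]; exact S.hcop.symm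
  have hTx := S.commSub_dvd hxm
  have hcomm : ⁅commSub b, commSub x⁆ = ⊥ :=
    le_bot_iff.1 ((Subgroup.commutator_le_inf _ _).trans (Base.inf_eq_bot_of_coprime
      ((S.hcop.symm.coprime_dvd_left hT).coprime_dvd_right hTx)).le)
  have hTC : commSub b ≤ Subgroup.centralizer (commSub x : Set G) :=
    Subgroup.commutator_eq_bot_iff_le_centralizer.1 hcomm
  have hcen : commSub b ≤ Z := by
    intro t ht
    have hto : (orderOf t).Coprime m :=
      S.hcop.symm.coprime_dvd_left ((Subgroup.orderOf_dvd_natCard _ ht).trans hT)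
    have htx := mem_C_of_centralizes_commSub (S.commSub_le hxm) hTx hto (hTC ht)
    have he : C[x * t] = C[x] ⊓ C[t] := C_mul_eq (mem_C.1 htx).symm
      (((hto.pow_right e).coprime_dvd_right hxo).symm)
    have hn1 : idx (x * t) = n :=
      S.eq_n_of_dvd (S.hx ▸ idx_dvd_of_le (he.le.trans inf_le_left))
    have heq := C_eq_of_le_of_idx (he.le.trans inf_le_left) (hn1.trans S.hx.symm)
    have hxt : C[x] ≤ C[t] := heq.symm.le.trans (he.le.trans inf_le_right)
    exact S.mem_center_of_coprime (hxm.coprime_dvd_left (idx_dvd_of_le hxt)) hto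
  have hne : idx b ≠ 1 := fun h => hbZ (idx_eq_one_iff.1 h)
  obtain ⟨q, hq, hqb⟩ := Nat.exists_prime_and_dvd hne
  haveI := Fact.mk hq
  obtain ⟨Q⟩ : Nonempty (Sylow q G) := inferInstance
  refine Q.not_dvd_index (hqb.trans (Subgroup.index_dvd_of_le fun g hg => ?_))
  obtain ⟨k, hk⟩ := (IsPGroup.iff_orderOf.1 Q.isPGroup') ⟨g, hg⟩
  rw [Subgroup.orderOf_mk] at hk
  refine mem_C_of_centralizes_commSub hTb hT ?_ ?_
  · rw [hk]
    exact (hb.coprime_dvd_left hqb).pow_left k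
  · exact Subgroup.mem_centralizer_iff.2 fun s hs => (Subgroup.mem_center_iff.1 (hcen hs) g).symm

/-- `y` may be replaced by an element of prime power order. -/
theorem exists_primary {e : ℕ} (hxo : orderOf x ∣ m ^ e) :
    ∃ (r : ℕ) (y' : G), r.Prime ∧ ¬ r ∣ m ∧ (∃ f, orderOf y' = r ^ f) ∧ Top m n x y' := by
  suffices ∃ (r : ℕ) (y' : G), r.Prime ∧ ¬ r ∣ m ∧ (∃ f, orderOf y' = r ^ f) ∧ idx y' = m by
    obtain ⟨r, y', h1, h2, h3, h4⟩ := this
    exact ⟨r, y', h1, h2, h3, ⟨S.hmn, S.hn, S.hcop, S.htop, S.hsec, S.hx, h4⟩⟩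
  obtain ⟨k₁, k₂, hk, ⟨e', he'⟩, hc⟩ := exists_split y m
  by_cases hz : y ^ k₂ ∈ Z
  · have hC : C[y ^ k₁] = C[y] := by
      conv_rhs => rw [← hk]
      exact (C_eq_of_mul_center hz).symm
    obtain ⟨q, hq, hqn⟩ := Nat.exists_prime_and_dvd (n := n) (by have := S.hn; omega)
    haveI := Fact.mk hq
    have hqm : ¬ q ∣ m := fun h =>
      hq.ne_one (Nat.eq_one_of_dvd_coprimes S.hcop h hqn)
    obtain ⟨Q⟩ : Nonempty (Sylow q G) := inferInstance
    have hQ : ¬ (Q : Subgroup G) ≤ C[x] := fun h => Q.not_dvd_index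
      ((hqn.trans (dvd_of_eq S.hx.symm)).trans (Subgroup.index_dvd_of_le h))
    obtain ⟨u, huQ, hu⟩ := SetLike.not_le_iff_exists.1 hQ
    have huZ : u ∉ Z := fun h => hu (center_le_C x h)
    obtain ⟨f, hf⟩ := (IsPGroup.iff_orderOf.1 Q.isPGroup') ⟨u, huQ⟩
    rw [Subgroup.orderOf_mk] at hf
    obtain ⟨g, hg⟩ := exists_conj_mem (H := C[y]) hq hf (by
      change ¬ q ∣ idx y; rw [S.hy]; exact hqm)
    have hu' : g⁻¹ * u * g ∉ Z := by simpa using (mem_center_conj (g := g⁻¹)).not.2 huZ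
    have hf' : orderOf (g⁻¹ * u * g) = q ^ f := by
      have h := (MulAut.conj g⁻¹).orderOf_eq u
      rw [MulAut.conj_apply, inv_inv] at h
      exact h.trans hf
    refine ⟨q, g⁻¹ * u * g, hq, hqm, ⟨f, hf'⟩, ?_⟩
    have hcomm : Commute (g⁻¹ * u * g) (y ^ k₁) := (mem_C.1 hg).pow_right k₁
    have he : C[g⁻¹ * u * g * y ^ k₁] = C[g⁻¹ * u * g] ⊓ C[y ^ k₁] := C_mul_eq hcomm (by
      rw [hf']
      exact Nat.Coprime.coprime_dvd_right he'
        (((hq.coprime_iff_not_dvd.2 hqm).pow_right e').pow_left f))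
    rw [hC] at he
    have hm1 : idx (g⁻¹ * u * g * y ^ k₁) = m :=
      S.eq_m_of_dvd (S.hy ▸ idx_dvd_of_le (he.le.trans inf_le_right))
    have hle : C[g⁻¹ * u * g * y ^ k₁] ≤ C[g⁻¹ * u * g] := he.le.trans inf_le_left
    exact S.idx_eq_m hxo (Nat.Coprime.coprime_dvd_left (hm1 ▸ idx_dvd_of_le hle) S.hcop) hu'
  · obtain ⟨q, k, f, hq, hf, hz'⟩ := exists_noncentral_primary hz
    refine ⟨q, _, hq, ?_, ⟨f, hf⟩, S.idx_eq_m hxo ?_ hz'⟩
    · intro hqm
      rcases Nat.eq_zero_or_pos f with rfl | hf0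
      · rw [pow_zero, orderOf_eq_one_iff] at hf
        exact hz' (hf ▸ one_mem _)
      · exact hq.ne_one (Nat.eq_one_of_dvd_coprimes hc
          (((dvd_pow_self q hf0.ne').trans (dvd_of_eq hf.symm)).trans (orderOf_pow_dvd' _ k)) hqm)
    · refine Nat.Coprime.coprime_dvd_left (idx_dvd_of_le (C_le_C_pow _ k)) ?_
      exact Nat.Coprime.coprime_dvd_left (S.hy ▸ idx_dvd_of_le (C_le_C_pow y k₂)) S.hcop

end Top

/-- The normalised situation: `x` has order dividing a power of `m`, `y` is an `r`-element. -/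
structure Std (m n r : ℕ) (x y : G) : Prop extends Top m n x y where
  hxo : ∃ e, orderOf x ∣ m ^ e
  hr : r.Prime
  hrm : ¬ r ∣ m
  hyo : ∃ f, orderOf y = r ^ f

namespace Std

variable {m n r : ℕ} {x y : G} (S : Std m n r x y)
include S

theorem eq_m {b : G} (hb : (idx b).Coprime n) (hbZ : b ∉ Z) : idx b = m := by
  obtain ⟨e, he⟩ := S.hxo
  exact S.idx_eq_m he hb hbZ

theorem idx_x_coprime : (idx x).Coprime m := by rw [S.hx]; exact S.hcop.symm

theorem y_ord_coprime_m : (orderOf y).Coprime m := by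
  obtain ⟨f, hf⟩ := S.hyo
  rw [hf]
  exact ((S.hr.coprime_iff_not_dvd).2 S.hrm).pow_left f

theorem ord_coprime_x {z : G} (h : (orderOf z).Coprime m) : (orderOf x).Coprime (orderOf z) := by
  obtain ⟨e, he⟩ := S.hxo
  exact ((h.pow_right e).coprime_dvd_right he).symm

theorem x_notMem : x ∉ C[y] := by
  intro h
  have he : C[x * y] = C[x] ⊓ C[y] := C_mul_eq (mem_C.1 h) (S.ord_coprime_x S.y_ord_coprime_m)
  have h1 := S.eq_n_of_dvd (S.hx ▸ idx_dvd_of_le (he.le.trans inf_le_left))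
  have h2 := S.eq_m_of_dvd (S.hy ▸ idx_dvd_of_le (he.le.trans inf_le_right))
  have := S.hmn
  omega

theorem inf_eq_center : C[x] ⊓ C[y] = Z := by
  refine le_antisymm ?_ (le_inf (center_le_C x) (center_le_C y))
  intro d hd
  obtain ⟨k₁, k₂, hk, ⟨e', he'⟩, hc⟩ := exists_split d m
  rw [← hk]
  refine mul_mem ?_ ?_
  · by_contra hd1
    have hcomm : Commute (d ^ k₁) y := (mem_C.1 hd.2).pow_left k₁
    have he : C[d ^ k₁ * y] = C[d ^ k₁] ⊓ C[y] := C_mul_eq hcomm
      ((S.y_ord_coprime_m.pow_right e').coprime_dvd_right he').symm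
    have hm1 := S.eq_m_of_dvd (S.hy ▸ idx_dvd_of_le (he.le.trans inf_le_right))
    have heq := C_eq_of_le_of_idx (he.le.trans inf_le_right) (hm1.trans S.hy.symm)
    have hle : C[y] ≤ C[d ^ k₁] := heq.symm.le.trans (he.le.trans inf_le_left)
    have hdm := S.eq_m (Nat.Coprime.coprime_dvd_left (S.hy ▸ idx_dvd_of_le hle) S.hcop) hd1
    have hx : x ∈ C[d ^ k₁] := mem_C.2 ((mem_C.1 hd.1).pow_left k₁).symm
    rw [← C_eq_of_le_of_idx hle (S.hy.trans hdm.symm)] at hx
    exact S.x_notMem hx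
  · have hcomm : Commute x (d ^ k₂) := ((mem_C.1 hd.1).pow_left k₂).symm
    have he : C[x * d ^ k₂] = C[x] ⊓ C[d ^ k₂] := C_mul_eq hcomm (S.ord_coprime_x hc)
    have hn1 := S.eq_n_of_dvd (S.hx ▸ idx_dvd_of_le (he.le.trans inf_le_left))
    have heq := C_eq_of_le_of_idx (he.le.trans inf_le_left) (hn1.trans S.hx.symm)
    exact S.mem_center_of_coprime
      (S.idx_x_coprime.coprime_dvd_left
        (idx_dvd_of_le (heq.symm.le.trans (he.le.trans inf_le_right)))) hc

theorem index_center : (Z).index = n * m := by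
  rw [← S.inf_eq_center, index_inf_of_coprime]
  · change idx x * idx y = n * m
    rw [S.hx, S.hy]
  · change (idx x).Coprime (idx y)
    rw [S.hx, S.hy]
    exact S.hcop.symm

theorem relIndex_center {g : G} {a b : ℕ} (hg : idx g = a) (hab : a * b = n * m) :
    (Z).relIndex C[g] = b := by
  have h := Subgroup.relIndex_mul_index (center_le_C (G := G) g)
  change (Z).relIndex C[g] * idx g = (Z).index at h
  rw [hg, S.index_center, ← hab, mul_comm a b] at h
  exact Nat.eq_of_mul_eq_mul_right (hg ▸ idx_pos g) h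

theorem pow_mem_center {g h : G} {a b : ℕ} (hg : idx g = a) (hab : a * b = n * m)
    (hh : h ∈ C[g]) : h ^ b ∈ Z := by
  haveI : ((Z).subgroupOf C[g]).Normal := inferInstance
  have h1 := Subgroup.pow_index_mem ((Z).subgroupOf C[g]) (⟨h, hh⟩ : C[g])
  rw [← Subgroup.relIndex, S.relIndex_center hg hab] at h1
  exact Subgroup.mem_subgroupOf.1 h1

theorem pow_n_mem {g h : G} (hg : idx g = m) (hh : h ∈ C[g]) : h ^ n ∈ Z :=
  S.pow_mem_center hg (mul_comm m n) hh

theorem pow_m_mem {g h : G} (hg : idx g = n) (hh : h ∈ C[g]) : h ^ m ∈ Z :=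
  S.pow_mem_center hg rfl hh

/-- An element of `C(y)` with order dividing a power of `m` is central. -/
theorem mem_center_of_m {g h : G} (hg : idx g = m) (hh : h ∈ C[g]) {e : ℕ}
    (ho : orderOf h ∣ m ^ e) : h ∈ Z :=
  mem_center_of_pow (S.pow_n_mem hg hh) ((S.hcop.symm.pow_right e).coprime_dvd_right ho)

/-- An element of `C(x)` of order prime to `m` is central. -/
theorem mem_center_of_n {g h : G} (hg : idx g = n) (hh : h ∈ C[g])
    (ho : (orderOf h).Coprime m) : h ∈ Z :=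
  mem_center_of_pow (S.pow_m_mem hg hh) ho.symm

end Std

theorem Top.exists_std {m n : ℕ} {x y : G} (S : Top m n x y) :
    ∃ (r : ℕ) (x' y' : G), Std m n r x' y' ∧ C[x'] = C[x] ∧ C[y'] = C[y] := by
  obtain ⟨x', S', hCx, e, he⟩ := S.normalise
  obtain ⟨r, y₀, hr, hrm, hy₀, S''⟩ := S'.exists_primary he
  have S₀ : Std m n r x' y₀ := ⟨S'', ⟨e, he⟩, hr, hrm, hy₀⟩
  obtain ⟨k₁, k₂, hk, ⟨e', he'⟩, hc⟩ := exists_split y m
  have h1 : y ^ k₁ ∈ Z := S₀.mem_center_of_m S.hy (pow_mem (self_mem_C y) k₁) he'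
  have hyZ : y ^ k₂ ∉ Z := by
    intro h
    have h' : idx y = 1 := idx_eq_one_iff.2 (hk ▸ mul_mem h1 h)
    have := S.hy
    have := S.hmn
    have := S.hn
    omega
  obtain ⟨q, k, f, hq, hf, hz'⟩ := exists_noncentral_primary hyZ
  have hle : C[y] ≤ C[(y ^ k₂) ^ k] := (C_le_C_pow y k₂).trans (C_le_C_pow _ k)
  have hm := S₀.eq_m (Nat.Coprime.coprime_dvd_left (S.hy ▸ idx_dvd_of_le hle) S.hcop) hz'
  have hqm : ¬ q ∣ m := by
    intro hqm
    exact hz' (S₀.mem_center_of_m S.hy (pow_mem (pow_mem (self_mem_C y) k₂) k)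
      (e := f) (by rw [hf]; exact pow_dvd_pow_of_dvd hqm f))
  exact ⟨q, x', (y ^ k₂) ^ k,
    ⟨⟨S.hmn, S.hn, S.hcop, S.htop, S.hsec, S'.hx, hm⟩, ⟨e, he⟩, hq, hqm, ⟨f, hf⟩⟩, hCx,
    (C_eq_of_le_of_idx hle (S.hy.trans hm.symm)).symm⟩

end CfsgLib.CharApps.ClassSizes
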