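import Cfsg.Agent.Lib.CharApps.ClassSizes.CoprimeTop
import Cfsg.Agent.Lib.Base.Frobenius

/-!
# Groups whose two largest class sizes are coprime: structure
-/

set_option autoImplicit false
set_option linter.style.haveILetI false

open scoped Pointwise

namespace CfsgLib.CharApps.ClassSizes

variable {G : Type*} [Group G] [Finite G]

local notation "C[" g "]" => Subgroup.centralizer ({g} : Set G)
local notation "Z" => Subgroup.center G

namespace Std

variable {m n r : ℕ} {x y : G} (S : Std m n r x y)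
include S

/-- `[x, G]` is normal of order dividing `m` and centralised by `x`. -/
theorem T_dvd : Nat.card (commSub x) ∣ m := S.commSub_dvd S.idx_x_coprime

theorem T_le : commSub x ≤ C[x] := S.commSub_le S.idx_x_coprime

theorem sup_eq (R : Subgroup G) (hR : R ≤ C[y]) (hRr : ¬ r ∣ R.relIndex C[y])
    (hone : ∀ q : ℕ, q.Prime → q ≠ r → ∀ v ∈ C[y], (∃ e, orderOf v = q ^ e) → v ∈ Z) :
    R ⊔ Z = C[y] := by
  refine le_antisymm (sup_le hR (center_le_C y)) (le_of_primes ?_)
  intro q hq hdvd v hv hve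
  rcases eq_or_ne q r with rfl | hne
  · exact absurd (hdvd.trans (Subgroup.relIndex_dvd_of_le_left _ le_sup_left)) hRr
  · exact Subgroup.mem_sup_right (hone q hq hne v hv hve)

/-- The translation argument: an `r`-element has no class of size at most `n` when `C(y)` is an
`r`-group modulo the centre. -/
theorem idx_r_element {u : G} {e : ℕ} (hu : orderOf u = r ^ e) (huy : u ∈ C[y]) (huZ : u ∉ Z)
    (hone : ∀ q : ℕ, q.Prime → q ≠ r → ∀ v ∈ C[y], (∃ e, orderOf v = q ^ e) → v ∈ Z) :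
    idx u = m := by
  haveI : Fact r.Prime := ⟨S.hr⟩
  -- a Sylow subgroup `R` containing `u`
  have hu' : IsPGroup r (Subgroup.zpowers (⟨u, huy⟩ : C[y])) :=
    IsPGroup.of_card (n := e) (by rw [Nat.card_zpowers, Subgroup.orderOf_mk, hu])
  obtain ⟨R₀, hR₀⟩ := hu'.exists_le_sylow
  set R : Subgroup G := (R₀ : Subgroup C[y]).map C[y].subtype with hRdef
  have hRle : R ≤ C[y] := Subgroup.map_subtype_le _
  have huR : u ∈ R := ⟨⟨u, huy⟩, hR₀ (Subgroup.mem_zpowers _), rfl⟩
  have hRp : IsPGroup r R := R₀.isPGroup'.map _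
  have hRi : ¬ r ∣ R.relIndex C[y] := by
    rw [Subgroup.relIndex, Subgroup.subgroupOf, hRdef,
      Subgroup.comap_map_eq_self_of_injective C[y].subtype_injective]
    exact R₀.not_dvd_index
  have hsup := S.sup_eq R hRle hRi hone
  -- coprimality with `T`
  set T := commSub x with hT
  haveI hTn : T.Normal := commSub_normal x
  obtain ⟨k, hk⟩ := IsPGroup.iff_card.1 hRp
  have hRT : (Nat.card R).Coprime (Nat.card T) := by
    rw [hk]
    exact (((S.hr.coprime_iff_not_dvd).2 S.hrm).pow_left k).coprime_dvd_right S.T_dvd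
  have hTab : ∀ s ∈ T, ∀ t ∈ T, Commute s t := fun s hs t ht => commute_commSub S.T_le hs ht
  -- `x` is central times an element `t` of `T`
  have hRn : R ≤ Subgroup.normalizer (T : Set G) := by
    rw [Subgroup.normalizer_eq_top_iff.2 hTn]; exact le_top
  obtain ⟨c, hcR, hct⟩ := CfsgLib.Coprime.exists_centralizing_in_coset (k := x) hRn hRT
    (Or.inl (by haveI := hRp.isNilpotent; infer_instance)) (fun a _ => mem_commSub x a)
  set t := x⁻¹ * c with ht
  have hRc : C[y] ≤ C[c] := by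
    rw [← hsup]
    exact sup_le (fun h hh => mem_C.2 (Subgroup.mem_centralizer_iff.1 hcR h hh)) (center_le_C c)
  have hcZ : c ∈ Z := by
    by_contra hc
    have hcm := S.eq_m (Nat.Coprime.coprime_dvd_left (S.hy ▸ idx_dvd_of_le hRc) S.hcop) hc
    have heq := C_eq_of_le_of_idx hRc (S.hy.trans hcm.symm)
    have hcx : c ∈ C[x] := by
      have h : x * t ∈ C[x] := mul_mem (self_mem_C x) (S.T_le hct)
      rwa [ht, mul_inv_cancel_left] at h
    refine hc ?_
    rw [← S.inf_eq_center]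
    exact ⟨hcx, heq ▸ self_mem_C c⟩
  have hxe : x = t⁻¹ * c := by
    rw [ht, mul_inv_rev, inv_inv]
    have : Commute c⁻¹ x := (Subgroup.mem_center_iff.1 (inv_mem hcZ) x).symm
    rw [this.eq, mul_assoc, inv_mul_cancel, mul_one]
  have hfaith : ∀ h ∈ R, Commute h t → h ∈ Z := by
    intro h hh hc
    rw [← S.inf_eq_center]
    refine ⟨mem_C.2 ?_, hRle hh⟩
    rw [hxe]
    exact hc.inv_right.mul_right (Subgroup.mem_center_iff.1 hcZ h)
  -- the class of `u`
  rcases S.em u with hm | hle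
  · exact hm
  exfalso
  have hconj : ∀ g : G, ∀ s ∈ T, g * s * g⁻¹ ∈ T := fun g s hs => hTn.conj_mem s hs g
  let φ : T →* T := MonoidHom.mk'
    (fun s => ⟨(s : G) * (u * (s : G) * u⁻¹)⁻¹, mul_mem s.2 (inv_mem (hconj u s s.2))⟩)
    (fun a b => Subtype.ext (by
      change (a : G) * b * (u * ((a : G) * b) * u⁻¹)⁻¹ =
        (a : G) * (u * a * u⁻¹)⁻¹ * ((b : G) * (u * b * u⁻¹)⁻¹)
      have h1 : Commute ((b : G) * (u * b * u⁻¹)⁻¹) (u * a * u⁻¹)⁻¹ :=
        hTab _ (mul_mem b.2 (inv_mem (hconj u b b.2))) _ (inv_mem (hconj u a a.2))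
      calc (a : G) * b * (u * ((a : G) * b) * u⁻¹)⁻¹
          = (a : G) * (((b : G) * (u * b * u⁻¹)⁻¹) * (u * a * u⁻¹)⁻¹) := by group
        _ = (a : G) * ((u * a * u⁻¹)⁻¹ * ((b : G) * (u * b * u⁻¹)⁻¹)) := by rw [h1.eq]
        _ = _ := (mul_assoc _ _ _).symm))
  have hker : ∀ s : T, s ∈ φ.ker ↔ Commute u (s : G) := by
    intro s
    rw [MonoidHom.mem_ker, Subtype.ext_iff]
    change (s : G) * (u * s * u⁻¹)⁻¹ = 1 ↔ _
    rw [mul_inv_eq_one, eq_mul_inv_iff_mul_eq]
    exact ⟨fun h => h.symm, fun h => h.eq.symm⟩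
  have hdisj : Disjoint φ.range φ.ker := by
    rw [Subgroup.disjoint_def]
    rintro _ ⟨s, rfl⟩ hz
    have hzc := (hker _).1 hz
    refine Subtype.ext ?_
    change (s : G) * (u * s * u⁻¹)⁻¹ = 1
    have hco : (orderOf u).Coprime (orderOf ((φ s : T) : G)) := by
      rw [hu]
      exact (((S.hr.coprime_iff_not_dvd).2 S.hrm).pow_left e).coprime_dvd_right
        ((Subgroup.orderOf_dvd_natCard _ (φ s).2).trans S.T_dvd)
    have hcs : Commute u (s : G) := by
      refine commute_of_conj_eq_mul (c := ((φ s : T) : G)⁻¹) hzc.inv_right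
        (by rwa [orderOf_inv]) ?_
      change u * s * u⁻¹ = ((s : G) * (u * s * u⁻¹)⁻¹)⁻¹ * s
      group
    rw [hcs.eq, mul_inv_cancel_right, mul_inv_cancel]
  have hcardT : Nat.card φ.range * Nat.card φ.ker = Nat.card T := by
    rw [mul_comm, ← φ.ker.card_mul_index, Subgroup.index_ker]
  obtain ⟨⟨⟨t2, ht2⟩, ⟨t1, ht1⟩⟩, ht12⟩ :=
    (Subgroup.isComplement'_of_card_mul_and_disjoint hcardT hdisj).2 ⟨t, hct⟩
  have hte : (t2 : G) * t1 = t := congrArg Subtype.val ht12
  have hut1 : Commute u (t1 : G) := (hker _).1 ht1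
  -- the class of `u * t1`
  have hot : (orderOf u).Coprime (orderOf (t1 : G)) := by
    rw [hu]
    exact (((S.hr.coprime_iff_not_dvd).2 S.hrm).pow_left e).coprime_dvd_right
      ((Subgroup.orderOf_dvd_natCard _ t1.2).trans S.T_dvd)
  have hC := C_mul_eq hut1 hot
  have hle' : idx (u * t1) ≤ n := by
    rcases S.em (u * (t1 : G)) with hm | hle'
    · have hum := S.eq_m (Nat.Coprime.coprime_dvd_left
        (hm ▸ idx_dvd_of_le (hC.le.trans inf_le_left)) S.hcop) huZ
      have := S.hmn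
      omega
    · exact hle'
  -- the stabiliser `F`
  set F : Subgroup G := R ⊓ C[u] ⊓ C[(t1 : G)] with hF
  set R₁ : Subgroup G := R ⊓ Z with hR1
  have hR1F : R₁ ≤ F := le_inf (le_inf inf_le_left (inf_le_right.trans (center_le_C u)))
    (inf_le_right.trans (center_le_C _))
  haveI hR1n : R₁.Normal := ⟨fun z hz g => by
    rw [Subgroup.mem_center_iff.1 hz.2 g, mul_inv_cancel_right]; exact hz⟩
  have hact : ∀ f ∈ F, f * (t2 : G) * f⁻¹ ∈ φ.range.map T.subtype := by
    intro f hf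
    obtain ⟨s, hs⟩ := ht2
    refine ⟨φ ⟨f * s * f⁻¹, hconj f s s.2⟩, ⟨_, rfl⟩, ?_⟩
    rw [← hs]
    have hfu : Commute f u := mem_C.1 hf.1.2
    change f * (s : G) * f⁻¹ * (u * (f * s * f⁻¹) * u⁻¹)⁻¹ =
      f * ((s : G) * (u * s * u⁻¹)⁻¹) * f⁻¹
    have e1 : u * (f * (s : G) * f⁻¹) * u⁻¹ = f * (u * s * u⁻¹) * f⁻¹ := by
      calc u * (f * (s : G) * f⁻¹) * u⁻¹ = (u * f) * s * (u * f)⁻¹ := by group
        _ = (f * u) * s * (f * u)⁻¹ := by rw [hfu.symm.eq]
        _ = f * (u * s * u⁻¹) * f⁻¹ := by group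
    rw [e1]
    group
  let ψ : F ⧸ R₁.subgroupOf F → φ.range.map T.subtype :=
    Quotient.lift (fun f => ⟨f.1 * (t2 : G) * f.1⁻¹, hact f.1 f.2⟩) (by
      intro a b hab
      have h1 := Subgroup.mem_subgroupOf.1 (QuotientGroup.leftRel_apply.1 hab)
      refine Subtype.ext ?_
      have h2 : (b : G) = a * ((a : G)⁻¹ * b) := by group
      have h3 : Commute ((a : G)⁻¹ * b) t2 := (Subgroup.mem_center_iff.1 h1.2 _).symm
      change (a : G) * t2 * (a : G)⁻¹ = (b : G) * t2 * (b : G)⁻¹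
      rw [h2, mul_inv_rev, mul_assoc (a : G) _ (t2 : G), h3.eq]
      group)
  have hψ : Function.Injective ψ := by
    intro p q hpq
    induction p using Quotient.inductionOn with
    | h a => induction q using Quotient.inductionOn with
      | h b =>
        have he : (a : G) * t2 * (a : G)⁻¹ = (b : G) * t2 * (b : G)⁻¹ :=
          congrArg Subtype.val hpq
        refine Quotient.sound (QuotientGroup.leftRel_apply.2 (Subgroup.mem_subgroupOf.2 ?_))
        have hmem : (a : G)⁻¹ * b ∈ R ⊓ C[u] ⊓ C[(t1 : G)] := mul_mem (inv_mem a.2) b.2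
        refine ⟨hmem.1.1, hfaith _ hmem.1.1 ?_⟩
        rw [← hte]
        refine Commute.mul_right ?_ (mem_C.1 hmem.2)
        calc (a : G)⁻¹ * b * t2 = (a : G)⁻¹ * ((b : G) * t2 * (b : G)⁻¹) * b := by group
          _ = (a : G)⁻¹ * ((a : G) * t2 * (a : G)⁻¹) * b := by rw [he]
          _ = (t2 : G) * ((a : G)⁻¹ * b) := by group
  have ht2ne : (t2 : G) ≠ 1 := by
    intro h
    refine huZ (hfaith u huR ?_)
    rw [← hte, h, one_mul]
    exact hut1
  have hlt : R₁.relIndex F < Nat.card φ.range := by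
    have hcard : Nat.card ↥(φ.range.map T.subtype) = Nat.card φ.range :=
      Subgroup.card_map_of_injective T.subtype_injective
    rw [Subgroup.relIndex, Subgroup.index_eq_card, ← hcard]
    refine lt_of_le_of_ne (Nat.card_le_card_of_injective ψ hψ) fun heq => ht2ne ?_
    obtain ⟨p, hp⟩ := (hψ.bijective_of_nat_card_le heq.ge).2 1
    induction p using Quotient.inductionOn with
    | h a =>
      have h1 : (a : G) * t2 * (a : G)⁻¹ = 1 := congrArg Subtype.val hp
      simpa using h1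
  -- counting in `T ⊔ R`
  set A : Subgroup G := φ.ker.map T.subtype with hA
  have hbound : C[u * (t1 : G)] ⊓ (T ⊔ R) ≤ A ⊔ F := by
    intro g hg
    have hg' : g ∈ (↑(R ⊔ T) : Set G) := by rw [sup_comm]; exact hg.2
    rw [Subgroup.coe_mul_of_left_le_normalizer_right R T hRn] at hg'
    obtain ⟨h, hh, s, hs, rfl⟩ := Set.mem_mul.1 hg'
    have hgC : h * s ∈ C[u] ⊓ C[(t1 : G)] := hC ▸ hg.1
    have hhu : Commute h u := by
      have h1 : h⁻¹ * (u⁻¹ * h * u) ∈ R := mul_mem (inv_mem hh) (mul_mem (mul_mem (inv_mem huR) hh) huR)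
      have e : h⁻¹ * (u⁻¹ * h * u) = s * (u⁻¹ * s * u⁻¹⁻¹)⁻¹ := by
        calc h⁻¹ * (u⁻¹ * h * u) = h⁻¹ * (u⁻¹ * ((h * s) * u)) * (u⁻¹ * s * u)⁻¹ := by group
          _ = h⁻¹ * (u⁻¹ * (u * (h * s))) * (u⁻¹ * s * u)⁻¹ := by rw [(mem_C.1 hgC.1).eq]
          _ = _ := by group
      have h2 : h⁻¹ * (u⁻¹ * h * u) ∈ R ⊓ T :=
        Subgroup.mem_inf.2 ⟨h1, by rw [e]; exact mul_mem hs (inv_mem (hconj u⁻¹ s hs))⟩
      rw [Base.inf_eq_bot_of_coprime hRT, Subgroup.mem_bot, inv_mul_eq_one] at h2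
      calc h * u = u * (u⁻¹ * h * u) := by group
        _ = u * h := by rw [← h2]
    have hsu : Commute s u := by
      have := hhu.inv_left.mul_left (mem_C.1 hgC.1)
      rwa [inv_mul_cancel_left] at this
    have hst : Commute s (t1 : G) := hTab s hs _ t1.2
    have hht : Commute h (t1 : G) := by
      have := (mem_C.1 hgC.2).mul_left hst.inv_left
      rwa [mul_inv_cancel_right] at this
    exact mul_mem (Subgroup.mem_sup_right ⟨⟨hh, mem_C.2 hhu⟩, mem_C.2 hht⟩)
      (Subgroup.mem_sup_left ⟨⟨s, hs⟩, (hker _).2 hsu.symm, rfl⟩)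
  have hFA : A ≤ Subgroup.normalizer (T : Set G) := by
    rw [Subgroup.normalizer_eq_top_iff.2 hTn]; exact le_top
  have hcardA : Nat.card A = Nat.card φ.ker :=
    Subgroup.card_map_of_injective T.subtype_injective
  have hFnA : F ≤ Subgroup.normalizer (A : Set G) := by
    intro f hf
    have key : ∀ g ∈ F, ∀ a ∈ A, g * a * g⁻¹ ∈ A := by
      rintro g hg _ ⟨s, hs, rfl⟩
      refine ⟨⟨g * s * g⁻¹, hconj g s s.2⟩, (hker _).2 ?_, rfl⟩
      have hgu : Commute g u := mem_C.1 hg.1.2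
      exact (hgu.symm.mul_right ((hker _).1 hs)).mul_right hgu.symm.inv_right
    refine Subgroup.mem_normalizer_iff.2 fun a => ⟨key f hf a, fun ha => ?_⟩
    simpa [mul_assoc] using key f⁻¹ (inv_mem hf) _ ha
  have hS : Nat.card ↥(T ⊔ R) = Nat.card T * Nat.card R := by
    have := CfsgLib.Coprime.card_sup_mul_card_inf hRn
    rw [Base.inf_eq_bot_of_coprime hRT, Subgroup.card_bot, mul_one, sup_comm] at this
    rw [this, mul_comm]
  have hcount : Nat.card T * Nat.card R ≤ n * (Nat.card φ.ker * Nat.card F) := by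
    rw [← hS, ← Subgroup.card_mul_index ((C[u * (t1 : G)]).subgroupOf (T ⊔ R)), mul_comm n]
    refine Nat.mul_le_mul ?_ ?_
    · rw [← Subgroup.card_map_of_injective (T ⊔ R).subtype_injective,
        Subgroup.subgroupOf_map_subtype]
      refine (Subgroup.card_le_of_le hbound).trans ?_
      rw [← hcardA, mul_comm, sup_comm, ← CfsgLib.Coprime.card_sup_mul_card_inf hFnA]
      exact Nat.le_mul_of_pos_right _ Nat.card_pos
    · refine le_trans ?_ hle'
      rw [idx, ← Subgroup.relIndex_top_right (C[u * (t1 : G)])]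
      change (C[u * (t1 : G)]).relIndex (T ⊔ R) ≤ _
      exact Subgroup.relIndex_le_of_le_right le_top
        (by rw [Subgroup.relIndex_top_right]; exact Subgroup.index_ne_zero_of_finite)
  have hrel : R₁.relIndex R = n := by
    have h1 := Subgroup.relIndex_sup_right R Z
    rw [hsup, S.relIndex_center S.hy (mul_comm m n)] at h1
    rw [hR1, inf_comm, Subgroup.inf_relIndex_right, ← h1]
  have hR1c : Nat.card R₁ * n = Nat.card R := by
    rw [← hrel, ← Subgroup.relIndex_bot_left R₁, ← Subgroup.relIndex_bot_left R,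
      Subgroup.relIndex_mul_relIndex _ _ _ bot_le inf_le_left]
  have hFc : Nat.card R₁ * R₁.relIndex F = Nat.card F := by
    rw [← Subgroup.relIndex_bot_left R₁, ← Subgroup.relIndex_bot_left F,
      Subgroup.relIndex_mul_relIndex _ _ _ bot_le hR1F]
  rw [← hcardT, ← hR1c, ← hFc] at hcount
  have hle2 : Nat.card φ.range ≤ R₁.relIndex F := by
    have hpos : 0 < Nat.card φ.ker * Nat.card R₁ * n :=
      Nat.mul_pos (Nat.mul_pos Nat.card_pos Nat.card_pos) (by have := S.hn; omega)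
    refine Nat.le_of_mul_le_mul_left (le_trans (le_of_eq ?_) (hcount.trans (le_of_eq ?_))) hpos
      <;> ring
  omega

/-- Noncentral elements of prime power order prime to `m` have class size `m`. -/
theorem idx_primary {u : G} {q e : ℕ} (hq : q.Prime) (hqm : ¬ q ∣ m) (hu : orderOf u = q ^ e)
    (huZ : u ∉ Z) : idx u = m := by
  obtain ⟨g, hg⟩ := exists_conj_mem (H := C[y]) hq hu
    (by change ¬ q ∣ idx y; rw [S.hy]; exact hqm)
  generalize hv : g⁻¹ * u * g = v at hg
  have hvu : v = g⁻¹ * u * (g⁻¹)⁻¹ := by rw [inv_inv, hv]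
  have hvo : orderOf v = q ^ e := by
    rw [hvu, ← MulAut.conj_apply, MulEquiv.orderOf_eq, hu]
  have hvZ : v ∉ Z := by rw [hvu, mem_center_conj]; exact huZ
  suffices idx v = m by rwa [hvu, idx_conj] at this
  have step : ∀ {w z : G} {s a : ℕ}, idx z = m → Commute w z →
      (orderOf w).Coprime (orderOf z) → orderOf w = s ^ a → w ∉ Z → idx w = m := by
    intro w z s a hz hwz hco _ hw
    have he := C_mul_eq hwz hco
    have hm1 := S.eq_m_of_dvd (hz ▸ idx_dvd_of_le (he.le.trans inf_le_right))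
    exact S.eq_m (Nat.Coprime.coprime_dvd_left (hm1 ▸ idx_dvd_of_le (he.le.trans inf_le_left)) S.hcop) hw
  obtain ⟨f, hf⟩ := S.hyo
  rcases ne_or_eq q r with hne | rfl
  · exact step S.hy (mem_C.1 hg) (by
      rw [hvo, hf]
      exact ((Nat.coprime_primes hq S.hr).2 hne).pow e f) hvo hvZ
  by_cases hone : ∀ q' : ℕ, q'.Prime → q' ≠ q → ∀ w ∈ C[y], (∃ e, orderOf w = q' ^ e) → w ∈ Z
  · exact S.idx_r_element hvo hg hvZ hone
  · push Not at hone
    obtain ⟨q', hq', hne, w, hw, ⟨a, ha⟩, hwZ⟩ := hone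
    have hco : (orderOf w).Coprime (orderOf y) := by
      rw [ha, hf]; exact ((Nat.coprime_primes hq' hq).2 hne).pow a f
    have he := C_mul_eq (mem_C.1 hw) hco
    have hm1 := S.eq_m_of_dvd (S.hy ▸ idx_dvd_of_le (he.le.trans inf_le_right))
    have hwm := step S.hy (mem_C.1 hw) hco ha hwZ
    have hCw : C[w] = C[y] := by
      rw [← C_eq_of_le_of_idx (he.le.trans inf_le_left) (hm1.trans hwm.symm),
        C_eq_of_le_of_idx (he.le.trans inf_le_right) (hm1.trans S.hy.symm)]
    exact step hwm (mem_C.1 (hCw ▸ hg)) (by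
      rw [hvo, ha]; exact ((Nat.coprime_primes hq hq').2 hne.symm).pow e a) hvo hvZ

/-- Noncentral elements of `C(x)` have class size `n`. -/
theorem idx_mem_Cx {w : G} (hw : w ∈ C[x]) (hwZ : w ∉ Z) : idx w = n := by
  obtain ⟨k₁, k₂, hk, ⟨e', he'⟩, hc⟩ := exists_split w m
  have hw2 := S.mem_center_of_n S.hx (pow_mem hw k₂) hc
  have hw1 : w ^ k₁ ∉ Z := fun h => hwZ (hk ▸ mul_mem h hw2)
  have hC : idx w = idx (w ^ k₁) := by
    unfold idx
    conv_lhs => rw [← hk, C_eq_of_mul_center hw2]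
  rw [hC]
  refine S.eq_n_of_dvd ?_
  have hrel := Subgroup.relIndex_mul_index (center_le_C (G := G) (w ^ k₁))
  rw [S.index_center] at hrel
  refine (Nat.Coprime.dvd_of_dvd_mul_left ?_ (Dvd.intro m hrel.symm))
  by_contra hnc
  obtain ⟨q, hq, hqn, hqr⟩ := Nat.Prime.not_coprime_iff_dvd.1 hnc
  have hqm : ¬ q ∣ m := fun h => hq.ne_one (Nat.eq_one_of_dvd_coprimes S.hcop h hqn)
  haveI := Fact.mk hq
  obtain ⟨Q⟩ : Nonempty (Sylow q ↥C[w ^ k₁]) := inferInstance
  refine Q.not_dvd_index (dvd_trans hqr (Subgroup.index_dvd_of_le fun u hu => ?_))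
  obtain ⟨a, ha⟩ := (IsPGroup.iff_orderOf.1 Q.isPGroup') ⟨u, hu⟩
  rw [Subgroup.orderOf_mk, ← Subgroup.orderOf_coe] at ha
  by_contra huZ
  exact hw1 (S.mem_center_of_m (S.idx_primary hq hqm ha (fun h => huZ h))
    (mem_C.2 (mem_C.1 u.2).symm) he')

theorem centralizer_T : Subgroup.centralizer (commSub x : Set G) = C[x] := by
  have hle : C[x] ≤ Subgroup.centralizer (commSub x : Set G) := by
    intro w hw
    by_cases hwZ : w ∈ Z
    · exact Subgroup.mem_centralizer_iff.2 fun s _ => Subgroup.mem_center_iff.1 hwZ s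
    · have hT : commSub x ≤ C[w] := le_C_of_coprime (by
        rw [S.idx_mem_Cx hw hwZ]; exact S.hcop.coprime_dvd_left S.T_dvd)
      exact Subgroup.mem_centralizer_iff.2 fun s hs => (mem_C.1 (hT hs)).eq
  have hinf : Subgroup.centralizer (commSub x : Set G) ⊓ C[y] ≤ Z := by
    intro h hh
    obtain ⟨k₁, k₂, hk, ⟨e', he'⟩, hc⟩ := exists_split h m
    rw [← hk]
    refine mul_mem (S.mem_center_of_m S.hy (pow_mem hh.2 k₁) he') ?_
    rw [← S.inf_eq_center]
    exact ⟨mem_C_of_centralizes_commSub S.T_le S.T_dvd hc (pow_mem hh.1 k₂), pow_mem hh.2 k₂⟩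
  refine le_antisymm ?_ hle
  intro g hg
  obtain ⟨h, hh, hc⟩ := QBaer.exists_left_factor
    (C := C[x]) (P := C[y]) (by
      change (idx x).Coprime (idx y); rw [S.hx, S.hy]; exact S.hcop.symm) g
  have h2 : h ∈ Subgroup.centralizer (commSub x : Set G) := by
    have := mul_mem hg (inv_mem (hle hc))
    rwa [mul_inv_rev, inv_inv, mul_inv_cancel_left] at this
  have := mul_mem (center_le_C (G := G) x (hinf ⟨h2, hh⟩)) hc
  rwa [mul_inv_cancel_left] at this

theorem Cx_normal : (C[x]).Normal := by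
  haveI := commSub_normal (G := G) x
  rw [← S.centralizer_T]
  infer_instance

theorem exists_factor (g : G) : ∃ k ∈ C[x], ∃ h ∈ C[y], g = k * h := by
  obtain ⟨h, hh, hc⟩ := QBaer.exists_left_factor
    (C := C[x]) (P := C[y]) (by
      change (idx x).Coprime (idx y); rw [S.hx, S.hy]; exact S.hcop.symm) g
  exact ⟨h * (h⁻¹ * g) * h⁻¹, S.Cx_normal.conj_mem _ hc h, h, hh, by group⟩

theorem Cx_comm {a b : G} (ha : a ∈ C[x]) (hb : b ∈ C[x]) : Commute a b := by
  by_cases haZ : a ∈ Z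
  · exact (Subgroup.mem_center_iff.1 haZ b).symm
  have hai := S.idx_mem_Cx ha haZ
  have hle : C[a] ≤ C[x] := by
    haveI := S.Cx_normal
    intro g hg
    have h1 : g ^ m ∈ C[x] := center_le_C x (S.pow_m_mem hai hg)
    have h2 : g ^ n ∈ C[x] := by
      have := Subgroup.pow_index_mem C[x] g
      rwa [show (C[x]).index = n from S.hx] at this
    have h3 := (pow_gcd_eq_one (a := QuotientGroup.mk' C[x] g) (m := m) (n := n)).2
      ⟨by rw [← map_pow]; exact (QuotientGroup.eq_one_iff _).2 h1,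
       by rw [← map_pow]; exact (QuotientGroup.eq_one_iff _).2 h2⟩
    rw [S.hcop, pow_one] at h3
    exact (QuotientGroup.eq_one_iff _).1 h3
  have heq := C_eq_of_le_of_idx hle (hai.trans S.hx.symm)
  exact (mem_C.1 (heq.symm.le hb)).symm

/-- An element of `C(x)` conjugating an element of `C(y)` into `C(y)` commutes with it. -/
theorem commute_trick {k h : G} (hk : k ∈ C[x]) (hh : h ∈ C[y]) (hkh : k * h * k⁻¹ ∈ C[y]) :
    Commute k h := by
  haveI := S.Cx_normal
  generalize hz : k * h * k⁻¹ * h⁻¹ = z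
  have hzZ : z ∈ Z := by
    rw [← S.inf_eq_center, ← hz]
    refine Subgroup.mem_inf.2 ⟨?_, mul_mem hkh (inv_mem hh)⟩
    have := mul_mem hk (S.Cx_normal.conj_mem _ (inv_mem hk) h)
    simpa [mul_assoc] using this
  have e : k * h * k⁻¹ = z * h := by rw [← hz]; group
  have hzc : ∀ g : G, Commute g z := fun g => Subgroup.mem_center_iff.1 hzZ g
  have key : ∀ i : ℕ, k ^ i * h * (k ^ i)⁻¹ = z ^ i * h := by
    intro i
    induction i with
    | zero => simp
    | succ i ih =>
      calc k ^ (i + 1) * h * (k ^ (i + 1))⁻¹ = k * (k ^ i * h * (k ^ i)⁻¹) * k⁻¹ := by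
            rw [pow_succ']; group
        _ = (k * z ^ i * k⁻¹) * (k * h * k⁻¹) := by rw [ih]; group
        _ = z ^ i * (z * h) := by rw [e, ((hzc k).pow_right i).eq, mul_inv_cancel_right]
        _ = z ^ (i + 1) * h := by rw [pow_succ, mul_assoc]
  have h1 : z ^ m = 1 := by
    have hm' := key m
    rw [(Subgroup.mem_center_iff.1 (S.pow_m_mem S.hx hk) h).symm, mul_inv_cancel_right] at hm'
    exact mul_eq_right.1 hm'.symm
  have h2 : z ^ n = 1 := by
    have hn' : (k * h * k⁻¹) ^ n = h ^ n := by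
      rw [conj_pow, Subgroup.mem_center_iff.1 (S.pow_n_mem S.hy hh) k, mul_inv_cancel_right]
    rw [e, (hzc h).symm.mul_pow] at hn'
    exact mul_eq_right.1 hn'
  have h3 := pow_gcd_eq_one.2 ⟨h1, h2⟩
  rw [S.hcop, pow_one] at h3
  rw [h3, one_mul] at e
  exact mul_inv_eq_iff_eq_mul.1 e

theorem mem_Cy_of_commute {k u : G} (hk : k ∈ C[x]) (hu : idx u = m) (hc : Commute k u) :
    k ∈ Z := by
  have h1 := S.pow_m_mem S.hx hk
  have h2 := S.pow_n_mem hu (mem_C.2 hc)
  have h3 := (pow_gcd_eq_one (a := QuotientGroup.mk' Z k) (m := m) (n := n)).2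
    ⟨by rw [← map_pow]; exact (QuotientGroup.eq_one_iff _).2 h1,
     by rw [← map_pow]; exact (QuotientGroup.eq_one_iff _).2 h2⟩
  rw [S.hcop, pow_one] at h3
  exact (QuotientGroup.eq_one_iff _).1 h3

theorem Cy_comm {a b : G} (ha : a ∈ C[y]) (hb : b ∈ C[y]) : Commute a b := by
  have key : C[y] ≤ Subgroup.centralizer (C[y] : Set G) := by
    refine le_of_primes fun q hq _ u hu ⟨e, he⟩ => ?_
    by_cases huZ : u ∈ Z
    · exact Subgroup.mem_centralizer_iff.2 fun s _ => Subgroup.mem_center_iff.1 huZ s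
    have hqm : ¬ q ∣ m := by
      intro hqm
      exact huZ (S.mem_center_of_m S.hy hu (e := e) (by rw [he]; exact pow_dvd_pow_of_dvd hqm e))
    have hui := S.idx_primary hq hqm he huZ
    have hle : C[u] ≤ C[y] := by
      intro g hg
      obtain ⟨k, hk, h, hh, rfl⟩ := S.exists_factor g
      have hu' : h * u * h⁻¹ ∈ C[y] := mul_mem (mul_mem hh hu) (inv_mem hh)
      have e1 : k * (h * u * h⁻¹) * k⁻¹ = u := by
        rw [show k * (h * u * h⁻¹) * k⁻¹ = k * h * u * (k * h)⁻¹ by group, (mem_C.1 hg).eq,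
          mul_inv_cancel_right]
      have hc := S.commute_trick hk hu' (by rw [e1]; exact hu)
      rw [hc.eq, mul_inv_cancel_right] at e1
      rw [e1] at hc
      exact mul_mem (center_le_C y (S.mem_Cy_of_commute hk hui hc)) hh
    have heq := C_eq_of_le_of_idx hle (hui.trans S.hy.symm)
    exact Subgroup.mem_centralizer_iff.2 fun s hs => (mem_C.1 (heq.symm.le hs)).eq
  exact (Subgroup.mem_centralizer_iff.1 (key ha) b hb).symm

theorem Cy_le_of_mem {u : G} (hu : u ∈ C[y]) : C[y] ≤ C[u] := fun _h hh =>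
  mem_C.2 (S.Cy_comm hh hu)

theorem C_eq_Cy {u : G} (hu : u ∈ C[y]) (huZ : u ∉ Z) : C[u] = C[y] := by
  have hle := S.Cy_le_of_mem hu
  have hm := S.eq_m (Nat.Coprime.coprime_dvd_left (S.hy ▸ idx_dvd_of_le hle) S.hcop) huZ
  exact (C_eq_of_le_of_idx hle (S.hy.trans hm.symm)).symm

theorem mem_Cy_of_conj {g u : G} (hu : u ∈ C[y]) (huZ : u ∉ Z) (hgu : g * u * g⁻¹ ∈ C[y]) :
    g ∈ C[y] := by
  obtain ⟨k, hk, h, hh, rfl⟩ := S.exists_factor g
  have e1 : h * u * h⁻¹ = u := by rw [(S.Cy_comm hh hu).eq, mul_inv_cancel_right]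
  rw [show k * h * u * (k * h)⁻¹ = k * (h * u * h⁻¹) * k⁻¹ by group, e1] at hgu
  have hc := S.commute_trick hk hu hgu
  have hm : idx u = m := by
    unfold idx; rw [S.C_eq_Cy hu huZ]; exact S.hy
  exact mul_mem (center_le_C y (S.mem_Cy_of_commute hk hm hc)) hh

/-- `G/Z(G)` is Frobenius with kernel `C(x)/Z(G)` and complement `C(y)/Z(G)`. -/
theorem frobenius :
    Cfsg.IsFrobeniusComplement ((C[y]).map (QuotientGroup.mk' Z)) ∧
      Cfsg.frobeniusKernel ((C[y]).map (QuotientGroup.mk' Z)) =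
        ((C[x]).map (QuotientGroup.mk' Z) : Set (G ⧸ Z)) := by
  have hcy : ∀ g : G, QuotientGroup.mk' Z g ∈ (C[y]).map (QuotientGroup.mk' Z) → g ∈ C[y] := by
    intro g hg
    have h : g ∈ ((C[y]).map (QuotientGroup.mk' Z)).comap (QuotientGroup.mk' Z) := hg
    rwa [Subgroup.comap_map_eq_self (by rw [QuotientGroup.ker_mk']; exact center_le_C y)] at h
  have hF : Cfsg.IsFrobeniusComplement ((C[y]).map (QuotientGroup.mk' Z)) := by
    refine ⟨fun h => ?_, fun h => ?_, fun g hg => ?_⟩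
    · rw [Subgroup.map_eq_bot_iff, QuotientGroup.ker_mk'] at h
      have h1 := S.relIndex_center S.hy (mul_comm m n)
      rw [Subgroup.relIndex_eq_one.2 h] at h1
      have := S.hn
      omega
    · have h1 := congrArg (Subgroup.comap (QuotientGroup.mk' Z)) h
      rw [Subgroup.comap_map_eq_self (by rw [QuotientGroup.ker_mk']; exact center_le_C y),
        Subgroup.comap_top] at h1
      have h2 : (C[y]).index = m := S.hy
      rw [h1, Subgroup.index_top] at h2
      have := S.hmn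
      have := S.hn
      omega
    · obtain ⟨g, rfl⟩ := QuotientGroup.mk'_surjective Z g
      rw [eq_bot_iff]
      rintro q ⟨hq1, hq2⟩
      obtain ⟨w, hw, rfl⟩ := hq1
      rw [Subgroup.mem_bot]
      replace hq2 : QuotientGroup.mk' Z w ∈
          MulAut.conj (QuotientGroup.mk' Z g) • (C[y]).map (QuotientGroup.mk' Z) := hq2
      rw [Subgroup.mem_pointwise_smul_iff_inv_smul_mem, MulAut.smul_def,
        ← map_inv, MulAut.conj_apply, inv_inv, ← map_inv, ← map_mul, ← map_mul] at hq2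
      by_contra hw1
      have hwZ : w ∉ Z := fun h => hw1 ((QuotientGroup.eq_one_iff _).2 h)
      refine hg ⟨g, ?_, rfl⟩
      have := S.mem_Cy_of_conj (g := g⁻¹) hw hwZ (by rw [inv_inv]; exact hcy _ hq2)
      simpa using this
  refine ⟨hF, ?_⟩
  haveI := S.Cx_normal
  haveI : ((C[x]).map (QuotientGroup.mk' Z)).Normal :=
    Subgroup.Normal.map inferInstance _ (QuotientGroup.mk'_surjective Z)
  refine Base.Frobenius.frobeniusKernel_eq hF _ (Subgroup.isComplement'_of_disjoint_and_mul_eq_univ ?_ ?_)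
  · rw [Subgroup.disjoint_def]
    rintro _ ⟨a, ha, rfl⟩ h2
    refine (QuotientGroup.eq_one_iff _).2 ?_
    rw [← S.inf_eq_center]
    exact ⟨ha, hcy _ h2⟩
  · refine Set.eq_univ_of_forall fun q => ?_
    obtain ⟨g, rfl⟩ := QuotientGroup.mk'_surjective Z q
    obtain ⟨k, hk, h, hh, rfl⟩ := S.exists_factor g
    exact ⟨_, ⟨k, hk, rfl⟩, _, ⟨h, hh, rfl⟩, (map_mul _ _ _).symm⟩

end Std

end CfsgLib.CharApps.ClassSizes
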