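import Cfsg.Agent.Lib.CharApps.ClassSizes.Partition

/-!
# Groups with two class sizes
-/

set_option autoImplicit false
set_option linter.style.haveILetI false

open scoped Pointwise

namespace CfsgLib.CharApps.ClassSizes

variable {G : Type*} [Group G] [Finite G]

local notation "C[" g "]" => Subgroup.centralizer ({g} : Set G)
local notation "Z" => Subgroup.center G

/-- All noncentral elements have class size `n`, and there are some. -/
structure Two (G : Type*) [Group G] (n : ℕ) : Prop where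
  hn : 1 < n
  h : ∀ g : G, g ∉ Subgroup.center G → idx g = n
  hex : ∃ g : G, g ∉ Subgroup.center G

namespace Two

variable {n : ℕ} (S : Two G n)
include S

theorem C_eq {a b : G} (h : C[a] ≤ C[b]) (ha : a ∉ Z) (hb : b ∉ Z) : C[a] = C[b] :=
  C_eq_of_le_of_idx h ((S.h a ha).trans (S.h b hb).symm)

theorem C_eq_of_coprime {a b : G} (hc : Commute a b) (ho : (orderOf a).Coprime (orderOf b))
    (ha : a ∉ Z) (hb : b ∉ Z) : C[a] = C[b] := by
  have he := C_mul_eq hc ho
  have hab : a * b ∉ Z := fun h => ha (by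
    rw [← C_eq_top_iff] at h ⊢
    exact eq_top_iff.2 (h.symm.le.trans (he.le.trans inf_le_left)))
  rw [← S.C_eq (he.le.trans inf_le_left) hab ha, S.C_eq (he.le.trans inf_le_right) hab hb]

theorem relIndex_eq {a b : G} (ha : a ∉ Z) (hb : b ∉ Z) :
    (Z).relIndex C[a] = (Z).relIndex C[b] := by
  have h1 := Subgroup.relIndex_mul_index (center_le_C (G := G) a)
  have h2 := Subgroup.relIndex_mul_index (center_le_C (G := G) b)
  change (Z).relIndex C[a] * idx a = _ at h1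
  change (Z).relIndex C[b] * idx b = _ at h2
  rw [S.h a ha] at h1
  rw [S.h b hb] at h2
  exact Nat.eq_of_mul_eq_mul_right (by have := S.hn; omega) (h1.trans h2.symm)

/-- A prime dividing `n` has noncentral elements of its prime power order. -/
theorem exists_of_dvd {p : ℕ} (hp : p.Prime) (hd : p ∣ n) :
    ∃ u : G, (∃ e, orderOf u = p ^ e) ∧ u ∉ Z := by
  haveI := Fact.mk hp
  obtain ⟨g, hg⟩ := S.hex
  by_contra hcon
  push Not at hcon
  obtain ⟨P⟩ : Nonempty (Sylow p G) := inferInstance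
  refine P.not_dvd_index ((hd.trans (dvd_of_eq (S.h g hg).symm)).trans
    (Subgroup.index_dvd_of_le fun u hu => center_le_C g ?_))
  obtain ⟨e, he⟩ := (IsPGroup.iff_orderOf.1 P.isPGroup') ⟨u, hu⟩
  exact hcon u ⟨e, by rwa [Subgroup.orderOf_mk] at he⟩

theorem dvd_relIndex {p : ℕ} (hp : p.Prime) {u g : G} (hu : ∃ e, orderOf u = p ^ e)
    (huZ : u ∉ Z) (hg : g ∉ Z) : p ∣ (Z).relIndex C[g] := by
  by_contra hnd
  obtain ⟨e, he⟩ := hu
  refine huZ (mem_center_of_pow (k := (Z).relIndex C[g]) ?_ ?_)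
  · rw [S.relIndex_eq hg huZ]
    have h1 := Subgroup.pow_index_mem ((Z).subgroupOf C[u]) ⟨u, self_mem_C u⟩
    exact Subgroup.mem_subgroupOf.1 h1
  · rw [he]
    exact ((hp.coprime_iff_not_dvd.2 hnd).symm).pow_right e

theorem exists_in_C {p : ℕ} (hp : p.Prime) {g : G} (hd : p ∣ (Z).relIndex C[g]) :
    ∃ u ∈ C[g], (∃ e, orderOf u = p ^ e) ∧ u ∉ Z := by
  haveI := Fact.mk hp
  by_contra hcon
  push Not at hcon
  obtain ⟨P⟩ : Nonempty (Sylow p ↥C[g]) := inferInstance
  refine P.not_dvd_index (hd.trans (Subgroup.index_dvd_of_le fun u hu => ?_))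
  obtain ⟨e, he⟩ := (IsPGroup.iff_orderOf.1 P.isPGroup') ⟨u, hu⟩
  rw [Subgroup.orderOf_mk, ← Subgroup.orderOf_coe] at he
  exact hcon u u.2 ⟨e, he⟩

/-! ### Two primes with noncentral elements: impossible -/

theorem abelian {p q : ℕ} (hp : p.Prime) (hq : q.Prime) (hpq : p ≠ q)
    (hup : ∃ u : G, (∃ e, orderOf u = p ^ e) ∧ u ∉ Z)
    (huq : ∃ u : G, (∃ e, orderOf u = q ^ e) ∧ u ∉ Z) {g : G} (hg : g ∉ Z) : dc g = C[g] := by
  refine le_antisymm (dc_le_C g) ?_
  obtain ⟨r, k, e, hr, hre, hz⟩ := exists_noncentral_primary hg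
  have hC : C[g] = C[g ^ k] := S.C_eq (C_le_C_pow g k) hg hz
  unfold dc
  rw [hC]
  generalize g ^ k = z at hre hz hC
  -- a prime other than `r` with noncentral elements
  obtain ⟨r', hr', hne, hur⟩ : ∃ r', r'.Prime ∧ r' ≠ r ∧
      ∃ u : G, (∃ e, orderOf u = r' ^ e) ∧ u ∉ Z := by
    by_cases h : p = r
    · exact ⟨q, hq, fun h' => hpq (h.trans h'.symm), huq⟩
    · exact ⟨p, hp, h, hup⟩
  obtain ⟨u₀, hu₀, hu₀Z⟩ := hur
  obtain ⟨v, hv, ⟨a, hva⟩, hvZ⟩ := S.exists_in_C hr' (S.dvd_relIndex hr' hu₀ hu₀Z hz)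
  have hco : ∀ {s s' i j : ℕ}, s.Prime → s'.Prime → s ≠ s' → (s ^ i).Coprime (s' ^ j) :=
    fun hs hs' h => ((Nat.coprime_primes hs hs').2 h).pow _ _
  have hvz : C[v] = C[z] :=
    S.C_eq_of_coprime (mem_C.1 hv) (by rw [hva, hre]; exact hco hr' hr hne) hvZ hz
  refine le_of_primes fun s hs _ u hu ⟨b, hub⟩ => ?_
  by_cases huZ : u ∈ Z
  · exact Subgroup.mem_centralizer_iff.2 fun c _ => Subgroup.mem_center_iff.1 huZ c
  have huC : C[u] = C[z] := by
    by_cases hsr : s = r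
    · rw [← hvz]
      exact S.C_eq_of_coprime (mem_C.1 (hvz ▸ hu))
        (by rw [hub, hva, hsr]; exact hco hr hr' hne.symm) huZ hvZ
    · exact S.C_eq_of_coprime (mem_C.1 hu) (by rw [hub, hre]; exact hco hs hr hsr) huZ hz
  exact Subgroup.mem_centralizer_iff.2 fun c hc => (mem_C.1 (huC.symm.le hc)).eq

theorem one_prime {p q : ℕ} (hp : p.Prime) (hq : q.Prime) (hpq : p ≠ q)
    (hup : ∃ u : G, (∃ e, orderOf u = p ^ e) ∧ u ∉ Z)
    (huq : ∃ u : G, (∃ e, orderOf u = q ^ e) ∧ u ∉ Z) : False := by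
  classical
  have P := partition_dcQ S.h
  have hdc : ∀ {g : G}, g ∉ Z → dc g = C[g] := fun hg => S.abelian hp hq hpq hup huq hg
  have hidx : ∀ a : G ⧸ Z, a ≠ 1 → (dcQ a).index = n := by
    intro a ha
    obtain ⟨g, rfl⟩ := QuotientGroup.mk_surjective a
    have hg : g ∉ Z := fun h => ha ((QuotientGroup.eq_one_iff _).2 h)
    rw [dcQ_mk, hdc hg, Subgroup.index_map_eq _ (QuotientGroup.mk'_surjective Z)
      (by rw [QuotientGroup.ker_mk']; exact center_le_C g)]
    exact S.h g hg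
  have hmem : ∀ (a : G ⧸ Z), a ≠ 1 → ∀ s : ℕ, s.Prime →
      (∃ u : G, (∃ e, orderOf u = s ^ e) ∧ u ∉ Z) →
      ∃ b ∈ dcQ a, b ≠ 1 ∧ ∃ e, orderOf b = s ^ (e + 1) := by
    intro a ha s hs ⟨u₀, hu₀, hu₀Z⟩
    obtain ⟨g, rfl⟩ := QuotientGroup.mk_surjective a
    have hg : g ∉ Z := fun h => ha ((QuotientGroup.eq_one_iff _).2 h)
    obtain ⟨u, hu, ⟨e, he⟩, huZ⟩ := S.exists_in_C hs (S.dvd_relIndex hs hu₀ hu₀Z hg)
    have h1 : (QuotientGroup.mk u : G ⧸ Z) ≠ 1 := fun h => huZ ((QuotientGroup.eq_one_iff _).1 h)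
    have h2 : orderOf (QuotientGroup.mk u : G ⧸ Z) ∣ s ^ e :=
      he ▸ orderOf_map_dvd (QuotientGroup.mk' Z) u
    obtain ⟨i, -, hi⟩ := (Nat.dvd_prime_pow hs).1 h2
    refine ⟨_, mem_dcQ_mk.2 (hdc hg ▸ hu), h1, i - 1, ?_⟩
    rw [hi]
    congr 1
    rcases i with _ | i
    · rw [pow_zero, orderOf_eq_one_iff] at hi
      exact absurd hi h1
    · omega
  have hcomposite : ∀ a : G ⧸ Z, a ≠ 1 → ∃ b ∈ dcQ a, b ≠ 1 ∧ ¬ (orderOf b).Prime := by
    intro a ha
    obtain ⟨b, hb, hb1, e, he⟩ := hmem a ha p hp hup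
    obtain ⟨c, hc, -, f, hf⟩ := hmem a ha q hq huq
    have ho : orderOf (b * c) = p ^ (e + 1) * q ^ (f + 1) := by
      rw [(dcQ_comm hb hc).orderOf_mul_eq_mul_orderOf_of_coprime
        (by rw [he, hf]; exact ((Nat.coprime_primes hp hq).2 hpq).pow _ _), he, hf]
    refine ⟨b * c, mul_mem hb hc, fun h => ?_, ?_⟩
    · rw [h, orderOf_one, eq_comm, mul_eq_one] at ho
      exact (Nat.one_lt_pow (Nat.succ_ne_zero e) hp.one_lt).ne' ho.1
    · rw [ho]
      exact Nat.not_prime_mul (Nat.one_lt_pow (Nat.succ_ne_zero e) hp.one_lt).ne'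
        (Nat.one_lt_pow (Nat.succ_ne_zero f) hq.one_lt).ne'
  -- conjugation preserving a component
  have hnorm : ∀ (a : G ⧸ Z) (s : G ⧸ Z), s * a * s⁻¹ = a →
      s ∈ Subgroup.normalizer (dcQ a : Set (G ⧸ Z)) := by
    intro a s hs
    refine Subgroup.mem_normalizer_iff.2 fun b => ⟨fun hb => hs ▸ conj_mem_dcQ s hb, fun hb => ?_⟩
    have hs' : s⁻¹ * a * s⁻¹⁻¹ = a := by
      conv_lhs => rw [← hs]
      group
    have := conj_mem_dcQ s⁻¹ hb
    rw [hs'] at this
    simpa [mul_assoc] using this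
  -- the Sylow subgroups
  have key : ∀ (s : ℕ) [Fact s.Prime], s ∣ n → ∀ R : Sylow s (G ⧸ Z),
      ∃ t ∈ R, t ≠ 1 ∧ (∀ x ∈ R, Commute x t) ∧ ¬ s ^ 2 ∣ n ∧
        (R : Subgroup (G ⧸ Z)) ≤ Subgroup.normalizer (dcQ t : Set (G ⧸ Z)) := by
    intro s hsF hsn R
    have hs := hsF.out
    have hR : Nontrivial ↥(R : Subgroup (G ⧸ Z)) := by
      rw [Subgroup.nontrivial_iff_ne_bot]
      intro hbot
      refine R.not_dvd_index ?_
      obtain ⟨g, hg⟩ := S.hex
      have h1 : (QuotientGroup.mk g : G ⧸ Z) ≠ 1 := fun h => hg ((QuotientGroup.eq_one_iff _).1 h)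
      rw [hbot, Subgroup.index_bot, ← Subgroup.index_mul_card (dcQ (QuotientGroup.mk g : G ⧸ Z)),
        hidx _ h1]
      exact hsn.mul_right _
    haveI := R.isPGroup'.center_nontrivial
    obtain ⟨⟨⟨t, htR⟩, htc⟩, ht1⟩ := exists_ne (1 : Subgroup.center ↥(R : Subgroup (G ⧸ Z)))
    have ht : t ≠ 1 := fun h => ht1 (Subtype.ext (Subtype.ext h))
    have hcomm : ∀ x ∈ R, Commute x t := fun x hx =>
      congrArg Subtype.val (Subgroup.mem_center_iff.1 htc ⟨x, hx⟩)
    have hle : (R : Subgroup (G ⧸ Z)) ≤ Subgroup.normalizer (dcQ t : Set (G ⧸ Z)) := fun x hx =>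
      hnorm t x (by rw [(hcomm x hx).eq, mul_inv_cancel_right])
    refine ⟨t, htR, ht, hcomm, fun hsq => ?_, hle⟩
    set D := dcQ t with hD
    set B := D.subgroupOf (R : Subgroup (G ⧸ Z)) with hB
    haveI : B.Normal := ⟨fun b hb x => Subgroup.mem_subgroupOf.2
      ((Subgroup.mem_normalizer_iff.1 (hle x.2) _).1 (Subgroup.mem_subgroupOf.1 hb))⟩
    have hcard : s ^ 2 ∣ Nat.card (↥(R : Subgroup (G ⧸ Z)) ⧸ B) := by
      rw [← Subgroup.index_eq_card]
      have h1 : n ∣ (D ⊓ (R : Subgroup (G ⧸ Z))).index :=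
        hidx t ht ▸ Subgroup.index_dvd_of_le inf_le_left
      rw [← Subgroup.relIndex_mul_index (inf_le_right : D ⊓ (R : Subgroup (G ⧸ Z)) ≤ R),
        Subgroup.inf_relIndex_right] at h1
      exact (((hs.coprime_iff_not_dvd.2 R.not_dvd_index).pow_left 2)).dvd_of_dvd_mul_right
        (hsq.trans h1)
    have horder : ∀ x ∈ R, x ∉ D → orderOf x = s := by
      intro x hx hxD
      have hx1 : x ≠ 1 := fun h => hxD (h ▸ one_mem D)
      have hpr := P.prime_orderOf (hcomm x hx).symm ht hx1 hxD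
      rw [P.orderOf_eq (hcomm x hx).symm ht hx1 hxD] at hpr
      obtain ⟨e, he⟩ := (IsPGroup.iff_orderOf.1 R.isPGroup') ⟨x, hx⟩
      rw [Subgroup.orderOf_mk] at he
      rw [he] at hpr ⊢
      rw [Nat.Prime.eq_one_of_pow hpr, pow_one]
    have hqpow : ∀ y : ↥(R : Subgroup (G ⧸ Z)) ⧸ B, y ^ s = 1 := by
      intro y
      obtain ⟨⟨x, hx⟩, rfl⟩ := QuotientGroup.mk_surjective y
      rw [← QuotientGroup.mk_pow, QuotientGroup.eq_one_iff]
      by_cases hxD : x ∈ D
      · exact pow_mem (Subgroup.mem_subgroupOf.2 hxD) s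
      · refine Subgroup.mem_subgroupOf.2 ?_
        change x ^ s ∈ D
        rw [← horder x hx hxD, pow_orderOf_eq_one]
        exact one_mem D
    haveI : Nontrivial (↥(R : Subgroup (G ⧸ Z)) ⧸ B) := Finite.one_lt_card_iff_nontrivial.1
      (lt_of_lt_of_le (Nat.one_lt_pow two_ne_zero hs.one_lt) (Nat.le_of_dvd Nat.card_pos hcard))
    haveI := (R.isPGroup'.to_quotient B).center_nontrivial
    obtain ⟨⟨x₁, hx₁⟩, hx₁1⟩ := exists_ne (1 : Subgroup.center (↥(R : Subgroup (G ⧸ Z)) ⧸ B))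
    obtain ⟨x₂, hx₂⟩ : ∃ y, y ∉ Subgroup.zpowers x₁ := by
      by_contra hcon
      push Not at hcon
      have h1 : Subgroup.zpowers x₁ = ⊤ := (Subgroup.eq_top_iff' _).2 hcon
      have h2 := Nat.le_of_dvd Nat.card_pos hcard
      rw [← Subgroup.card_top, ← h1, Nat.card_zpowers] at h2
      have h3 := Nat.le_of_dvd hs.pos (orderOf_dvd_of_pow_eq_one (hqpow x₁))
      have := hs.two_le
      nlinarith
    have hx₁' : x₁ ≠ 1 := fun h => hx₁1 (Subtype.ext h)
    -- the action on `D`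
    letI : CommGroup ↥D :=
      { (inferInstance : Group ↥D) with mul_comm := fun a b => Subtype.ext (dcQ_comm a.2 b.2).eq }
    let ρ : ↥(R : Subgroup (G ⧸ Z)) →* MulAut ↥D :=
      D.normalizerMonoidHom.comp (Subgroup.inclusion hle)
    have hρB : ∀ b ∈ B, b ∈ ρ.ker := by
      intro b hb
      refine MonoidHom.mem_ker.2 (MulEquiv.ext fun a => Subtype.ext ?_)
      change (b : G ⧸ Z) * a * (b : G ⧸ Z)⁻¹ = a
      rw [(dcQ_comm (Subgroup.mem_subgroupOf.1 hb) a.2).eq, mul_inv_cancel_right]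
    let σ := QuotientGroup.lift B ρ hρB
    obtain ⟨a, ha, ha1, e, he⟩ : ∃ b ∈ D, b ≠ 1 ∧ ∃ r e, r.Prime ∧ r ≠ s ∧ orderOf b = r ^ (e + 1) := by
      by_cases hps : p = s
      · obtain ⟨b, hb, hb1, e, he⟩ := hmem t ht q hq huq
        exact ⟨b, hb, hb1, q, e, hq, fun h => hpq (hps.trans h.symm), he⟩
      · obtain ⟨b, hb, hb1, e, he⟩ := hmem t ht p hp hup
        exact ⟨b, hb, hb1, p, e, hp, hps, he⟩
    obtain ⟨f, hr, hrs, hea⟩ := he
    have hnormY : ∀ y : ↥(R : Subgroup (G ⧸ Z)) ⧸ B, y ≠ 1 →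
        ∏ k ∈ Finset.range s, ((σ y) ^ k) (⟨a, ha⟩ : ↥D) = 1 := by
      intro y hy
      have hys : (σ y) ^ s = 1 := by rw [← map_pow, hqpow, map_one]
      have hfix := map_norm_eq (σ y) hys (⟨a, ha⟩ : ↥D)
      generalize hN : ∏ k ∈ Finset.range s, ((σ y) ^ k) (⟨a, ha⟩ : ↥D) = N at hfix
      have hNpow : N ^ (e ^ (f + 1)) = 1 := by
        rw [← hN, ← Finset.prod_pow]
        refine Finset.prod_eq_one fun k _ => ?_
        rw [← map_pow, show (⟨a, ha⟩ : ↥D) ^ (e ^ (f + 1)) = 1 from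
          Subtype.ext (by rw [SubgroupClass.coe_pow, ← hea, pow_orderOf_eq_one]; rfl), map_one]
      obtain ⟨⟨x, hx⟩, rfl⟩ := QuotientGroup.mk_surjective y
      have hxD : x ∉ D := fun h => hy ((QuotientGroup.eq_one_iff _).2 (Subgroup.mem_subgroupOf.2 h))
      by_contra hN1
      have hN1' : (N : G ⧸ Z) ≠ 1 := fun h => hN1 (Subtype.ext h)
      have hc : Commute x (N : G ⧸ Z) := mul_inv_eq_iff_eq_mul.1 (congrArg Subtype.val hfix :)
      have hxN : x ∉ dcQ (N : G ⧸ Z) := fun h => hxD (P.mem_of_ne ht N.2 hN1' h)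
      have hx1 : x ≠ 1 := fun h => hxD (h ▸ one_mem D)
      have ho := P.orderOf_eq hc.symm hN1' hx1 hxN
      rw [horder x hx hxD] at ho
      have : orderOf (N : G ⧸ Z) ∣ e ^ (f + 1) :=
        orderOf_dvd_of_pow_eq_one (by rw [← SubgroupClass.coe_pow, hNpow]; rfl)
      rw [ho] at this
      exact hrs ((Nat.prime_dvd_prime_iff_eq hs hr).1 (hs.dvd_of_dvd_pow this)).symm
    have hx₂1 : x₂ ≠ 1 := fun h => hx₂ (h ▸ one_mem _)
    have ho2 : orderOf x₂ = s := orderOf_eq_prime (hqpow x₂) hx₂1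
    have hfin := pow_eq_one_of_norms hs.pos (σ x₁) (σ x₂)
      ((show Commute x₁ x₂ from (Subgroup.mem_center_iff.1 hx₁ x₂).symm).map σ) (⟨a, ha⟩ : ↥D)
      (fun j => by
        rw [← map_pow σ, ← map_mul σ]
        refine hnormY _ fun h => ?_
        have h1 : x₂ ^ j ∈ Subgroup.zpowers x₁ := by
          rw [eq_inv_of_mul_eq_one_right h]; exact inv_mem (Subgroup.mem_zpowers x₁)
        by_cases hj : s ∣ j
        · rw [orderOf_dvd_iff_pow_eq_one.1 (by rw [ho2]; exact hj), mul_one] at h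
          exact hx₁' h
        · obtain ⟨i, hi⟩ := exists_pow_eq_self_of_coprime (x := x₂) (n := j)
            (by rw [ho2]; exact (hs.coprime_iff_not_dvd.2 hj).symm)
          exact hx₂ (hi ▸ pow_mem h1 i))
      (fun i hi => by
        rw [← map_pow σ]
        refine hnormY _ fun h => ?_
        have := Nat.le_of_dvd (Nat.succ_pos i) (ho2 ▸ orderOf_dvd_of_pow_eq_one h)
        omega)
    have h1 : orderOf a ∣ s := orderOf_dvd_of_pow_eq_one (congrArg Subtype.val hfin :)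
    rw [hea] at h1
    exact hrs ((Nat.prime_dvd_prime_iff_eq hr hs).1 ((dvd_pow_self e (Nat.succ_ne_zero f)).trans h1))
  -- every component is normal
  have hsq : Squarefree n := Nat.squarefree_iff_prime_squarefree.2 fun s hs hdvd => by
    haveI := Fact.mk hs
    obtain ⟨R⟩ : Nonempty (Sylow s (G ⧸ Z)) := inferInstance
    obtain ⟨t, -, -, -, h, -⟩ := key s (dvd_trans (dvd_mul_right s s) hdvd) R
    exact h (by rwa [pow_two])
  have hnormal : ∀ a : G ⧸ Z, a ≠ 1 → (dcQ a).Normal := by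
    intro a ha
    set D := dcQ a with hD
    set N := Subgroup.normalizer (D : Set (G ⧸ Z))
    have hDN : D ≤ N := Subgroup.le_normalizer
    have hmul : D.relIndex N * N.index = n := (Subgroup.relIndex_mul_index hDN).trans (hidx a ha)
    have hall : ∀ s : ℕ, s.Prime → s ∣ n → s ∣ D.relIndex N := by
      intro s hs hsn
      haveI := Fact.mk hs
      obtain ⟨g, hgD, hg1, e, he⟩ := hmem a ha s hs (S.exists_of_dvd hs hsn)
      obtain ⟨R, hR⟩ := (IsPGroup.of_card (G := Subgroup.zpowers g) (n := e + 1)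
        (by rw [Nat.card_zpowers, he])).exists_le_sylow
      have hgR : g ∈ R := hR (Subgroup.mem_zpowers g)
      obtain ⟨t, htR, ht1, hcomm, -, hle⟩ := key s hsn R
      by_cases htD : t ∈ D
      · have hDt : dcQ t = D := P.eq a ha t htD ht1
        rw [hDt] at hle
        by_contra hnd
        rw [← hmul] at hsn
        rcases hs.dvd_mul.1 hsn with h | h
        · exact hnd h
        · exact R.not_dvd_index (h.trans (Subgroup.index_dvd_of_le hle))
      · have htN : t ∈ N := by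
          have h1 := hnorm g t (by rw [← (hcomm g hgR).eq, mul_inv_cancel_right])
          rwa [P.eq a ha g hgD hg1] at h1
        by_contra hnd
        refine htD ?_
        haveI : (D.subgroupOf N).Normal := Subgroup.normal_subgroupOf_of_le_normalizer le_rfl
        have h1 : t ^ D.relIndex N ∈ D :=
          Subgroup.mem_subgroupOf.1 (Subgroup.pow_index_mem (D.subgroupOf N) ⟨t, htN⟩)
        obtain ⟨i, hi⟩ := (IsPGroup.iff_orderOf.1 R.isPGroup') ⟨t, htR⟩
        rw [Subgroup.orderOf_mk] at hi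
        obtain ⟨j, hj⟩ := exists_pow_eq_self_of_coprime (x := t) (n := D.relIndex N)
          (by rw [hi]; exact ((hs.coprime_iff_not_dvd.2 hnd).symm).pow_right i)
        exact hj ▸ pow_mem h1 j
    have hdvd : n ∣ D.relIndex N := by
      rw [← Nat.prod_primeFactors_of_squarefree hsq]
      exact Finset.prod_primes_dvd _ (fun s hs => (Nat.prime_of_mem_primeFactors hs).prime)
        (fun s hs => hall s (Nat.prime_of_mem_primeFactors hs) (Nat.dvd_of_mem_primeFactors hs))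
    have hN : N.index = 1 := by
      have hpos : 0 < n := by have := S.hn; omega
      have hle := Nat.le_of_dvd (Nat.pos_of_ne_zero (fun h => by rw [h, zero_mul] at hmul; omega)) hdvd
      by_contra hne
      have : 2 ≤ N.index := by
        have := Nat.pos_of_ne_zero (Subgroup.index_ne_zero_of_finite (H := N))
        omega
      nlinarith
    exact Subgroup.normalizer_eq_top_iff.1 (Subgroup.index_eq_one.1 hN)
  -- two components
  obtain ⟨g, hg⟩ := S.hex
  have ha : (QuotientGroup.mk g : G ⧸ Z) ≠ 1 := fun h => hg ((QuotientGroup.eq_one_iff _).1 h)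
  generalize (QuotientGroup.mk g : G ⧸ Z) = a at ha
  obtain ⟨b, hb⟩ : ∃ b, b ∉ dcQ a := by
    by_contra hcon
    push Not at hcon
    have := hidx a ha
    rw [(Subgroup.eq_top_iff' _).2 hcon, Subgroup.index_top] at this
    have := S.hn
    omega
  have hb1 : b ≠ 1 := fun h => hb (h ▸ one_mem _)
  obtain ⟨c, hc, hc1, hcp⟩ := hcomposite a ha
  have hdisj : dcQ a ⊓ dcQ b = ⊥ := by
    rw [eq_bot_iff]
    intro d hd
    by_contra hd1
    exact hb (by rw [← P.eq a ha d hd.1 hd1, P.eq b hb1 d hd.2 hd1]; exact P.mem b)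
  have hbc : b ∉ dcQ c := fun h => hb (P.mem_of_ne ha hc hc1 h)
  exact hcp (P.prime_orderOf (Subgroup.commute_of_normal_of_disjoint _ _ (hnormal a ha)
    (hnormal b hb1) (disjoint_iff.2 hdisj) c b hc (P.mem b)) hc1 hb1 hbc)

end Two

end CfsgLib.CharApps.ClassSizes
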