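import Cfsg.Agent.Lib.CharApps.ClassSizes.Three
import Cfsg.Agent.Lib.CharApps.ClassSizes.TwoSizes
import Cfsg.Agent.Lib.Transfer.NormalPComplement
import Cfsg.Agent.Lib.FgsB.ClassPrimes

/-!
# Groups with class sizes `1`, `n`, `m`, `n * m` for coprime `n`, `m`: basic facts, and the case
of an element of prime power order and class size `n` whose prime divides `n`
-/

set_option autoImplicit false
set_option linter.style.haveILetI false
set_option linter.unusedSectionVars false

open scoped Pointwise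

namespace CfsgLib.CharApps.ClassSizes

variable {G : Type*} [Group G]

local notation "C[" g "]" => Subgroup.centralizer ({g} : Set G)
local notation "Z" => Subgroup.center G

/-- Elements of `p`-power order. -/
def IsPEl (p : ℕ) (u : G) : Prop := ∃ e, orderOf u = p ^ e

theorem IsPEl.coprime {p q : ℕ} (hp : p.Prime) (hq : q.Prime) (hpq : p ≠ q) {u v : G}
    (hu : IsPEl p u) (hv : IsPEl q v) : (orderOf u).Coprime (orderOf v) := by
  obtain ⟨a, ha⟩ := hu
  obtain ⟨b, hb⟩ := hv
  rw [ha, hb]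
  exact Nat.coprime_pow_primes a b hp hq hpq

theorem IsPEl.of_dvd {p k : ℕ} (hp : p.Prime) {u : G} (h : orderOf u ∣ p ^ k) : IsPEl p u := by
  obtain ⟨i, -, hi⟩ := (Nat.dvd_prime_pow hp).1 h
  exact ⟨i, hi⟩

theorem IsPEl.of_mem {p : ℕ} [Fact p.Prime] {S : Subgroup G} (hS : IsPGroup p S) {u : G}
    (hu : u ∈ S) : IsPEl p u :=
  FgsB.exists_orderOf_eq_pow_of_mem hS hu

theorem IsPEl.coprime_orderOf {p q : ℕ} (hp : p.Prime) (hq : q.Prime) (hpq : p ≠ q) {u : G}
    (hu : IsPEl p u) : (orderOf u).Coprime q := by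
  obtain ⟨a, ha⟩ := hu
  rw [ha]
  exact ((Nat.coprime_primes hp hq).2 hpq).pow_left a

theorem IsPEl.mul {p : ℕ} (hp : p.Prime) {u v : G} (hu : IsPEl p u) (hv : IsPEl p v)
    (h : Commute u v) : IsPEl p (u * v) := by
  obtain ⟨a, ha⟩ := hu
  obtain ⟨b, hb⟩ := hv
  exact IsPEl.of_dvd hp (k := a + b) (by rw [pow_add, ← ha, ← hb]; exact h.orderOf_mul_dvd_mul_orderOf)

theorem IsPEl.inv {p : ℕ} {u : G} (hu : IsPEl p u) : IsPEl p u⁻¹ := by
  obtain ⟨a, ha⟩ := hu
  exact ⟨a, by rw [orderOf_inv, ha]⟩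

theorem IsPEl.conj {p : ℕ} {u : G} (hu : IsPEl p u) (g : G) : IsPEl p (g * u * g⁻¹) := by
  obtain ⟨a, ha⟩ := hu
  exact ⟨a, by rw [← MulAut.conj_apply, MulEquiv.orderOf_eq, ha]⟩

theorem IsPEl.eq_one {p : ℕ} {u : G} (hu : IsPEl p u) (h : (orderOf u).Coprime p) : u = 1 := by
  obtain ⟨a, ha⟩ := hu
  exact orderOf_eq_one_iff.1 (Nat.eq_one_of_dvd_coprimes (h.pow_right a) dvd_rfl (dvd_of_eq ha))

theorem exists_parts [Finite G] {p : ℕ} (hp : p.Prime) (g : G) :
    ∃ a ∈ Subgroup.zpowers g, ∃ b ∈ Subgroup.zpowers g,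
      a * b = g ∧ IsPEl p a ∧ (orderOf b).Coprime p ∧ Commute a b := by
  haveI := Fact.mk hp
  obtain ⟨a, ha, b, hb, hab, ⟨k, hk⟩, hbc⟩ := Transfer.exists_pPart_mul (p := p) g
  obtain ⟨i, rfl⟩ := Subgroup.mem_zpowers_iff.1 ha
  obtain ⟨j, rfl⟩ := Subgroup.mem_zpowers_iff.1 hb
  exact ⟨_, ha, _, hb, hab, IsPEl.of_dvd hp hk, hbc, (Commute.refl g).zpow_zpow i j⟩

theorem C_le_of_mem_zpowers {g a : G} (ha : a ∈ Subgroup.zpowers g) : C[g] ≤ C[a] := by
  obtain ⟨i, rfl⟩ := Subgroup.mem_zpowers_iff.1 ha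
  exact fun c hc => mem_C.2 ((mem_C.1 hc).zpow_right i)

/-- A subgroup of `H` of `p`-power order, the full power of `p` dividing the order of `H`. -/
structure IsSylIn (p : ℕ) (S H : Subgroup G) : Prop where
  le : S ≤ H
  isPGroup : IsPGroup p S
  card : Nat.card S = p ^ (Nat.card H).factorization p

theorem exists_isSylIn [Finite G] (p : ℕ) [Fact p.Prime] (H : Subgroup G) :
    ∃ S, IsSylIn p S H := by
  obtain ⟨S⟩ : Nonempty (Sylow p H) := inferInstance
  refine ⟨(S : Subgroup H).map H.subtype, Subgroup.map_subtype_le _, S.2.map _, ?_⟩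
  rw [Subgroup.card_map_of_injective H.subtype_injective, S.card_eq_multiplicity]

theorem IsSylIn.of_eq {p : ℕ} {S A B : Subgroup G} (hS : IsSylIn p S A) (hle : S ≤ B)
    (he : (Nat.card A).factorization p = (Nat.card B).factorization p) : IsSylIn p S B :=
  ⟨hle, hS.isPGroup, by rw [hS.card, he]⟩

variable [Finite G]

theorem IsSylIn.not_dvd_relIndex {p : ℕ} [hp : Fact p.Prime] {S H : Subgroup G}
    (hS : IsSylIn p S H) : ¬ p ∣ S.relIndex H := by
  intro hd
  have h1 : Nat.card S * S.relIndex H = Nat.card H := by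
    rw [← Subgroup.relIndex_bot_left, ← Subgroup.relIndex_bot_left H,
      Subgroup.relIndex_mul_relIndex _ _ _ bot_le hS.le]
  have h2 : p ^ ((Nat.card H).factorization p + 1) ∣ Nat.card H := by
    conv_rhs => rw [← h1, hS.card]
    rw [pow_succ]
    exact Nat.mul_dvd_mul_left _ hd
  have := (hp.out.pow_dvd_iff_le_factorization Nat.card_pos.ne').1 h2
  omega

/-- A `p`-element of `H` is conjugate in `H` into a Sylow subgroup of `H`. -/
theorem IsSylIn.exists_conj_mem {p : ℕ} [hp : Fact p.Prime] {S H : Subgroup G}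
    (hS : IsSylIn p S H) {u : G} (hu : IsPEl p u) (huH : u ∈ H) :
    ∃ k ∈ H, k⁻¹ * u * k ∈ S := by
  obtain ⟨e, he⟩ := hu
  obtain ⟨k, hk⟩ := ClassSizes.exists_conj_mem (H := S.subgroupOf H) (u := (⟨u, huH⟩ : H))
    (e := e) hp.out (by rw [Subgroup.orderOf_mk, he]) hS.not_dvd_relIndex
  exact ⟨k, k.2, by simpa [Subgroup.mem_subgroupOf] using hk⟩

theorem card_mul_idx (g : G) : Nat.card C[g] * idx g = Nat.card G :=
  Subgroup.card_mul_index _

theorem fact_card_add_fact_idx (g : G) (l : ℕ) :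
    (Nat.card C[g]).factorization l + (idx g).factorization l = (Nat.card G).factorization l := by
  rw [← card_mul_idx g, Nat.factorization_mul Nat.card_pos.ne' (idx_pos g).ne']
  rfl

/-- A subgroup whose `l`-part exceeds that of the centre has a noncentral `l`-element. -/
theorem exists_noncentral_of_fact_lt {l : ℕ} (hl : l.Prime) {H : Subgroup G}
    (h : (Nat.card ↥(Z)).factorization l < (Nat.card H).factorization l) :
    ∃ u ∈ H, IsPEl l u ∧ u ∉ Z := by
  haveI := Fact.mk hl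
  obtain ⟨S, hS⟩ := exists_isSylIn l H
  by_contra hcon
  push Not at hcon
  have hle : S ≤ Z := fun s hs => hcon s (hS.le hs) (IsPEl.of_mem hS.isPGroup hs)
  have h1 := Subgroup.card_dvd_of_le hle
  rw [hS.card] at h1
  have := (hl.pow_dvd_iff_le_factorization Nat.card_pos.ne').1 h1
  omega

theorem fact_lt_of_noncentral {l : ℕ} (hl : l.Prime) {H : Subgroup G} (hZH : Z ≤ H) {u : G}
    (hu : IsPEl l u) (huH : u ∈ H) (huZ : u ∉ Z) :
    (Nat.card ↥(Z)).factorization l < (Nat.card H).factorization l := by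
  have h1 : Nat.card ↥(Z) * (Z).relIndex H = Nat.card H := by
    rw [← Subgroup.relIndex_bot_left, ← Subgroup.relIndex_bot_left H,
      Subgroup.relIndex_mul_relIndex _ _ _ bot_le hZH]
  have h0 : (Z).relIndex H ≠ 0 := Subgroup.index_ne_zero_of_finite
  have hd : l ∣ (Z).relIndex H := by
    by_contra hnd
    obtain ⟨e, he⟩ := hu
    refine huZ (mem_center_of_pow (k := (Z).relIndex H) ?_ ?_)
    · exact Subgroup.mem_subgroupOf.1 (Subgroup.pow_index_mem ((Z).subgroupOf H) ⟨u, huH⟩)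
    · rw [he]
      exact ((hl.coprime_iff_not_dvd.2 hnd).symm).pow_right e
  rw [← h1, Nat.factorization_mul Nat.card_pos.ne' h0, Finsupp.add_apply]
  have := (hl.dvd_iff_one_le_factorization h0).1 hd
  omega

/-- Noncentral class sizes are `n`, `m` and `n * m`, all occurring, with `n`, `m` coprime. -/
structure Four (G : Type*) [Group G] (n m : ℕ) : Prop where
  hn : 1 < n
  hm : 1 < m
  hcop : n.Coprime m
  h : ∀ g : G, idx g = 1 ∨ idx g = n ∨ idx g = m ∨ idx g = n * m
  hexn : ∃ g : G, idx g = n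
  hexm : ∃ g : G, idx g = m
  hexnm : ∃ g : G, idx g = n * m

namespace Four

variable {n m : ℕ} (S : Four G n m)
include S

theorem symm : Four G m n :=
  ⟨S.hm, S.hn, S.hcop.symm, fun g => by
    rcases S.h g with h | h | h | h
    · exact Or.inl h
    · exact Or.inr (Or.inr (Or.inl h))
    · exact Or.inr (Or.inl h)
    · exact Or.inr (Or.inr (Or.inr (h.trans (mul_comm n m)))),
    S.hexm, S.hexn, mul_comm n m ▸ S.hexnm⟩

theorem n_ne_m : n ≠ m := fun h => by
  have := S.hcop
  rw [h, Nat.coprime_self] at this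
  have := S.hm
  omega

theorem n_lt : n < n * m := lt_mul_of_one_lt_right (by have := S.hn; omega) S.hm

theorem m_lt : m < n * m := lt_mul_of_one_lt_left (by have := S.hm; omega) S.hn

theorem not_m_dvd_n : ¬ m ∣ n := fun h => by
  have := Nat.eq_one_of_dvd_coprimes S.hcop h dvd_rfl
  have := S.hm
  omega

theorem not_dvd_m {l : ℕ} (hl : l.Prime) (h : l ∣ n) : ¬ l ∣ m := fun h' =>
  hl.ne_one (Nat.eq_one_of_dvd_coprimes S.hcop h h')

theorem not_dvd_n {l : ℕ} (hl : l.Prime) (h : l ∣ m) : ¬ l ∣ n := fun h' => S.not_dvd_m hl h' h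

theorem notMem {g : G} (h : idx g = n ∨ idx g = m ∨ idx g = n * m) : g ∉ Z := fun hz => by
  have h1 := idx_eq_one_iff.2 hz
  have := S.hn
  have := S.hm
  have := S.m_lt
  omega

theorem cases {g : G} (hg : g ∉ Z) : idx g = n ∨ idx g = m ∨ idx g = n * m :=
  (S.h g).resolve_left fun h => hg (idx_eq_one_iff.1 h)

theorem cases_of_dvd {g : G} (h : n ∣ idx g) : idx g = n ∨ idx g = n * m := by
  rcases S.h g with h1 | h1 | h1 | h1
  · rw [h1, Nat.dvd_one] at h; have := S.hn; omega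
  · exact Or.inl h1
  · exact absurd (h1 ▸ h) S.symm.not_m_dvd_n
  · exact Or.inr h1

theorem idx_of_dvd_n {g : G} (h : idx g ∣ n) (hg : g ∉ Z) : idx g = n := by
  rcases S.cases hg with h1 | h1 | h1
  · exact h1
  · exact absurd (h1 ▸ h) S.not_m_dvd_n
  · exact absurd ((Dvd.intro_left n rfl).trans (h1 ▸ h)) S.not_m_dvd_n

theorem fact_nm (l : ℕ) : (n * m).factorization l = n.factorization l + m.factorization l := by
  rw [Nat.factorization_mul_of_coprime S.hcop]
  rfl

theorem fact_nm_of_not_dvd {l : ℕ} (hl : ¬ l ∣ m) : (n * m).factorization l = n.factorization l := by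
  rw [S.fact_nm, Nat.factorization_eq_zero_of_not_dvd hl, add_zero]

/-- Centralisers of elements with class sizes `n` or `n * m` have equal `l`-parts, `l ∤ m`. -/
theorem fact_eq {l : ℕ} (hl : ¬ l ∣ m) {a b : G} (ha : idx a = n ∨ idx a = n * m)
    (hb : idx b = n ∨ idx b = n * m) :
    (Nat.card C[a]).factorization l = (Nat.card C[b]).factorization l := by
  have h1 := fact_card_add_fact_idx a l
  have h2 := fact_card_add_fact_idx b l
  have e : ∀ c : G, idx c = n ∨ idx c = n * m → (idx c).factorization l = n.factorization l := by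
    rintro c (hc | hc) <;> rw [hc]
    exact S.fact_nm_of_not_dvd hl
  rw [e a ha] at h1
  rw [e b hb] at h2
  omega

theorem prime_cases {l : ℕ} (hl : l.Prime) {u : G} (hu : IsPEl l u) (huZ : u ∉ Z) :
    l ∣ n ∨ l ∣ m := by
  by_contra hcon
  rw [not_or] at hcon
  refine huZ (mem_center_of_not_dvd hl (fun g hd => ?_) hu)
  rcases S.h g with h | h | h | h <;> rw [h] at hd
  · exact hl.not_dvd_one hd
  · exact hcon.1 hd
  · exact hcon.2 hd
  · exact (hl.dvd_mul.1 hd).elim hcon.1 hcon.2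

theorem exists_primary_n : ∃ (p : ℕ) (u : G), p.Prime ∧ IsPEl p u ∧ idx u = n := by
  obtain ⟨g, hg⟩ := S.hexn
  obtain ⟨q, k, e, hq, he, hz⟩ := exists_noncentral_primary (S.notMem (Or.inl hg))
  exact ⟨q, g ^ k, hq, ⟨e, he⟩, S.idx_of_dvd_n (hg ▸ idx_dvd_of_le (C_le_C_pow g k)) hz⟩

/-- An element of prime power order in the largest class commutes only with the centralised. -/
theorem C_le_of_top {p : ℕ} {u v : G} (hu : IsPEl p u) (hi : idx u = n * m) (hc : Commute u v)
    (hv : (orderOf v).Coprime p) : C[u] ≤ C[v] := by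
  obtain ⟨e, he⟩ := hu
  have hC := C_mul_eq hc (by rw [he]; exact (hv.pow_right e).symm)
  have hle : C[u * v] ≤ C[u] := hC.le.trans inf_le_left
  have hd := idx_dvd_of_le hle
  rw [hi] at hd
  have hpos := idx_pos (u * v)
  have hge := Nat.le_of_dvd hpos hd
  have heq : idx (u * v) = n * m := by
    have := S.hn
    have := S.hm
    have := S.n_lt
    have := S.m_lt
    rcases S.h (u * v) with h | h | h | h <;> omega
  rw [← C_eq_of_le_of_idx hle (heq.trans hi.symm)]
  exact hC.le.trans inf_le_right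

/-- Classes of coprime sizes with one commuting pair commute elementwise. -/
theorem conj_comm {x y : G} (hx : idx x = n) (hy : idx y = m) (h : Commute x y) (g k : G) :
    Commute (g * x * g⁻¹) (k * y * k⁻¹) := by
  have hcop : (C[y]).index.Coprime (C[x]).index := by
    show (idx y).Coprime (idx x)
    rw [hx, hy]; exact S.hcop.symm
  obtain ⟨a, ha, hb⟩ := QBaer.exists_left_factor hcop (g⁻¹ * k)
  have e1 : g * x * g⁻¹ = g * a * x * (g * a)⁻¹ := by
    have : a * x * a⁻¹ = x := by rw [(mem_C.1 ha).eq, mul_inv_cancel_right]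
    calc g * x * g⁻¹ = g * (a * x * a⁻¹) * g⁻¹ := by rw [this]
      _ = _ := by group
  have e2 : k * y * k⁻¹ = g * a * y * (g * a)⁻¹ := by
    have : a⁻¹ * (g⁻¹ * k) * y * (a⁻¹ * (g⁻¹ * k))⁻¹ = y := by
      rw [(mem_C.1 hb).eq, mul_inv_cancel_right]
    calc k * y * k⁻¹ = g * a * (a⁻¹ * (g⁻¹ * k) * y * (a⁻¹ * (g⁻¹ * k))⁻¹) * (g * a)⁻¹ := by group
      _ = _ := by rw [this]
  rw [e1, e2]
  exact h.map (MulAut.conj (g * a))

theorem normalClosure_le_C {x y : G} (hx : idx x = n) (hy : idx y = m) (h : Commute x y) :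
    Subgroup.normalClosure ({x} : Set G) ≤ C[y] := by
  refine (Subgroup.closure_le _).2 fun c hc => mem_C.2 ?_
  obtain ⟨a, ha, hconj⟩ := Group.mem_conjugatesOfSet_iff.1 hc
  rw [Set.mem_singleton_iff.1 ha] at hconj
  obtain ⟨g, rfl⟩ := isConj_iff.1 hconj
  simpa using S.conj_comm hx hy h g 1

/-- An element of prime power order, class size `n` and prime dividing `n`: then `m` is a prime
power, and some element of that prime power order has class size `m`. -/
theorem good {p : ℕ} (hp : p.Prime) {x : G} (hx : IsPEl p x) (hxi : idx x = n) (hpn : p ∣ n) :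
    ∃ (r b : ℕ) (y : G), r.Prime ∧ m = r ^ b ∧ IsPEl r y ∧ idx y = m ∧ r ∣ m := by
  classical
  haveI := Fact.mk hp
  have hpm : ¬ p ∣ m := S.not_dvd_m hp hpn
  obtain ⟨q, y₀, hq, hy₀, hy₀i⟩ := S.symm.exists_primary_n
  haveI := Fact.mk hq
  -- a conjugate commuting with `x`
  obtain ⟨y, hy, hyi, hxy⟩ : ∃ y : G, IsPEl q y ∧ idx y = m ∧ Commute x y := by
    obtain ⟨e, he⟩ := hx
    obtain ⟨g, hg⟩ := exists_conj_mem (H := C[y₀]) hp he (by change ¬ p ∣ idx y₀; rw [hy₀i]; exact hpm)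
    refine ⟨g * y₀ * g⁻¹, hy₀.conj g, by rw [idx_conj]; exact hy₀i, ?_⟩
    have := (mem_C.1 hg).map (MulAut.conj g)
    simpa [mul_assoc] using this
  -- work inside the centraliser of `x`
  have key : ∀ v ∈ C[x], (orderOf v).Coprime p →
      C[x * v] = C[x] ⊓ C[v] ∧ (idx (x * v) = n ∨ idx (x * v) = n * m) := by
    intro v hv hvc
    obtain ⟨e, he⟩ := hx
    have hC := C_mul_eq (mem_C.1 hv).symm (by rw [he]; exact (hvc.pow_right e).symm)
    exact ⟨hC, S.cases_of_dvd (hxi ▸ idx_dvd_of_le (hC.le.trans inf_le_left))⟩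
  obtain ⟨P, hP⟩ := exists_isSylIn p C[x]
  set L := C[x] ⊓ Subgroup.centralizer (P : Set G) with hL
  -- every element of `C[x]` of order prime to `p` is conjugate into `L`
  have hsyl : ∀ v ∈ C[x], (orderOf v).Coprime p →
      ∃ k ∈ C[x], ∀ t ∈ P, Commute v (k * t * k⁻¹) := by
    intro v hv hvc
    obtain ⟨hC, hi⟩ := key v hv hvc
    obtain ⟨T, hT⟩ := exists_isSylIn p C[x * v]
    have hTx : T ≤ C[x] := hT.le.trans (hC.le.trans inf_le_left)
    have hT' : IsSylIn p T C[x] := hT.of_eq hTx (S.fact_eq hpm hi (Or.inl hxi))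
    obtain ⟨A, hA⟩ : ∃ A : Sylow p C[x], (A : Subgroup C[x]) = P.subgroupOf C[x] :=
      ⟨((hP.isPGroup).comap_subtype).toSylow hP.not_dvd_relIndex, rfl⟩
    obtain ⟨B, hB⟩ : ∃ B : Sylow p C[x], (B : Subgroup C[x]) = T.subgroupOf C[x] :=
      ⟨((hT'.isPGroup).comap_subtype).toSylow hT'.not_dvd_relIndex, rfl⟩
    obtain ⟨k, hk⟩ := MulAction.exists_smul_eq C[x] A B
    refine ⟨k, k.2, fun t ht => ?_⟩
    have h1 : k⁻¹ * (k * ⟨t, hP.le ht⟩ * k⁻¹) * k ∈ (A : Subgroup C[x]) := by
      rw [hA, Subgroup.mem_subgroupOf]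
      simpa [mul_assoc] using ht
    have h2 := FgsB.mem_smul_of_conj_mem h1
    rw [hk, hB, Subgroup.mem_subgroupOf] at h2
    exact (mem_C.1 ((hC.le (hT.le h2)).2)).symm
  have hcover : ∀ g ∈ C[x], ∃ k ∈ C[x], k⁻¹ * g * k ∈ P ⊔ L := by
    intro g hg
    obtain ⟨a, ha, b, hb, hab, hap, hbc, hc⟩ := exists_parts hp g
    have hgle : ∀ c ∈ Subgroup.zpowers g, c ∈ C[x] := fun c hc => by
      obtain ⟨i, rfl⟩ := Subgroup.mem_zpowers_iff.1 hc
      exact zpow_mem hg i
    obtain ⟨k, hk, hkt⟩ := hsyl b (hgle b hb) hbc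
    -- `C[x] ⊓ C[b]` contains `k P k⁻¹`
    set T := P.map (MulAut.conj k).toMonoidHom with hT
    have hTle : T ≤ C[x] ⊓ C[b] := by
      rintro _ ⟨t, ht, rfl⟩
      exact Subgroup.mem_inf.2 ⟨mul_mem (mul_mem hk (hP.le ht)) (inv_mem hk), mem_C.2 (hkt t ht).symm⟩
    have hTs : IsSylIn p T (C[x] ⊓ C[b]) := by
      refine ⟨hTle, hP.isPGroup.map _, le_antisymm ?_ ?_ |>.trans rfl⟩
      · have h1 := (IsPGroup.iff_card.1 (hP.isPGroup.map (MulAut.conj k).toMonoidHom))
        obtain ⟨i, hi⟩ := h1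
        have h2 := Subgroup.card_dvd_of_le hTle
        rw [← hT, hi] at *
        exact Nat.pow_le_pow_right hp.pos
          ((hp.pow_dvd_iff_le_factorization Nat.card_pos.ne').1 h2)
      · rw [hT, Subgroup.card_map_of_injective (MulEquiv.injective _), hP.card]
        refine Nat.pow_le_pow_right hp.pos ?_
        exact (Nat.factorization_le_iff_dvd Nat.card_pos.ne' Nat.card_pos.ne').2
          (Subgroup.card_dvd_of_le (inf_le_left : C[x] ⊓ C[b] ≤ C[x])) p
    obtain ⟨c, hc', hca⟩ := hTs.exists_conj_mem hap ⟨hgle a ha, mem_C.2 hc⟩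
    refine ⟨c * k, mul_mem hc'.1 hk, ?_⟩
    have hb' : c⁻¹ * b * c = b := by
      rw [mul_assoc, ← (mem_C.1 hc'.2).eq, inv_mul_cancel_left]
    have e : (c * k)⁻¹ * g * (c * k) = (k⁻¹ * (c⁻¹ * a * c) * k) * (k⁻¹ * b * k) := by
      conv_rhs => rw [← hb']
      rw [← hab]; group
    rw [e]
    refine mul_mem (Subgroup.mem_sup_left ?_) (Subgroup.mem_sup_right (Subgroup.mem_inf.2 ⟨?_, ?_⟩))
    · obtain ⟨t, ht, hte⟩ := hca
      rw [← hte]
      simpa [mul_assoc] using ht
    · exact mul_mem (mul_mem (inv_mem hk) (hgle b hb)) hk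
    · refine Subgroup.mem_centralizer_iff.2 fun t ht => ?_
      calc t * (k⁻¹ * b * k) = k⁻¹ * ((k * t * k⁻¹) * b) * k := by group
        _ = k⁻¹ * (b * (k * t * k⁻¹)) * k := by rw [(hkt t ht).eq]
        _ = k⁻¹ * b * k * t := by group
  have hsup : P ⊔ L = C[x] := by
    refine le_antisymm (sup_le hP.le inf_le_left) ?_
    have htop : (P ⊔ L).subgroupOf C[x] = ⊤ := FgsB.eq_top_of_forall_exists_conj_mem fun g => by
      obtain ⟨k, hk, h⟩ := hcover g g.2
      exact ⟨⟨k, hk⟩, by simpa [Subgroup.mem_subgroupOf] using h⟩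
    exact Subgroup.subgroupOf_eq_top.1 htop
  have hPL : ∀ t ∈ P, ∀ l ∈ L, Commute t l := fun t ht l hl =>
    Subgroup.mem_centralizer_iff.1 hl.2 t ht
  -- `L` is normal in `C[x]`
  haveI hLn : (L.subgroupOf C[x]).Normal := by
    rw [← Subgroup.normalizer_eq_top_iff, eq_top_iff]
    intro g _
    have hg : (g : G) ∈ P ⊔ L := hsup.ge g.2
    have hle : P ⊔ L ≤ Subgroup.normalizer (L : Set G) := by
      refine sup_le (fun t ht => Subgroup.mem_normalizer_iff.2 fun l => ?_) Subgroup.le_normalizer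
      constructor
      · intro hl
        rw [(hPL t ht l hl).eq, mul_inv_cancel_right]; exact hl
      · intro hl
        have := hPL t⁻¹ (inv_mem ht) _ hl
        have h' : l = t * l * t⁻¹ := by
          calc l = t⁻¹ * (t * l * t⁻¹) * t := by group
            _ = t * l * t⁻¹ * t⁻¹ * t := by rw [this.eq]
            _ = _ := by group
        rw [h']; exact hl
    rw [Subgroup.mem_normalizer_iff]
    intro l
    simpa [Subgroup.mem_subgroupOf] using (Subgroup.mem_normalizer_iff.1 (hle hg) l)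
  -- class sizes in `L`
  have hidx : ∀ v ∈ L, (C[v]).relIndex C[x] = (C[v]).relIndex L := by
    intro v hv
    set K := (C[v]).subgroupOf C[x]
    set L' := L.subgroupOf C[x]
    have hKL : K ⊔ L' = ⊤ := by
      rw [eq_top_iff]
      have h1 : P.subgroupOf C[x] ⊔ L' = ⊤ := by
        rw [← Subgroup.subgroupOf_sup hP.le inf_le_left, hsup, Subgroup.subgroupOf_self]
      rw [← h1]
      refine sup_le_sup_right ?_ _
      intro t ht
      exact Subgroup.mem_subgroupOf.2 (mem_C.2 (hPL t (Subgroup.mem_subgroupOf.1 ht) v hv))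
    have h1 := Subgroup.relIndex_mul_relIndex (K ⊓ L') L' (K ⊔ L') inf_le_right le_sup_right
    have h2 := Subgroup.relIndex_mul_relIndex (K ⊓ L') K (K ⊔ L') inf_le_left le_sup_left
    rw [Subgroup.relIndex_sup_right, Subgroup.inf_relIndex_right] at h1
    rw [Subgroup.inf_relIndex_left, ← h1, mul_comm (K.relIndex L')] at h2
    have h0 : L'.relIndex K ≠ 0 := Subgroup.index_ne_zero_of_finite
    have h3 := Nat.eq_of_mul_eq_mul_left (Nat.pos_of_ne_zero h0) h2
    rw [hKL, Subgroup.relIndex_top_right] at h3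
    rw [Subgroup.relIndex_subgroupOf (inf_le_left : L ≤ C[x])] at h3
    exact h3
  have hrel : ∀ v ∈ L, (orderOf v).Coprime p → (C[v]).relIndex L = 1 ∨ (C[v]).relIndex L = m := by
    intro v hv hvc
    obtain ⟨hC, hi⟩ := key v hv.1 hvc
    rw [← hidx v hv]
    have h1 : (C[x] ⊓ C[v]).relIndex C[x] * idx x = idx (x * v) := by
      rw [idx, idx, hC]
      exact Subgroup.relIndex_mul_index inf_le_left
    rw [Subgroup.inf_relIndex_left, hxi] at h1
    have hn0 : 0 < n := by have := S.hn; omega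
    rcases hi with hi | hi <;> rw [hi] at h1
    · exact Or.inl (Nat.eq_of_mul_eq_mul_right hn0 (by rw [h1, one_mul]))
    · exact Or.inr (Nat.eq_of_mul_eq_mul_right hn0 (by rw [h1, mul_comm n m]))
  have hidxL : ∀ v : L, idx v = (C[(v : G)]).relIndex L := by
    intro v
    have e : Subgroup.centralizer ({v} : Set L) = (C[(v : G)]).subgroupOf L := by
      ext c
      rw [Subgroup.mem_subgroupOf, Subgroup.mem_centralizer_singleton_iff,
        Subgroup.mem_centralizer_singleton_iff, ← Subtype.coe_inj]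
      simp
    rw [idx, e]
    rfl
  have hTwoh : ∀ v : L, v ∉ Subgroup.center L → idx v = m := by
    intro v hv
    obtain ⟨a, ha, b, hb, hab, hap, hbc, hc⟩ := exists_parts hp (v : G)
    have hle : Subgroup.zpowers (v : G) ≤ L := Subgroup.zpowers_le.2 v.2
    have haL := hle ha
    obtain ⟨k, hk, hka⟩ := hP.exists_conj_mem hap haL.1
    have hkn : k⁻¹ * a * k ∈ L := by
      have := hLn.conj_mem ⟨a, haL.1⟩ (Subgroup.mem_subgroupOf.2 haL) ⟨k, hk⟩⁻¹
      simpa [Subgroup.mem_subgroupOf] using this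
    have hcenL : ∀ l ∈ L, Commute a l := by
      intro l hl
      have hl' : k⁻¹ * l * k ∈ L := by
        have := hLn.conj_mem ⟨l, hl.1⟩ (Subgroup.mem_subgroupOf.2 hl) ⟨k, hk⟩⁻¹
        simpa [Subgroup.mem_subgroupOf] using this
      have h1 := (hPL _ hka _ hl').map (MulAut.conj k)
      simpa [mul_assoc] using h1
    have hCe : (C[(v : G)]).relIndex L = (C[b]).relIndex L := by
      have h1 : C[(v : G)] ⊓ L = C[b] ⊓ L := by
        refine le_antisymm (inf_le_inf_right _ (C_le_of_mem_zpowers hb)) fun c hc' => ⟨mem_C.2 ?_, hc'.2⟩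
        rw [← hab]
        exact (hcenL c hc'.2).symm.mul_right (mem_C.1 hc'.1)
      rw [← Subgroup.inf_relIndex_right, h1, Subgroup.inf_relIndex_right]
    rw [hidxL, hCe]
    refine (hrel b (hle hb) hbc).resolve_left fun h1 => hv (idx_eq_one_iff.1 ?_)
    rw [hidxL, hCe, h1]
  -- a noncentral element of `L`
  have hqp : q ≠ p := by
    intro hqp
    subst hqp
    obtain ⟨k, hk, hky⟩ := hP.exists_conj_mem hy (mem_C.2 hxy.symm)
    obtain ⟨r, hr, hrm⟩ := Nat.exists_prime_and_dvd (n := m) (by have := S.hm; omega)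
    haveI := Fact.mk hr
    have hrp : r ≠ q := fun e => hpm (e ▸ hrm)
    obtain ⟨R, hR⟩ := exists_isSylIn r L
    have hLfact : (Nat.card L).factorization r = (Nat.card G).factorization r := by
      have h1 : (Nat.card C[x]).factorization r = (Nat.card G).factorization r := by
        have := fact_card_add_fact_idx x r
        rw [hxi, Nat.factorization_eq_zero_of_not_dvd (S.not_dvd_n hr hrm), add_zero] at this
        exact this
      refine le_antisymm ((Nat.factorization_le_iff_dvd Nat.card_pos.ne' Nat.card_pos.ne').2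
        (Subgroup.card_subgroup_dvd_card L) r) ?_
      rw [← h1]
      obtain ⟨T, hT⟩ := exists_isSylIn r C[x]
      have hTL : T ≤ L := by
        intro t ht
        obtain ⟨c, hc, hct⟩ := hsyl t (hT.le ht)
          ((IsPEl.of_mem hT.isPGroup ht).coprime_orderOf hr hp hrp)
        have hmem : c⁻¹ * t * c ∈ L := by
          refine Subgroup.mem_inf.2 ⟨mul_mem (mul_mem (inv_mem hc) (hT.le ht)) hc, Subgroup.mem_centralizer_iff.2 fun s hs => ?_⟩
          calc s * (c⁻¹ * t * c) = c⁻¹ * ((c * s * c⁻¹) * t) * c := by group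
            _ = c⁻¹ * (t * (c * s * c⁻¹)) * c := by rw [(hct s hs).eq]
            _ = c⁻¹ * t * c * s := by group
        have := hLn.conj_mem ⟨c⁻¹ * t * c, hmem.1⟩ (Subgroup.mem_subgroupOf.2 hmem) ⟨c, hc⟩
        rw [Subgroup.mem_subgroupOf] at this
        simpa [mul_assoc] using this
      have h2 := Subgroup.card_dvd_of_le hTL
      rw [hT.card] at h2
      exact (hr.pow_dvd_iff_le_factorization Nat.card_pos.ne').1 h2
    have hRC : R ≤ C[k⁻¹ * y * k] := fun t ht => mem_C.2 (hPL _ hky t (hR.le ht)).symm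
    have h2 := Subgroup.card_dvd_of_le hRC
    rw [hR.card, hLfact] at h2
    have h3 := (hr.pow_dvd_iff_le_factorization Nat.card_pos.ne').1 h2
    have h4 := fact_card_add_fact_idx (k⁻¹ * y * k) r
    have h5 : idx (k⁻¹ * y * k) = m := by
      rw [show k⁻¹ * y * k = k⁻¹ * y * k⁻¹⁻¹ by group, idx_conj]; exact hyi
    rw [h5] at h4
    have := (hr.dvd_iff_one_le_factorization (by have := S.hm; omega)).1 hrm
    omega
  obtain ⟨k, hk, hkt⟩ := hsyl y (mem_C.2 hxy.symm) (hy.coprime_orderOf hq hp hqp)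
  set y' := k⁻¹ * y * k with hy'
  have hy'L : y' ∈ L := by
    refine Subgroup.mem_inf.2 ⟨mul_mem (mul_mem (inv_mem hk) (mem_C.2 hxy.symm)) hk,
      Subgroup.mem_centralizer_iff.2 fun t ht => ?_⟩
    calc t * (k⁻¹ * y * k) = k⁻¹ * ((k * t * k⁻¹) * y) * k := by group
      _ = k⁻¹ * (y * (k * t * k⁻¹)) * k := by rw [(hkt t ht).eq]
      _ = k⁻¹ * y * k * t := by group
  have hy'p : IsPEl q y' := by simpa [hy'] using hy.conj k⁻¹
  have hy'i : idx y' = m := by
    rw [hy', show k⁻¹ * y * k = k⁻¹ * y * k⁻¹⁻¹ by group, idx_conj]; exact hyi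
  have hy'Z : (⟨y', hy'L⟩ : L) ∉ Subgroup.center L := by
    intro hz
    have h1 : (C[y']).relIndex L = 1 := (hidxL ⟨y', hy'L⟩).symm.trans (idx_eq_one_iff.2 hz)
    rw [← hidx y' hy'L, Subgroup.relIndex_eq_one] at h1
    have h2 := idx_dvd_of_le h1
    rw [hy'i, hxi] at h2
    exact S.not_m_dvd_n h2
  have T : Two L m := ⟨S.hm, hTwoh, ⟨_, hy'Z⟩⟩
  have hyq : ∃ u : L, (∃ e, orderOf u = q ^ e) ∧ u ∉ Subgroup.center L := by
    obtain ⟨e, he⟩ := hy'p
    exact ⟨_, ⟨e, by rw [Subgroup.orderOf_mk, he]⟩, hy'Z⟩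
  have hall : ∀ {l : ℕ}, l.Prime → l ∣ m → l = q := fun {l} hl hd => by
    by_contra hne
    exact T.one_prime hl hq hne (T.exists_of_dvd hl hd) hyq
  refine ⟨q, m.primeFactorsList.length, y, hq,
    Nat.eq_prime_pow_of_unique_prime_dvd (by have := S.hm; omega) hall, hy, hyi, ?_⟩
  obtain ⟨l, hl, hlm⟩ := Nat.exists_prime_and_dvd (n := m) (by have := S.hm; omega)
  exact hall hl hlm ▸ hlm

end Four

end CfsgLib.CharApps.ClassSizes
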