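import Cfsg.Agent.Lib.CharApps.ClassSizes.Four

/-!
# Four class sizes `1`, `n`, `m`, `n * m`: some element of prime power order with class size `n`
or `m` has its prime dividing that class size
-/

set_option autoImplicit false
set_option linter.style.haveILetI false
set_option linter.unusedSectionVars false

open scoped Pointwise

namespace CfsgLib.CharApps.ClassSizes.Four

variable {G : Type*} [Group G] [Finite G] {n m : ℕ}

local notation "C[" g "]" => Subgroup.centralizer ({g} : Set G)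
local notation "Z" => Subgroup.center G

/-- All elements of prime power order and class size `n` have their primes dividing `m`. -/
def Crossed (G : Type*) [Group G] (n m : ℕ) : Prop :=
  ∀ (l : ℕ) (u : G), l.Prime → IsPEl l u → idx u = n → l ∣ m

/-- A commuting pair from a noncentral element in a centraliser. -/
theorem pair_of_noncentral (S : Four G n m) (hn : Crossed G n m) (hm : Crossed G m n) {p q : ℕ}
    (hp : p.Prime) (hq : q.Prime) {x u : G} (hx : IsPEl p x) (hxi : idx x = n) (hqn : q ∣ n)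
    (hu : IsPEl q u) (hux : u ∈ C[x]) (huZ : u ∉ Z) :
    ∃ (q' : ℕ) (y : G), q'.Prime ∧ q' ∣ n ∧ IsPEl q' y ∧ idx y = m ∧ Commute x y := by
  rcases S.cases huZ with h | h | h
  · exact absurd hqn (S.not_dvd_n hq (hn q u hq hu h))
  · exact ⟨q, u, hq, hqn, hu, h, (mem_C.1 hux).symm⟩
  · obtain ⟨q', y₀, hq', hy₀, hy₀i⟩ := S.symm.exists_primary_n
    have hq'n := hm q' y₀ hq' hy₀ hy₀i
    obtain ⟨e, he⟩ := hu
    obtain ⟨g, hg⟩ := exists_conj_mem (H := C[y₀]) hq he
      (by change ¬ q ∣ idx y₀; rw [hy₀i]; exact S.not_dvd_m hq hqn)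
    have hy : Commute u (g * y₀ * g⁻¹) := by
      have := (mem_C.1 hg).map (MulAut.conj g)
      simpa [mul_assoc] using this
    have hqp : p ≠ q := fun h' => S.not_dvd_n hp (hn p x hp hx hxi) (h' ▸ hqn)
    have hle := S.C_le_of_top ⟨e, he⟩ h (mem_C.1 hux) (hx.coprime_orderOf hp hq hqp)
    exact ⟨q', g * y₀ * g⁻¹, hq', hq'n, hy₀.conj g, by rw [idx_conj]; exact hy₀i,
      (mem_C.1 (hle (mem_C.2 hy.symm))).symm⟩

/-- A commuting pair. -/
theorem exists_pair (S : Four G n m) (hn : Crossed G n m) (hm : Crossed G m n) :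
    ∃ (p q : ℕ) (x y : G), p.Prime ∧ q.Prime ∧ p ∣ m ∧ q ∣ n ∧ IsPEl p x ∧ idx x = n ∧
      IsPEl q y ∧ idx y = m ∧ Commute x y := by
  obtain ⟨p, x, hp, hx, hxi⟩ := S.exists_primary_n
  obtain ⟨q, y, hq, hy, hyi⟩ := S.symm.exists_primary_n
  by_cases hA : ∃ (l : ℕ) (u : G), l.Prime ∧ l ∣ n ∧ IsPEl l u ∧ u ∈ C[x] ∧ u ∉ Z
  · obtain ⟨l, u, hl, hln, hu, hux, huZ⟩ := hA
    obtain ⟨q', y', h1, h2, h3, h4, h5⟩ :=
      pair_of_noncentral S hn hm hp hl hx hxi hln hu hux huZ
    exact ⟨p, q', x, y', hp, h1, hn p x hp hx hxi, h2, hx, hxi, h3, h4, h5⟩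
  by_cases hB : ∃ (l : ℕ) (u : G), l.Prime ∧ l ∣ m ∧ IsPEl l u ∧ u ∈ C[y] ∧ u ∉ Z
  · obtain ⟨l, u, hl, hlm, hu, huy, huZ⟩ := hB
    obtain ⟨p', x', h1, h2, h3, h4, h5⟩ :=
      pair_of_noncentral S.symm hm hn hq hl hy hyi hlm hu huy huZ
    exact ⟨p', q, x', y, h1, hq, h2, hm q y hq hy hyi, h3, h4, hy, hyi, h5.symm⟩
  -- otherwise the index of the centre divides `n * m`
  exfalso
  have hnm0 : n * m ≠ 0 := by
    have := S.m_lt
    omega
  have hZ0 : (Z).index ≠ 0 := Subgroup.index_ne_zero_of_finite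
  have hdvd : (Z).index ∣ n * m := by
    rw [← Nat.factorization_le_iff_dvd hZ0 hnm0]
    intro l
    by_cases hl : l.Prime
    swap
    · simp [Nat.factorization_eq_zero_of_not_prime _ hl]
    have hG : (Nat.card ↥(Z)).factorization l + (Z).index.factorization l =
        (Nat.card G).factorization l := by
      rw [← Subgroup.card_mul_index (Z), Nat.factorization_mul Nat.card_pos.ne' hZ0]; rfl
    by_cases hln : l ∣ n
    · have h1 := fact_card_add_fact_idx x l
      have h2 : (Nat.card C[x]).factorization l ≤ (Nat.card ↥(Z)).factorization l := by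
        by_contra hlt
        obtain ⟨u, hux, hu, huZ⟩ := exists_noncentral_of_fact_lt hl (not_le.1 hlt)
        exact hA ⟨l, u, hl, hln, hu, hux, huZ⟩
      rw [hxi] at h1
      rw [S.fact_nm]
      omega
    by_cases hlm : l ∣ m
    · have h1 := fact_card_add_fact_idx y l
      have h2 : (Nat.card C[y]).factorization l ≤ (Nat.card ↥(Z)).factorization l := by
        by_contra hlt
        obtain ⟨u, huy, hu, huZ⟩ := exists_noncentral_of_fact_lt hl (not_le.1 hlt)
        exact hB ⟨l, u, hl, hlm, hu, huy, huZ⟩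
      rw [hyi] at h1
      rw [S.fact_nm]
      omega
    have h2 : (Nat.card G).factorization l ≤ (Nat.card ↥(Z)).factorization l := by
      by_contra hlt
      obtain ⟨u, -, hu, huZ⟩ := exists_noncentral_of_fact_lt hl (H := (⊤ : Subgroup G))
        (by rw [Subgroup.card_top]; exact not_le.1 hlt)
      exact (S.prime_cases hl hu huZ).elim hln hlm
    omega
  obtain ⟨w, hw⟩ := S.hexnm
  have h1 := rel_mul_idx w
  rw [hw] at h1
  rw [← h1] at hdvd
  have h2 : rel w = 1 := by
    have h3 : rel w * (n * m) ≤ n * m := Nat.le_of_dvd (Nat.pos_of_ne_zero hnm0) hdvd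
    have h4 := rel_pos w
    by_contra hne
    have : 2 * (n * m) ≤ rel w * (n * m) := Nat.mul_le_mul_right _ (by omega)
    omega
  exact S.notMem (Or.inr (Or.inr hw)) (Subgroup.relIndex_eq_one.1 h2 (self_mem_C w))

/-- A fixed point in a translate of a normal subgroup with central `q`-part. -/
theorem exists_fixed_translate {p q : ℕ} [hp : Fact p.Prime] [hq : Fact q.Prime] (hpq : p ≠ q)
    (A : Subgroup G) [hAn : A.Normal] (hcen : ∀ c ∈ A, IsPEl q c → c ∈ Z) {g : G}
    (hg : IsPEl p g) (Q : Subgroup G) (hQ : IsPGroup q Q)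
    (hact : ∀ e ∈ Q, g⁻¹ * (e * g * e⁻¹) ∈ A) :
    ∃ g', g⁻¹ * g' ∈ A ∧ IsPEl p g' ∧ Q ≤ C[g'] := by
  classical
  let X := {h : G // g⁻¹ * h ∈ A ∧ (orderOf h).Coprime q}
  have hpart : ∀ (h : G), g⁻¹ * h ∈ A → ∀ c ∈ Subgroup.zpowers h, (orderOf c).Coprime p →
      c ∈ A := by
    intro h hh c hc hcp
    rw [← QuotientGroup.eq_one_iff (N := A)]
    have hgh : (QuotientGroup.mk h : G ⧸ A) = QuotientGroup.mk g := (QuotientGroup.eq.2 hh).symm
    obtain ⟨i, rfl⟩ := Subgroup.mem_zpowers_iff.1 hc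
    obtain ⟨e, he⟩ := hg
    have h1 : orderOf (QuotientGroup.mk (h ^ i) : G ⧸ A) ∣ p ^ e := by
      rw [QuotientGroup.mk_zpow, hgh, ← QuotientGroup.mk_zpow, orderOf_dvd_iff_pow_eq_one,
        ← QuotientGroup.mk_pow, ← zpow_natCast, ← zpow_mul, mul_comm, zpow_mul, zpow_natCast, ← he,
        pow_orderOf_eq_one, one_zpow, QuotientGroup.mk_one]
    exact orderOf_eq_one_iff.1 (Nat.eq_one_of_dvd_coprimes (hcp.pow_right e)
      (orderOf_map_dvd (QuotientGroup.mk' A) (h ^ i)) h1)
  -- the central `q`-part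
  let B : Subgroup G :=
    { carrier := {c | c ∈ A ∧ IsPEl q c}
      one_mem' := ⟨one_mem _, 0, by simp⟩
      mul_mem' := fun {a b} ha hb => ⟨mul_mem ha.1 hb.1,
        ha.2.mul hq.out hb.2 (Subgroup.mem_center_iff.1 (hcen b hb.1 hb.2) a)⟩
      inv_mem' := fun {a} ha => ⟨inv_mem ha.1, ha.2.inv⟩ }
  have hBA : B ≤ A := fun c hc => hc.1
  have hBp : IsPGroup q B := IsPGroup.iff_orderOf.2 fun c => by
    obtain ⟨e, he⟩ := c.2.2
    exact ⟨e, by rw [← Subgroup.orderOf_coe]; exact he⟩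
  obtain ⟨T, hT⟩ := exists_isSylIn q A
  have hTB : T ≤ B := fun c hc => ⟨hT.le hc, IsPEl.of_mem hT.isPGroup hc⟩
  have hcardB : Nat.card B = q ^ (Nat.card A).factorization q := by
    obtain ⟨i, hi⟩ := IsPGroup.iff_card.1 hBp
    have h1 := Subgroup.card_dvd_of_le hTB
    have h2 := Subgroup.card_dvd_of_le hBA
    rw [hT.card, hi, Nat.pow_dvd_pow_iff_le_right hq.out.one_lt] at h1
    rw [hi] at h2 ⊢
    have h3 := (hq.out.pow_dvd_iff_le_factorization Nat.card_pos.ne').1 h2
    rw [show i = (Nat.card A).factorization q by omega]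
  have hsplit : ∀ h : G, g⁻¹ * h ∈ A → ∃ a c : G, a * c = h ∧ g⁻¹ * a ∈ A ∧
      (orderOf a).Coprime q ∧ c ∈ B := by
    intro h hh
    obtain ⟨c, hc, a, ha, hca, hcq, haq, hcomm⟩ := exists_parts hq.out h
    have hcA := hpart h hh c hc (hcq.coprime_orderOf hq.out hp.out hpq.symm)
    refine ⟨a, c, by rw [← hcomm.eq, hca], ?_, haq, ⟨hcA, hcq⟩⟩
    have : g⁻¹ * a = g⁻¹ * h * c⁻¹ := by rw [← hca, hcomm.eq]; group
    rw [this]
    exact mul_mem hh (inv_mem hcA)
  have hbij : Function.Bijective (fun w : X × B => (⟨g⁻¹ * (w.1.1 * w.2.1),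
      by rw [← mul_assoc]; exact mul_mem w.1.2.1 (hBA w.2.2)⟩ : A)) := by
    constructor
    · rintro ⟨⟨a, ha⟩, ⟨c, hc⟩⟩ ⟨⟨a', ha'⟩, ⟨c', hc'⟩⟩ hw
      have h1 : a * c = a' * c' := mul_left_cancel (congrArg Subtype.val hw :)
      have hcc : Commute a (c * c'⁻¹) :=
        Subgroup.mem_center_iff.1 (mul_mem (hcen c hc.1 hc.2) (inv_mem (hcen c' hc'.1 hc'.2))) a
      have h2 : a' = a * (c * c'⁻¹) := by rw [← mul_assoc, h1, mul_inv_cancel_right]
      have hd : IsPEl q (c * c'⁻¹) :=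
        hc.2.mul hq.out hc'.2.inv (Subgroup.mem_center_iff.1 (inv_mem (hcen c' hc'.1 hc'.2)) c)
      have h3 : c * c'⁻¹ = 1 := by
        refine hd.eq_one (Nat.Coprime.coprime_dvd_left ?_ (ha.2.mul_left ha'.2))
        have e : c * c'⁻¹ = a⁻¹ * a' := by rw [h2, inv_mul_cancel_left]
        rw [e]
        have hco : Commute a⁻¹ a' := by
          rw [h2]; exact ((Commute.refl a).inv_left.mul_right hcc.inv_left)
        refine hco.orderOf_mul_dvd_mul_orderOf.trans ?_
        rw [orderOf_inv]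
      have h4 : c = c' := mul_inv_eq_one.1 h3
      subst h4
      have h5 := mul_right_cancel h1
      subst h5
      rfl
    · rintro ⟨b, hb⟩
      obtain ⟨a, c, hac, haA, haq, hc⟩ := hsplit (g * b) (by simpa using hb)
      exact ⟨⟨⟨a, haA, haq⟩, ⟨c, hc⟩⟩, Subtype.ext (by simp [hac])⟩
  have hcardX : ¬ q ∣ Nat.card X := by
    intro hd
    have h1 := Nat.card_congr (Equiv.ofBijective _ hbij)
    rw [Nat.card_prod, hcardB] at h1
    have h2 : q ^ ((Nat.card A).factorization q + 1) ∣ Nat.card A := by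
      conv_rhs => rw [← h1]
      rw [pow_succ']
      exact Nat.mul_dvd_mul hd dvd_rfl
    have := (hq.out.pow_dvd_iff_le_factorization Nat.card_pos.ne').1 h2
    omega
  letI : MulAction Q X :=
    { smul := fun e w => ⟨(e : G) * w.1 * (e : G)⁻¹, by
        have e1 : g⁻¹ * ((e : G) * w.1 * (e : G)⁻¹) =
            g⁻¹ * ((e : G) * g * (e : G)⁻¹) * ((e : G) * (g⁻¹ * w.1) * (e : G)⁻¹) := by group
        refine ⟨e1 ▸ mul_mem (hact e e.2) (hAn.conj_mem _ w.2.1 e), ?_⟩
        rw [← MulAut.conj_apply, MulEquiv.orderOf_eq]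
        exact w.2.2⟩
      one_smul := fun w => Subtype.ext (by
        change ((1 : Q) : G) * w.1 * ((1 : Q) : G)⁻¹ = w.1
        simp)
      mul_smul := fun s t w => Subtype.ext (by
        change ((s * t : Q) : G) * w.1 * ((s * t : Q) : G)⁻¹ =
          (s : G) * ((t : G) * w.1 * (t : G)⁻¹) * (s : G)⁻¹
        push_cast
        group) }
  obtain ⟨h, hfix⟩ := hQ.nonempty_fixed_point_of_prime_not_dvd_card X hcardX
  obtain ⟨a, ha, b, hb, hab, hap, hbc, hcomm⟩ := exists_parts hp.out h.1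
  refine ⟨a, ?_, hap, fun e he => ?_⟩
  · have hbA := hpart h.1 h.2.1 b hb hbc
    have : g⁻¹ * a = g⁻¹ * h.1 * b⁻¹ := by rw [← hab]; group
    rw [this]
    exact mul_mem h.2.1 (inv_mem hbA)
  · have h1 : e * h.1 * e⁻¹ = h.1 := congrArg Subtype.val (hfix ⟨e, he⟩)
    exact C_le_of_mem_zpowers ha (mem_C.2 (mul_inv_eq_iff_eq_mul.1 h1))

/-- Not all elements of prime power order and class size `n` or `m` are crossed. -/
theorem not_crossed (S : Four G n m) : ¬ (Crossed G n m ∧ Crossed G m n) := by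
  classical
  rintro ⟨hn, hm⟩
  obtain ⟨p, q, x₀, y₀, hp, hq, hpm, hqn, hx₀, hx₀i, hy₀, hy₀i, hxy₀⟩ := exists_pair S hn hm
  haveI := Fact.mk hp
  haveI := Fact.mk hq
  have hpn : ¬ p ∣ n := S.not_dvd_n hp hpm
  have hqm : ¬ q ∣ m := S.not_dvd_m hq hqn
  have hpq : p ≠ q := fun h => hpn (h ▸ hqn)
  have hpel : ∀ u : G, IsPEl p u → idx u ≠ m := fun u hu h => hpn (hm p u hp hu h)
  have hqel : ∀ u : G, IsPEl q u → idx u ≠ n := fun u hu h => hqm (hn q u hq hu h)
  obtain ⟨P⟩ : Nonempty (Sylow p G) := inferInstance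
  set W : Subgroup G := (P : Subgroup G) ⊓ Subgroup.centralizer ((P : Subgroup G) : Set G) with hW
  have hWel : ∀ t ∈ W, IsPEl p t := fun t ht => IsPEl.of_mem P.2 ht.1
  have hWC : ∀ t ∈ W, W ≤ C[t] := fun t ht s hs =>
    mem_C.2 (Subgroup.mem_centralizer_iff.1 ht.2 s hs.1)
  have hWi : ∀ t ∈ W, t ∉ Z → idx t = n := by
    intro t ht htZ
    have hle : (P : Subgroup G) ≤ C[t] := fun s hs =>
      mem_C.2 (Subgroup.mem_centralizer_iff.1 ht.2 s hs)
    have hnd : ¬ p ∣ idx t := fun hd => P.not_dvd_index (hd.trans (Subgroup.index_dvd_of_le hle))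
    rcases S.cases htZ with h | h | h
    · exact h
    · exact absurd h (hpel t (hWel t ht))
    · exact absurd (h ▸ dvd_mul_of_dvd_right hpm n) hnd
  have hconjW : ∀ u : G, IsPEl p u → idx u = n → ∃ g : G, g⁻¹ * u * g ∈ W := by
    intro u hu hui
    obtain ⟨T, hT⟩ := FgsB.ClassPrimes.exists_sylow_le_centralizer (p := p) (x := u)
      (by rw [show (C[u]).index = idx u from rfl, hui]; exact hpn)
    obtain ⟨g, hg⟩ := MulAction.exists_smul_eq G P T
    obtain ⟨e, he⟩ := hu
    have hp' : IsPGroup p (Subgroup.zpowers u) :=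
      IsPGroup.of_card (n := e) (by rw [Nat.card_zpowers, he])
    have huT : u ∈ (T : Subgroup G) := by
      have h1 : Subgroup.zpowers u ≤ Subgroup.normalizer (T : Set G) :=
        Subgroup.zpowers_le.2 ((Subgroup.centralizer_le_normalizer _) hT)
      have h2 := hp'.inf_normalizer_sylow T
      rw [inf_eq_left.2 h1] at h2
      exact (h2.le (Subgroup.mem_zpowers u)).2
    refine ⟨g, ?_, Subgroup.mem_centralizer_iff.2 fun s hs => ?_⟩
    · exact FgsB.conj_mem_of_smul (hg.symm ▸ huT)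
    · have hs' : g * s * g⁻¹ ∈ (T : Subgroup G) :=
        hg ▸ FgsB.mem_smul_of_conj_mem (show g⁻¹ * (g * s * g⁻¹) * g ∈ (P : Subgroup G) by
          rw [show g⁻¹ * (g * s * g⁻¹) * g = s by group]; exact hs)
      have h := Subgroup.mem_centralizer_iff.1 hT _ hs'
      calc s * (g⁻¹ * u * g) = g⁻¹ * (g * s * g⁻¹ * u) * g := by group
        _ = g⁻¹ * (u * (g * s * g⁻¹)) * g := by rw [h]
        _ = _ := by group
  have hnm_le : ∀ {u v : G}, IsPEl q u → idx u = n * m → v ∈ C[u] → IsPEl p v → C[u] ≤ C[v] :=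
    fun {u v} hu hui hv hvp =>
      S.C_le_of_top hu hui (mem_C.1 hv).symm (hvp.coprime_orderOf hp hq hpq)
  -- `y` commutes with as many elements of `W` as possible
  let Y := {y : G // IsPEl q y ∧ idx y = m}
  haveI : Nonempty Y := ⟨⟨y₀, hy₀, hy₀i⟩⟩
  obtain ⟨⟨y, hy, hyi⟩, hmax⟩ :=
    Finite.exists_max fun w : Y => Nat.card ↥(W ⊓ C[(w : G)])
  set N := W ⊓ C[y] with hN
  obtain ⟨t₀, ht₀, ht₀Z⟩ : ∃ t ∈ N, t ∉ Z := by
    by_contra hcon
    push Not at hcon
    obtain ⟨k, hk⟩ := hconjW x₀ hx₀ hx₀i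
    set y₁ := k⁻¹ * y₀ * k with hy₁
    have hy₁i : idx y₁ = m := by
      rw [hy₁, show k⁻¹ * y₀ * k = k⁻¹ * y₀ * k⁻¹⁻¹ by group, idx_conj]; exact hy₀i
    have hcom : Commute (k⁻¹ * x₀ * k) y₁ := by
      simpa using S.conj_comm hx₀i hy₀i hxy₀ k⁻¹ k⁻¹
    have hle : N ≤ W ⊓ C[y₁] := fun t ht => ⟨ht.1, center_le_C y₁ (hcon t ht)⟩
    have hlt : N < W ⊓ C[y₁] := lt_of_le_of_ne hle fun he => by
      have h1 : k⁻¹ * x₀ * k ∈ N := he.symm ▸ ⟨hk, mem_C.2 hcom⟩
      exact S.notMem (Or.inl (show idx (k⁻¹ * x₀ * k) = n by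
        rw [show k⁻¹ * x₀ * k = k⁻¹ * x₀ * k⁻¹⁻¹ by group, idx_conj]; exact hx₀i)) (hcon _ h1)
    exact absurd (hmax ⟨y₁, by simpa [hy₁] using hy₀.conj k⁻¹, hy₁i⟩)
      (not_le.2 (Set.ncard_lt_ncard hlt (Set.toFinite _)))
  have hNconj : ∀ t ∈ N, ∀ k : G, Commute t (k * y * k⁻¹) := by
    intro t ht k
    by_cases htZ : t ∈ Z
    · exact (Subgroup.mem_center_iff.1 htZ _).symm
    · simpa using S.conj_comm (hWi t ht.1 htZ) hyi (mem_C.1 ht.2) 1 k
  -- a conjugate of `y` in the centraliser of an element of the largest class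
  have hyconj : ∀ u : G, IsPEl q u → ∃ k : G, k * y * k⁻¹ ∈ C[u] := by
    rintro u ⟨e, he⟩
    obtain ⟨k, hk⟩ := exists_conj_mem (H := C[y]) hq he (by change ¬ q ∣ idx y; rw [hyi]; exact hqm)
    refine ⟨k, mem_C.2 ?_⟩
    have := ((mem_C.1 hk).map (MulAut.conj k)).symm
    simpa [mul_assoc] using this
  have hnotnm : ∀ e ∈ W, e ∉ C[y] → ∀ u : G, IsPEl q u → e ∈ C[u] → idx u ≠ n * m := by
    intro e he hey u hu heu hui
    obtain ⟨k, hk⟩ := hyconj u hu
    have h1 := (mem_C.1 (hnm_le hu hui heu (hWel e he) hk)).symm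
    have heZ : e ∉ Z := fun h => hey (center_le_C y h)
    refine hey (mem_C.2 ?_)
    have h2 := S.conj_comm (hWi e he heZ) (show idx (k * y * k⁻¹) = m by rw [idx_conj]; exact hyi)
      h1 1 k⁻¹
    simpa [mul_assoc] using h2
  -- `q`-elements centralising `N` and an element of `W` outside are central
  have hM : ∀ v : G, IsPEl q v → N ≤ C[v] → ∀ e ∈ W, e ∉ C[y] → e ∈ C[v] → v ∈ Z := by
    intro v hv hNv e he hey hev
    by_contra hvZ
    rcases S.cases hvZ with h | h | h
    · exact hqel v hv h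
    · have hlt : N < W ⊓ C[v] := lt_of_le_of_ne (le_inf inf_le_left hNv) fun heq =>
        hey (heq.symm ▸ (⟨he, hev⟩ : e ∈ W ⊓ C[v]) : e ∈ N).2
      exact absurd (hmax ⟨v, hv, h⟩) (not_le.2 (Set.ncard_lt_ncard hlt (Set.toFinite _)))
    · exact hnotnm e he hey v hv hev h
  have hZC : ∀ {w : G}, idx w = n → (Nat.card ↥(Z)).factorization q <
      (Nat.card C[w]).factorization q := by
    intro w hw
    rw [S.fact_eq hqm (Or.inl hw) (Or.inl (hWi t₀ ht₀.1 ht₀Z))]
    exact fact_lt_of_noncentral hq (center_le_C _) hy (mem_C.2 (mem_C.1 ht₀.2).symm)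
      (S.notMem (Or.inr (Or.inl hyi)))
  by_cases hall : W ≤ C[y]
  · -- the centraliser of `t₀` is covered by conjugates of that of `y`
    set x := t₀
    have hxi : idx x = n := hWi x ht₀.1 ht₀Z
    have hx : IsPEl p x := hWel x ht₀.1
    have hyx : y ∈ C[x] := mem_C.2 (mem_C.1 ht₀.2).symm
    have hpn_conj : ∀ a : G, IsPEl p a → (a ∈ Z ∨ idx a = n) → ∀ k : G, Commute a (k * y * k⁻¹) := by
      rintro a ha (haZ | hai) k
      · exact (Subgroup.mem_center_iff.1 haZ _).symm
      · obtain ⟨g, hg⟩ := hconjW a ha hai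
        have h1 : Commute (g⁻¹ * a * g) y := mem_C.1 (hall hg)
        have := S.conj_comm (show idx (g⁻¹ * a * g) = n by
          rw [show g⁻¹ * a * g = g⁻¹ * a * g⁻¹⁻¹ by group, idx_conj]; exact hai) hyi h1 g k
        simpa [mul_assoc] using this
    have htop : (C[y]).subgroupOf C[x] = ⊤ := by
      refine FgsB.eq_top_of_forall_exists_conj_mem fun gK => ?_
      obtain ⟨a, ha, b, hb, hab, hap, hbc, hcomm⟩ := exists_parts hp (gK : G)
      have hle : Subgroup.zpowers (gK : G) ≤ C[x] := Subgroup.zpowers_le.2 gK.2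
      suffices h : ∃ c ∈ C[x], Commute a (c * y * c⁻¹) ∧ Commute b (c * y * c⁻¹) by
        obtain ⟨c, hc, h1, h2⟩ := h
        refine ⟨⟨c, hc⟩, Subgroup.mem_subgroupOf.2 (mem_C.2 ?_)⟩
        have h3 : Commute (gK : G) (c * y * c⁻¹) := hab ▸ h1.mul_left h2
        have := h3.map (MulAut.conj c⁻¹)
        simpa [mul_assoc] using this
      by_cases hai : a ∈ Z ∨ idx a = n
      · obtain ⟨e, he⟩ := hx
        have hC := C_mul_eq (mem_C.1 (hle hb)).symm
          (by rw [he]; exact (hbc.pow_right e).symm)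
        have hi := S.cases_of_dvd (hxi ▸ idx_dvd_of_le (hC.le.trans inf_le_left))
        obtain ⟨T, hT⟩ := exists_isSylIn q C[x * b]
        have hT' : IsSylIn q T C[x] :=
          hT.of_eq (hT.le.trans (hC.le.trans inf_le_left)) (S.fact_eq hqm hi (Or.inl hxi))
        obtain ⟨c, hc, hcy⟩ := hT'.exists_conj_mem hy hyx
        have h1 := (mem_C.1 (hC.le (hT.le hcy)).2).symm
        refine ⟨c⁻¹, inv_mem hc, hpn_conj a hap hai _, ?_⟩
        simpa using h1
      · rw [not_or] at hai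
        have hanm : idx a = n * m := by
          rcases S.cases hai.1 with h | h | h
          · exact absurd h hai.2
          · exact absurd h (hpel a hap)
          · exact h
        obtain ⟨T, hT⟩ := exists_isSylIn q C[a]
        have hTel : ∀ s ∈ T, C[a] ≤ C[s] := fun s hs =>
          S.C_le_of_top hap hanm (mem_C.1 (hT.le hs)).symm
            ((IsPEl.of_mem hT.isPGroup hs).coprime_orderOf hq hp hpq.symm)
        have hxa : x ∈ C[a] := mem_C.2 (mem_C.1 (hle ha)).symm
        have hT' : IsSylIn q T C[x] := hT.of_eq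
          (fun s hs => mem_C.2 (mem_C.1 (hTel s hs hxa)).symm)
          (S.fact_eq hqm (Or.inr hanm) (Or.inl hxi))
        obtain ⟨c, hc, hcy⟩ := hT'.exists_conj_mem hy hyx
        refine ⟨c⁻¹, inv_mem hc, ?_, ?_⟩
        · have h1 := (mem_C.1 (hT.le hcy)).symm
          simpa using h1
        · have hba : b ∈ C[a] := mem_C.2 hcomm.symm
          have h1 := mem_C.1 (hTel _ hcy hba)
          simpa using h1
    have h1 : C[x] ≤ C[y] := Subgroup.subgroupOf_eq_top.1 htop
    have h2 := idx_dvd_of_le h1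
    rw [hyi, hxi] at h2
    exact S.not_m_dvd_n h2
  obtain ⟨g, hgW, hgy⟩ := SetLike.not_le_iff_exists.1 hall
  have hgZ : g ∉ Z := fun h => hgy (center_le_C y h)
  have hgi : idx g = n := hWi g hgW hgZ
  have hg : IsPEl p g := hWel g hgW
  obtain ⟨u, hug, hu, huZ⟩ := exists_noncentral_of_fact_lt hq (hZC hgi)
  have hgu : g ∈ C[u] := mem_C.2 (mem_C.1 hug).symm
  have hui : idx u = m := by
    rcases S.cases huZ with h | h | h
    · exact absurd h (hqel u hu)
    · exact h
    · exact absurd h (hnotnm g hgW hgy u hu hgu)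
  obtain ⟨x, hxN, hxu⟩ : ∃ x ∈ N, x ∉ C[u] := by
    by_contra hcon
    push Not at hcon
    exact huZ (hM u hu hcon g hgW hgy hgu)
  have hxi : idx x = n := hWi x hxN.1 fun h => hxu (center_le_C u h)
  have hgx : Commute g x := (mem_C.1 (hWC g hgW hxN.1)).symm
  set z := g * x with hz
  have hzW : z ∈ W := mul_mem hgW hxN.1
  have hzy : z ∉ C[y] := fun h => hgy (by simpa [hz] using mul_mem h (inv_mem hxN.2))
  have hzu : z ∉ C[u] := fun h => hxu (by simpa [hz] using mul_mem (inv_mem hgu) h)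
  have hzi : idx z = n := hWi z hzW fun h => hzy (center_le_C y h)
  set Dz : Subgroup G := Subgroup.centralizer (Subgroup.normalClosure ({z} : Set G) : Set G) with hDz
  set A : Subgroup G := Subgroup.normalClosure ({x} : Set G) ⊓ Subgroup.normalClosure ({g} : Set G) ⊓ Dz
    with hA
  haveI hAn : A.Normal := inferInstance
  have hAy : A ≤ C[y] :=
    inf_le_left.trans (inf_le_left.trans (S.normalClosure_le_C hxi hyi (mem_C.1 hxN.2)))
  have hAu : A ≤ C[u] :=
    inf_le_left.trans (inf_le_right.trans (S.normalClosure_le_C hgi hui (mem_C.1 hgu)))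
  have hAz : ∀ a ∈ A, z ∈ C[a] := fun a ha =>
    mem_C.2 (Subgroup.mem_centralizer_iff.1 ha.2 z (Subgroup.subset_normalClosure rfl))
  -- the `q`-part of `A` is central
  have hcen : ∀ c ∈ A, IsPEl q c → c ∈ Z := by
    intro c hcA hc
    by_contra hcZ
    have hci : idx c = m := by
      rcases S.cases hcZ with h | h | h
      · exact absurd h (hqel c hc)
      · exact h
      · exact absurd h (hnotnm z hzW hzy c hc (hAz c hcA))
    have hyc : Commute y c := (mem_C.1 (hAy hcA)).symm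
    have hwq : IsPEl q (y * c) := hy.mul hq hc hyc
    have hfix : ∀ f : G, IsPEl p f → f ∈ C[y * c] → f ∈ C[y] ∧ f ∈ C[c] := by
      intro f hf hfw
      set d := f * c * f⁻¹ with hd
      have hdA : d ∈ A := hAn.conj_mem c hcA f
      have heq : f * y * f⁻¹ * d = y * c := by
        rw [hd]
        calc f * y * f⁻¹ * (f * c * f⁻¹) = f * (y * c) * f⁻¹ := by group
          _ = y * c := by rw [(mem_C.1 hfw).eq, mul_inv_cancel_right]
      set a := y⁻¹ * (f * y * f⁻¹) with ha
      have hay : a = c * d⁻¹ := by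
        rw [ha, eq_mul_inv_iff_mul_eq, mul_assoc, heq, inv_mul_cancel_left]
      have haA : a ∈ A := hay ▸ mul_mem hcA (inv_mem hdA)
      have hya : Commute y a := (mem_C.1 (hAy haA)).symm
      have haq : IsPEl q a := by
        have hco : Commute y⁻¹ (f * y * f⁻¹) := by
          have : f * y * f⁻¹ = y * a := by rw [ha, mul_inv_cancel_left]
          rw [this]
          exact ((Commute.refl y).mul_right hya).inv_left
        exact hy.inv.mul hq (hy.conj f) hco
      have haN : N ≤ C[a] := fun t ht => mem_C.2 ((by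
        have h1 := hNconj t ht 1
        rw [one_mul, inv_one, mul_one] at h1
        exact h1.inv_right.mul_right (hNconj t ht f)) : Commute t a)
      have haZ : a ∈ Z := hM a haq haN z hzW hzy (hAz a haA)
      have hfy : Commute f y := commute_of_conj_eq_mul (c := a)
        (Subgroup.mem_center_iff.1 haZ f) (hf.coprime hp hq hpq haq)
        (by rw [← hya.eq, ha, mul_inv_cancel_left])
      refine ⟨mem_C.2 hfy, mem_C.2 ?_⟩
      have := hfy.inv_right.mul_right (mem_C.1 hfw)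
      simpa using this
    obtain ⟨T, hT⟩ := exists_isSylIn p C[y * c]
    have hTle : ∀ f ∈ T, f ∈ C[y] ∧ f ∈ C[c] := fun f hf =>
      hfix f (IsPEl.of_mem hT.isPGroup hf) (hT.le hf)
    have hT' : IsSylIn p T C[y] := by
      refine hT.of_eq (fun f hf => (hTle f hf).1) (le_antisymm ?_ ?_)
      · have h2 := Subgroup.card_dvd_of_le (show T ≤ C[y] from fun f hf => (hTle f hf).1)
        rw [hT.card] at h2
        exact (hp.pow_dvd_iff_le_factorization Nat.card_pos.ne').1 h2
      · have h1 := fact_card_add_fact_idx (y * c) p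
        have h2 := fact_card_add_fact_idx y p
        rw [hyi] at h2
        have h3 : (idx (y * c)).factorization p ≤ m.factorization p := by
          rcases S.h (y * c) with h | h | h | h
          · simp [h]
          · exact absurd h (hqel _ hwq)
          · rw [h]
          · rw [h, S.fact_nm, Nat.factorization_eq_zero_of_not_dvd hpn, zero_add]
        omega
    have hNc : N ≤ C[c] := by
      intro t ht
      by_cases htZ : t ∈ Z
      · exact center_le_C c htZ
      obtain ⟨k, hk, hkt⟩ := hT'.exists_conj_mem (hWel t ht.1) ht.2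
      have h1 : Commute (k⁻¹ * t * k) c := mem_C.1 (hTle _ hkt).2
      have := S.conj_comm (show idx (k⁻¹ * t * k) = n by
        rw [show k⁻¹ * t * k = k⁻¹ * t * k⁻¹⁻¹ by group, idx_conj]; exact hWi t ht.1 htZ) hci h1 k 1
      exact mem_C.2 (by simpa [mul_assoc] using this)
    exact hcZ (hM c hc hNc z hzW hzy (hAz c hcA))
  obtain ⟨Q, hQ⟩ := exists_isSylIn q C[z]
  have hQD : Q ≤ Dz := by
    intro e he
    have heq : IsPEl q e := IsPEl.of_mem hQ.isPGroup he
    have hez : Commute z e := (mem_C.1 (hQ.le he)).symm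
    refine Subgroup.mem_centralizer_iff.2 fun t ht => ?_
    by_cases heZ : e ∈ Z
    · exact (Subgroup.mem_center_iff.1 heZ t)
    rcases S.cases heZ with h | h | h
    · exact absurd h (hqel e heq)
    · exact (mem_C.1 (S.normalClosure_le_C hzi h hez ht)).eq
    · exact absurd h (hnotnm z hzW hzy e heq (mem_C.2 hez))
  have hact : ∀ e ∈ Q, g⁻¹ * (e * g * e⁻¹) ∈ A := by
    intro e he
    have hzz : e * z * e⁻¹ = z := by rw [(mem_C.1 (hQ.le he)).eq, mul_inv_cancel_right]
    have h2 : g⁻¹ * (e * g * e⁻¹) = x * (e * x * e⁻¹)⁻¹ := by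
      calc g⁻¹ * (e * g * e⁻¹) = g⁻¹ * (e * z * e⁻¹) * (e * x * e⁻¹)⁻¹ := by rw [hz]; group
        _ = g⁻¹ * z * (e * x * e⁻¹)⁻¹ := by rw [hzz]
        _ = _ := by rw [hz]; group
    refine Subgroup.mem_inf.2 ⟨Subgroup.mem_inf.2 ⟨?_, ?_⟩, ?_⟩
    · rw [h2]
      exact mul_mem (Subgroup.subset_normalClosure rfl)
        (inv_mem (Subgroup.normalClosure_normal.conj_mem x (Subgroup.subset_normalClosure (Set.mem_singleton x)) e))
    · exact mul_mem (inv_mem (Subgroup.subset_normalClosure rfl))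
        (Subgroup.normalClosure_normal.conj_mem g (Subgroup.subset_normalClosure (Set.mem_singleton g)) e)
    · show g⁻¹ * (e * g * e⁻¹) ∈ Dz
      rw [h2, show x * (e * x * e⁻¹)⁻¹ = (x * e * x⁻¹) * e⁻¹ by group]
      exact mul_mem ((inferInstance : Dz.Normal).conj_mem e (hQD he) x) (inv_mem (hQD he))
  obtain ⟨g', hg'A, hg', hQg'⟩ := exists_fixed_translate hpq A hcen hg Q hQ.isPGroup hact
  have hg'eq : g' = g * (g⁻¹ * g') := by group
  have hg'y : g' ∉ C[y] := fun h => hgy (by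
    have := mul_mem h (inv_mem (hAy hg'A))
    rwa [mul_inv_rev, inv_inv, mul_inv_cancel_left] at this)
  have hug' : Commute g' u := by
    rw [hg'eq]; exact (mem_C.1 hgu).mul_left (mem_C.1 (hAu hg'A))
  have hzg' : Commute z g' := by
    rw [hg'eq]
    refine Commute.mul_right ?_ (mem_C.1 (hAz _ hg'A))
    exact (mem_C.1 (hWC g hgW hzW))
  rcases S.cases (fun h => hg'y (center_le_C y h)) with h | h | h
  · have hQ' : IsSylIn q Q C[g'] := hQ.of_eq hQg' (S.fact_eq hqm (Or.inl hzi) (Or.inl h))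
    obtain ⟨k, -, hk⟩ := hQ'.exists_conj_mem hu (mem_C.2 hug'.symm)
    have h1 := (mem_C.1 (hQ.le hk)).symm
    have h2 := S.conj_comm hzi (show idx (k⁻¹ * u * k) = m by
      rw [show k⁻¹ * u * k = k⁻¹ * u * k⁻¹⁻¹ by group, idx_conj]; exact hui) h1 1 k
    exact hzu (mem_C.2 (by simpa [mul_assoc] using h2))
  · exact hpel g' hg' h
  · have h1 := S.C_le_of_top hg' h hug' (hu.coprime_orderOf hq hp hpq.symm)
    exact hzu (h1 (mem_C.2 hzg'))

end CfsgLib.CharApps.ClassSizes.Four
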