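import Cfsg.Agent.Lib.CharApps.ClassSizes.FourBad
import Cfsg.Agent.S4127

/-!
# Class sizes `1`, `n`, `m`, `n * m` for coprime `n`, `m`: the group is nilpotent
-/

set_option autoImplicit false
set_option linter.style.haveILetI false
set_option linter.unusedSectionVars false

open scoped commutatorElement

namespace CfsgLib.CharApps.ClassSizes.Four

variable {G : Type*} [Group G] [Finite G] {n m : ℕ}

local notation "Z" => Subgroup.center G

/-- A normal subgroup containing exactly elements of order prime to `p` with `p`-power index. -/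
theorem exists_complement (S : Four G n m) {p a : ℕ} (hp : p.Prime) (hn : n = p ^ a) {x : G}
    (hx : IsPEl p x) (hxi : idx x = n) :
    ∃ K : Subgroup G, K.Normal ∧ (Nat.card K).Coprime p ∧
      ∀ u : G, (orderOf u).Coprime p → u ∈ K := by
  haveI := Fact.mk hp
  have hpn : p ∣ n := by
    rcases a with _ | a
    · rw [pow_zero] at hn; have := S.hn; omega
    · exact hn ▸ dvd_pow_self p (Nat.succ_ne_zero a)
  have hpm := S.not_dvd_m hp hpn
  have hmax : ∀ y : G, ¬ p ^ (a + 1) ∣ (Subgroup.centralizer ({y} : Set G)).index := by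
    intro y hd
    have h1 := (hp.pow_dvd_iff_le_factorization (idx_pos y).ne').1 hd
    have h2 : (idx y).factorization p ≤ a := by
      have hm0 : m.factorization p = 0 := Nat.factorization_eq_zero_of_not_dvd hpm
      have hn' : n.factorization p = a := by rw [hn, hp.factorization_pow]; simp
      rcases S.h y with h | h | h | h <;> rw [h]
      · simp
      · omega
      · omega
      · rw [S.fact_nm]; omega
    change a + 1 ≤ (idx y).factorization p at h1
    omega
  obtain ⟨e, he⟩ := hx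
  obtain ⟨P, K, hK, hKP⟩ := Cfsg.Agent.S4127.result p a hmax ⟨x, ⟨e, he⟩, hxi.trans hn⟩
  have hcop : (Nat.card K).Coprime p := by
    rw [← hKP.index_eq_card, Nat.coprime_comm, hp.coprime_iff_not_dvd]
    exact P.not_dvd_index
  refine ⟨K, hK, hcop, fun u hu => ?_⟩
  rw [← QuotientGroup.eq_one_iff (N := K)]
  obtain ⟨i, hi⟩ := IsPGroup.iff_card.1 P.isPGroup'
  have h1 : orderOf (QuotientGroup.mk u : G ⧸ K) ∣ p ^ i := by
    rw [← hi, ← hKP.symm.index_eq_card, Subgroup.index_eq_card]
    exact orderOf_dvd_natCard _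
  exact orderOf_eq_one_iff.1 (Nat.eq_one_of_dvd_coprimes (hu.pow_right i)
    (orderOf_map_dvd (QuotientGroup.mk' K) u) h1)

/-- Both sizes are prime powers, each attained by an element of that prime power order. -/
theorem exists_primes (S : Four G n m) :
    ∃ (p a r b : ℕ) (x y : G), p.Prime ∧ r.Prime ∧ n = p ^ a ∧ m = r ^ b ∧ IsPEl p x ∧
      idx x = n ∧ IsPEl r y ∧ idx y = m := by
  -- an element which is not crossed gives both
  have side : ∀ {n m : ℕ}, Four G n m → ∀ (p : ℕ) (x : G), p.Prime → IsPEl p x → idx x = n →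
      ¬ p ∣ m → ∃ (p' a r b : ℕ) (x' y : G), p'.Prime ∧ r.Prime ∧ n = p' ^ a ∧ m = r ^ b ∧
        IsPEl p' x' ∧ idx x' = n ∧ IsPEl r y ∧ idx y = m := by
    intro n m T p x hp hx hxi hpm
    have hpn : p ∣ n := (T.prime_cases hp hx (T.notMem (Or.inl hxi))).resolve_right hpm
    obtain ⟨r, b, y, hr, hmb, hy, hyi, hrm⟩ := T.good hp hx hxi hpn
    obtain ⟨p', a, x', hp', hna, hx', hx'i, -⟩ := T.symm.good hr hy hyi hrm
    exact ⟨p', a, r, b, x', y, hp', hr, hna, hmb, hx', hx'i, hy, hyi⟩
  by_cases hn : Crossed G n m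
  · by_cases hm : Crossed G m n
    · exact absurd ⟨hn, hm⟩ S.not_crossed
    · unfold Crossed at hm
      push Not at hm
      obtain ⟨l, u, hl, hu, hui, hnd⟩ := hm
      obtain ⟨r, b, p, a, y, x, hr, hp, h1, h2, h3, h4, h5, h6⟩ := side S.symm l u hl hu hui hnd
      exact ⟨p, a, r, b, x, y, hp, hr, h2, h1, h5, h6, h3, h4⟩
  · unfold Crossed at hn
    push Not at hn
    obtain ⟨l, u, hl, hu, hui, hnd⟩ := hn
    exact side S l u hl hu hui hnd

/-- The group is nilpotent and both sizes are prime powers. -/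
theorem nilpotent (S : Four G n m) : Group.IsNilpotent G ∧ IsPrimePow n ∧ IsPrimePow m := by
  obtain ⟨p, a, r, b, x, y, hp, hr, hna, hmb, hx, hxi, hy, hyi⟩ := S.exists_primes
  have ha : a ≠ 0 := fun h => by rw [h, pow_zero] at hna; have := S.hn; omega
  have hb : b ≠ 0 := fun h => by rw [h, pow_zero] at hmb; have := S.hm; omega
  refine ⟨?_, hna ▸ hp.isPrimePow.pow ha, hmb ▸ hr.isPrimePow.pow hb⟩
  obtain ⟨Kp, hKpn, hKpc, hKp⟩ := S.exists_complement hp hna hx hxi
  obtain ⟨Kr, hKrn, hKrc, hKr⟩ := S.symm.exists_complement hr hmb hy hyi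
  have hprimes : ∀ {l : ℕ}, l.Prime → ∀ u : G, IsPEl l u → u ∉ Z → l = p ∨ l = r := by
    intro l hl u hu huZ
    rcases S.prime_cases hl hu huZ with h | h
    · exact Or.inl ((Nat.prime_dvd_prime_iff_eq hl hp).1 (hl.dvd_of_dvd_pow (hna ▸ h)))
    · exact Or.inr ((Nat.prime_dvd_prime_iff_eq hl hr).1 (hl.dvd_of_dvd_pow (hmb ▸ h)))
  have hpr : p ≠ r := fun h =>
    S.not_dvd_m hp (hna ▸ dvd_pow_self p ha) (h ▸ hmb ▸ dvd_pow_self r hb)
  -- a `p`-element and an `r`-element commute
  have hcpr : ∀ u v : G, IsPEl p u → IsPEl r v → Commute u v := by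
    intro u v hu hv
    set c := u * v * u⁻¹ * v⁻¹ with hc
    have huK : u ∈ Kr := hKr u (hu.coprime_orderOf hp hr hpr)
    have hvK : v ∈ Kp := hKp v (hv.coprime_orderOf hr hp hpr.symm)
    have hc1 : c ∈ Kp := mul_mem (hKpn.conj_mem v hvK u) (inv_mem hvK)
    have hc2 : c ∈ Kr := by
      rw [hc, show u * v * u⁻¹ * v⁻¹ = u * (v * u⁻¹ * v⁻¹) by group]
      exact mul_mem huK (hKrn.conj_mem _ (inv_mem huK) v)
    have hcp : (orderOf c).Coprime p := hKpc.coprime_dvd_left (Kp.orderOf_dvd_natCard hc1)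
    have hcr : (orderOf c).Coprime r := hKrc.coprime_dvd_left (Kr.orderOf_dvd_natCard hc2)
    have hcZ : c ∈ Z := by
      by_contra hcZ
      obtain ⟨q, k, e, hq, he, hz⟩ := exists_noncentral_primary hcZ
      have he0 : e ≠ 0 := fun h0 => hz (by
        rw [h0, pow_zero, orderOf_eq_one_iff] at he; rw [he]; exact one_mem _)
      have hqd : q ∣ orderOf c :=
        (dvd_pow_self q he0).trans ((dvd_of_eq he.symm).trans (orderOf_pow_dvd' c k))
      rcases hprimes hq _ ⟨e, he⟩ hz with h | h
      · exact hq.ne_one (Nat.eq_one_of_dvd_coprimes hcp hqd (h ▸ dvd_rfl))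
      · exact hq.ne_one (Nat.eq_one_of_dvd_coprimes hcr hqd (h ▸ dvd_rfl))
    have hco : (orderOf u).Coprime (orderOf c) := by
      obtain ⟨e, he⟩ := hu
      rw [he]
      exact (hcp.pow_right e).symm
    exact commute_of_conj_eq_mul (c := c) (Subgroup.mem_center_iff.1 hcZ u) hco
      (by rw [hc]; group)
  have hcomm : ∀ (l l' : ℕ), l.Prime → l'.Prime → l ≠ l' → ∀ u v : G, IsPEl l u → IsPEl l' v →
      Commute u v := by
    intro l l' hl hl' hne u v hu hv
    by_cases huZ : u ∈ Z
    · exact (Subgroup.mem_center_iff.1 huZ v).symm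
    by_cases hvZ : v ∈ Z
    · exact Subgroup.mem_center_iff.1 hvZ u
    rcases hprimes hl u hu huZ with rfl | rfl <;> rcases hprimes hl' v hv hvZ with rfl | rfl
    · exact absurd rfl hne
    · exact hcpr u v hu hv
    · exact (hcpr v u hv hu).symm
    · exact absurd rfl hne
  refine ((Group.isNilpotent_of_finite_tfae (G := G)).out 0 3).2 fun l hl P => ?_
  haveI := hl
  rw [← Subgroup.normalizer_eq_top_iff, eq_top_iff]
  refine le_of_primes fun q hq hdvd u _ hu => ?_
  rcases eq_or_ne q l with rfl | hne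
  · rw [Subgroup.relIndex_top_right] at hdvd
    exact absurd (hdvd.trans (Subgroup.index_dvd_of_le Subgroup.le_normalizer)) P.not_dvd_index
  · refine Subgroup.centralizer_le_normalizer _ (Subgroup.mem_centralizer_iff.2 fun s hs => ?_)
    exact (hcomm q l hq hl.out hne u s hu (IsPEl.of_mem P.2 hs)).symm

end CfsgLib.CharApps.ClassSizes.Four
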