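import Cfsg.Agent.Lib.CharApps.ClassSizes.Basic

/-!
# Groups with a partition: elementary lemmas, and the components modulo the centre of a group
with one nontrivial class size
-/

set_option autoImplicit false
set_option linter.style.haveILetI false

open scoped Pointwise

namespace CfsgLib.CharApps.ClassSizes

/-- A partition, given by the component of each element. -/
structure Partition {Q : Type*} [Group Q] (comp : Q → Subgroup Q) : Prop where
  mem : ∀ a, a ∈ comp a
  eq : ∀ a, a ≠ 1 → ∀ b ∈ comp a, b ≠ 1 → comp b = comp a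

namespace Partition

variable {Q : Type*} [Group Q] {comp : Q → Subgroup Q}

theorem mem_of_ne (h : Partition comp) {a b c : Q} (ha : a ≠ 1) (hb : b ∈ comp a)
    (hb1 : b ≠ 1) (hc : c ∈ comp b) : c ∈ comp a := h.eq a ha b hb hb1 ▸ hc

/-- Commuting elements of different components have the same powers equal to one. -/
theorem pow_eq_one (h : Partition comp) {a b : Q} (hc : Commute a b) (ha : a ≠ 1)
    (hne : b ∉ comp a) {k : ℕ} (hb : b ^ k = 1) : a ^ k = 1 := by
  by_contra hak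
  have hab : a * b ≠ 1 := fun he =>
    hne (by rw [show b = a⁻¹ from eq_inv_of_mul_eq_one_right he]; exact inv_mem (h.mem a))
  have h1 : a ^ k ∈ comp (a * b) := by
    have := pow_mem (h.mem (a * b)) k
    rwa [hc.mul_pow, hb, mul_one] at this
  have e1 := h.eq a ha _ (pow_mem (h.mem a) k) hak
  have e2 := h.eq (a * b) hab _ h1 hak
  have h2 : a * b ∈ comp a := by rw [← e1, e2]; exact h.mem _
  exact hne (by simpa using mul_mem (inv_mem (h.mem a)) h2)

theorem orderOf_eq (h : Partition comp) {a b : Q} (hc : Commute a b) (ha : a ≠ 1) (hb : b ≠ 1)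
    (hne : b ∉ comp a) : orderOf a = orderOf b := by
  have hne' : a ∉ comp b := fun ha' => hne (h.eq b hb a ha' ha ▸ h.mem b)
  exact Nat.dvd_antisymm
    (orderOf_dvd_of_pow_eq_one (h.pow_eq_one hc ha hne (pow_orderOf_eq_one b)))
    (orderOf_dvd_of_pow_eq_one (h.pow_eq_one hc.symm hb hne' (pow_orderOf_eq_one a)))

/-- The order of an element commuting with one of another component is a prime. -/
theorem prime_orderOf [Finite Q] (h : Partition comp) {a b : Q} (hc : Commute a b) (ha : a ≠ 1)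
    (hb : b ≠ 1) (hne : b ∉ comp a) : (orderOf a).Prime := by
  have ho : orderOf a ≠ 1 := fun h1 => ha (orderOf_eq_one_iff.1 h1)
  by_contra hnp
  obtain ⟨p, hp, k, hk⟩ := Nat.exists_prime_and_dvd ho
  have hk1 : a ^ k ≠ 1 := fun he => by
    have := Nat.le_of_dvd (Nat.pos_of_ne_zero fun h0 => by
      rw [h0, mul_zero] at hk; exact (orderOf_pos a).ne' hk) (orderOf_dvd_of_pow_eq_one he)
    rw [hk] at this
    have := hp.two_le
    have hpos := orderOf_pos a
    nlinarith
  have hne' : b ∉ comp (a ^ k) := fun hb' => hne (h.eq a ha _ (pow_mem (h.mem a) k) hk1 ▸ hb')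
  have h1 := h.orderOf_eq (hc.pow_left k) hk1 hb hne'
  rw [← h.orderOf_eq hc ha hb hne] at h1
  have h2 : orderOf (a ^ k) = p := by
    rw [orderOf_pow, hk, Nat.gcd_mul_left_left, Nat.mul_div_cancel]
    exact Nat.pos_of_ne_zero fun h0 => by
      rw [h0, mul_zero] at hk; exact (orderOf_pos a).ne' hk
  exact hnp (by rw [← h1, h2]; exact hp)

end Partition

/-- In a commutative group an automorphism pair of exponent `p` without fixed points in the
sense of norms forces exponent `p`. -/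
theorem pow_eq_one_of_norms {M : Type*} [CommGroup M] {p : ℕ} (hp : 0 < p) (e₁ e₂ : MulAut M)
    (hc : Commute e₁ e₂) (a : M)
    (h₁ : ∀ j, ∏ k ∈ Finset.range p, ((e₁ * e₂ ^ j) ^ k) a = 1)
    (h₂ : ∀ i, i + 1 < p → ∏ k ∈ Finset.range p, ((e₂ ^ (i + 1)) ^ k) a = 1) : a ^ p = 1 := by
  obtain ⟨p', rfl⟩ : ∃ p', p = p' + 1 := ⟨p - 1, by omega⟩
  have h : ∏ j ∈ Finset.range (p' + 1),
      ∏ k ∈ Finset.range (p' + 1), ((e₁ * e₂ ^ j) ^ k) a = 1 := Finset.prod_eq_one fun j _ => h₁ j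
  rw [Finset.prod_comm, Finset.prod_range_succ'] at h
  have h0 : ∏ i ∈ Finset.range p', ∏ j ∈ Finset.range (p' + 1),
      ((e₁ * e₂ ^ j) ^ (i + 1)) a = 1 := by
    refine Finset.prod_eq_one fun i hi => ?_
    have h3 : ∀ j, ((e₁ * e₂ ^ j) ^ (i + 1)) a = (e₁ ^ (i + 1)) (((e₂ ^ (i + 1)) ^ j) a) := by
      intro j
      rw [(hc.pow_right j).mul_pow, ← pow_mul, mul_comm j, pow_mul, MulAut.mul_apply]
    simp only [h3]
    rw [← map_prod, h₂ i (by have := Finset.mem_range.1 hi; omega), map_one]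
  rw [h0, one_mul] at h
  simpa using h

/-- The product of the iterates of an automorphism of order dividing `p` is fixed by it. -/
theorem map_norm_eq {M : Type*} [CommGroup M] {p : ℕ} (e : MulAut M) (he : e ^ p = 1) (a : M) :
    e (∏ k ∈ Finset.range p, (e ^ k) a) = ∏ k ∈ Finset.range p, (e ^ k) a := by
  rw [map_prod]
  have h := Finset.prod_range_succ' (fun k => (e ^ k) a) p
  rw [Finset.prod_range_succ, he, pow_zero] at h
  simp only [pow_succ', MulAut.mul_apply] at h
  exact (mul_right_cancel h).symm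

variable {G : Type*} [Group G]

local notation "C[" g "]" => Subgroup.centralizer ({g} : Set G)
local notation "Z" => Subgroup.center G

/-- The elements commuting with everything commuting with `g`. -/
abbrev dc (g : G) : Subgroup G := Subgroup.centralizer (C[g] : Set G)

theorem self_mem_dc (g : G) : g ∈ dc g :=
  Subgroup.mem_centralizer_iff.2 fun _c hc => (mem_C.1 hc).eq

theorem dc_le_C (g : G) : dc g ≤ C[g] := fun _h hh =>
  mem_C.2 (Subgroup.mem_centralizer_iff.1 hh g (self_mem_C g)).symm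

theorem dc_comm {g a b : G} (ha : a ∈ dc g) (hb : b ∈ dc g) : Commute a b :=
  (Subgroup.mem_centralizer_iff.1 hb a (dc_le_C g ha))

theorem center_le_dc (g : G) : Z ≤ dc g := fun _z hz =>
  Subgroup.mem_centralizer_iff.2 fun c _ => Subgroup.mem_center_iff.1 hz c

theorem C_le_of_mem_dc {g h : G} (hh : h ∈ dc g) : C[g] ≤ C[h] := fun c hc =>
  mem_C.2 (Subgroup.mem_centralizer_iff.1 hh c hc)

theorem conj_mem_dc {g h : G} (s : G) (hh : h ∈ dc g) : s * h * s⁻¹ ∈ dc (s * g * s⁻¹) := by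
  refine Subgroup.mem_centralizer_iff.2 fun c hc => ?_
  have h1 : s⁻¹ * c * s ∈ C[g] := mem_C.2 (by
    have := (mem_C.1 hc).eq
    calc s⁻¹ * c * s * g = s⁻¹ * (c * (s * g * s⁻¹)) * s := by group
      _ = s⁻¹ * ((s * g * s⁻¹) * c) * s := by rw [this]
      _ = g * (s⁻¹ * c * s) := by group)
  calc c * (s * h * s⁻¹) = s * ((s⁻¹ * c * s) * h) * s⁻¹ := by group
    _ = s * (h * (s⁻¹ * c * s)) * s⁻¹ := by rw [Subgroup.mem_centralizer_iff.1 hh _ h1]
    _ = s * h * s⁻¹ * c := by group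

/-- The image in `G/Z(G)` of the double centraliser of a lift. -/
noncomputable def dcQ (a : G ⧸ Z) : Subgroup (G ⧸ Z) :=
  (dc a.out).map (QuotientGroup.mk' Z)

theorem dc_eq_of_mk_eq {g h : G} (he : (QuotientGroup.mk g : G ⧸ Z) = QuotientGroup.mk h) :
    dc g = dc h := by
  have h1 : g⁻¹ * h ∈ Z := QuotientGroup.eq.1 he
  have h2 : C[h] = C[g] := by
    rw [show h = g * (g⁻¹ * h) by group, C_eq_of_mul_center h1]
  unfold dc
  rw [h2]

theorem dcQ_mk (g : G) : dcQ (QuotientGroup.mk g : G ⧸ Z) = (dc g).map (QuotientGroup.mk' Z) := by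
  rw [dcQ, dc_eq_of_mk_eq (QuotientGroup.out_eq' (QuotientGroup.mk g : G ⧸ Z))]

theorem mem_dcQ_mk {g h : G} :
    (QuotientGroup.mk h : G ⧸ Z) ∈ dcQ (QuotientGroup.mk g) ↔ h ∈ dc g := by
  rw [dcQ_mk]
  refine ⟨fun hh => ?_, fun hh => ⟨h, hh, rfl⟩⟩
  have h1 : h ∈ ((dc g).map (QuotientGroup.mk' Z)).comap (QuotientGroup.mk' Z) := hh
  rwa [Subgroup.comap_map_eq_self (by rw [QuotientGroup.ker_mk']; exact center_le_dc g)] at h1

theorem conj_mem_dcQ {a b : G ⧸ Z} (s : G ⧸ Z) (hb : b ∈ dcQ a) :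
    s * b * s⁻¹ ∈ dcQ (s * a * s⁻¹) := by
  obtain ⟨s, rfl⟩ := QuotientGroup.mk_surjective s
  obtain ⟨a, rfl⟩ := QuotientGroup.mk_surjective a
  obtain ⟨b, rfl⟩ := QuotientGroup.mk_surjective b
  rw [mem_dcQ_mk] at hb
  exact mem_dcQ_mk.2 (conj_mem_dc s hb)

theorem dcQ_comm {a b c : G ⧸ Z} (hb : b ∈ dcQ a) (hc : c ∈ dcQ a) : Commute b c := by
  obtain ⟨b', hb', rfl⟩ := hb
  obtain ⟨c', hc', rfl⟩ := hc
  exact (dc_comm hb' hc').map _

theorem partition_dcQ [Finite G] {n : ℕ}
    (h : ∀ g : G, g ∉ Z → idx g = n) : Partition (dcQ (G := G)) := by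
  refine ⟨fun a => ?_, fun a ha b hb hb1 => ?_⟩
  · obtain ⟨g, rfl⟩ := QuotientGroup.mk_surjective a
    exact mem_dcQ_mk.2 (self_mem_dc g)
  · obtain ⟨g, rfl⟩ := QuotientGroup.mk_surjective a
    obtain ⟨w, rfl⟩ := QuotientGroup.mk_surjective b
    have hg : g ∉ Z := fun h => ha ((QuotientGroup.eq_one_iff _).2 h)
    have hw : w ∉ Z := fun h => hb1 ((QuotientGroup.eq_one_iff _).2 h)
    have heq := C_eq_of_le_of_idx (C_le_of_mem_dc (mem_dcQ_mk.1 hb)) ((h g hg).trans (h w hw).symm)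
    rw [dcQ_mk, dcQ_mk]
    unfold dc
    rw [heq]

end CfsgLib.CharApps.ClassSizes
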