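import Cfsg.Agent.Lib.CharApps.ClassSizes.Partition
import Cfsg.Agent.Lib.PGroups.Basic

/-!
# Groups with class sizes `1`, `m`, `m * n` for coprime `m`, `n`: basic facts
-/

set_option autoImplicit false
set_option linter.style.haveILetI false

open scoped Pointwise

namespace CfsgLib.CharApps.ClassSizes

/-- Variant of `pow_eq_one_of_norms` modulo an invariant subgroup. -/
theorem pow_mem_of_norms {M : Type*} [CommGroup M] {p : ℕ} (hp : 0 < p) (e₁ e₂ : MulAut M)
    (hc : Commute e₁ e₂) (S : Subgroup M) (hS : ∀ i, ∀ s ∈ S, (e₁ ^ i) s ∈ S) (a : M)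
    (h₁ : ∀ j, ∏ k ∈ Finset.range p, ((e₁ * e₂ ^ j) ^ k) a ∈ S)
    (h₂ : ∀ i, i + 1 < p → ∏ k ∈ Finset.range p, ((e₂ ^ (i + 1)) ^ k) a ∈ S) : a ^ p ∈ S := by
  obtain ⟨p', rfl⟩ : ∃ p', p = p' + 1 := ⟨p - 1, by omega⟩
  have h : ∏ j ∈ Finset.range (p' + 1),
      ∏ k ∈ Finset.range (p' + 1), ((e₁ * e₂ ^ j) ^ k) a ∈ S := S.prod_mem fun j _ => h₁ j
  rw [Finset.prod_comm, Finset.prod_range_succ'] at h
  have h0 : ∏ i ∈ Finset.range p', ∏ j ∈ Finset.range (p' + 1),
      ((e₁ * e₂ ^ j) ^ (i + 1)) a ∈ S := by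
    refine S.prod_mem fun i hi => ?_
    have h3 : ∀ j, ((e₁ * e₂ ^ j) ^ (i + 1)) a = (e₁ ^ (i + 1)) (((e₂ ^ (i + 1)) ^ j) a) := by
      intro j
      rw [(hc.pow_right j).mul_pow, ← pow_mul, mul_comm j, pow_mul, MulAut.mul_apply]
    simp only [h3]
    rw [← map_prod]
    exact hS _ _ (h₂ i (by have := Finset.mem_range.1 hi; omega))
  have := S.mul_mem (S.inv_mem h0) h
  simpa using this

variable {G : Type*} [Group G]

local notation "C[" g "]" => Subgroup.centralizer ({g} : Set G)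
local notation "Z" => Subgroup.center G

theorem mem_normalizer_C {g e : G} (h : C[g * e * g⁻¹] = C[e]) :
    g ∈ Subgroup.normalizer (C[e] : Set G) := by
  refine Subgroup.mem_normalizer_iff.2 fun c => ?_
  conv_rhs => rw [← h]
  rw [mem_C, mem_C]
  exact ⟨fun h => by simpa using h.map (MulAut.conj g),
    fun h => by simpa [mul_assoc] using h.map (MulAut.conj g⁻¹)⟩

variable [Finite G]

/-- Noncentral class sizes are `m` and `m * n`, both occurring, with `m`, `n` coprime. -/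
structure Three (G : Type*) [Group G] (m n : ℕ) : Prop where
  hm : 1 < m
  hn : 1 < n
  hcop : m.Coprime n
  h : ∀ g : G, g ∉ Subgroup.center G → idx g = m ∨ idx g = m * n
  hexm : ∃ g : G, idx g = m
  hexmn : ∃ g : G, idx g = m * n

/-- The relative index of the centre in a centraliser. -/
noncomputable abbrev rel (g : G) : ℕ := (Z).relIndex C[g]

theorem rel_mul_idx (g : G) : rel g * idx g = (Z).index :=
  Subgroup.relIndex_mul_index (center_le_C g)

theorem rel_pos (g : G) : 0 < rel g :=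
  Nat.pos_of_ne_zero Subgroup.index_ne_zero_of_finite

theorem pow_rel_mem {g h : G} (hh : h ∈ C[g]) : h ^ rel g ∈ Z :=
  Subgroup.mem_subgroupOf.1 (Subgroup.pow_index_mem ((Z).subgroupOf C[g]) ⟨h, hh⟩)

theorem exists_primary_of_dvd {p : ℕ} (hp : p.Prime) {H : Subgroup G}
    (hd : p ∣ (Z).relIndex H) : ∃ u ∈ H, (∃ e, orderOf u = p ^ e) ∧ u ∉ Z := by
  haveI := Fact.mk hp
  by_contra hcon
  push Not at hcon
  obtain ⟨P⟩ : Nonempty (Sylow p ↥H) := inferInstance
  refine P.not_dvd_index (hd.trans (Subgroup.index_dvd_of_le fun u hu => ?_))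
  obtain ⟨e, he⟩ := (IsPGroup.iff_orderOf.1 P.isPGroup') ⟨u, hu⟩
  rw [Subgroup.orderOf_mk, ← Subgroup.orderOf_coe] at he
  exact hcon u u.2 ⟨e, he⟩

theorem dvd_rel_of_mem {p : ℕ} (hp : p.Prime) {g u : G} (hu : u ∈ C[g])
    (huo : ∃ e, orderOf u = p ^ e) (huZ : u ∉ Z) : p ∣ rel g := by
  by_contra hnd
  obtain ⟨e, he⟩ := huo
  exact huZ (mem_center_of_pow (pow_rel_mem hu)
    (by rw [he]; exact ((hp.coprime_iff_not_dvd.2 hnd).symm).pow_right e))

/-- A prime dividing no class size only has central elements of its prime power order. -/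
theorem mem_center_of_not_dvd {r : ℕ} (hr : r.Prime) (h : ∀ g : G, ¬ r ∣ idx g) {u : G}
    (hu : ∃ e, orderOf u = r ^ e) : u ∈ Z := by
  haveI := Fact.mk hr
  obtain ⟨e, he⟩ := hu
  obtain ⟨R, hR⟩ := (IsPGroup.of_card (G := Subgroup.zpowers u) (n := e)
    (by rw [Nat.card_zpowers, he])).exists_le_sylow
  have huR : u ∈ R := hR (Subgroup.mem_zpowers u)
  have htop : Subgroup.centralizer ((R : Subgroup G) : Set G) = ⊤ := by
    refine FgsB.eq_top_of_forall_exists_conj_mem fun g => ?_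
    obtain ⟨S⟩ : Nonempty (Sylow r ↥C[g]) := inferInstance
    have hSp : IsPGroup r ((S : Subgroup ↥C[g]).map C[g].subtype) := S.isPGroup'.map _
    have hSi : ¬ r ∣ ((S : Subgroup ↥C[g]).map C[g].subtype).index := by
      rw [← Subgroup.relIndex_mul_index (Subgroup.map_subtype_le (S : Subgroup ↥C[g])),
        Subgroup.relIndex, Subgroup.subgroupOf,
        Subgroup.comap_map_eq_self_of_injective C[g].subtype_injective]
      exact hr.not_dvd_mul S.not_dvd_index (h g)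
    obtain ⟨x, hx⟩ := MulAction.exists_smul_eq G R (hSp.toSylow hSi)
    refine ⟨x, Subgroup.mem_centralizer_iff.2 fun y hy => ?_⟩
    have hy1 : x⁻¹ * (x * y * x⁻¹) * x = y := by group
    have hy' : x * y * x⁻¹ ∈ ((x • R : Sylow r G) : Subgroup G) :=
      FgsB.mem_smul_of_conj_mem (by rw [hy1]; exact hy)
    rw [hx] at hy'
    have hc : Commute (x * y * x⁻¹) g := mem_C.1 (Subgroup.map_subtype_le _ hy')
    calc y * (x⁻¹ * g * x) = x⁻¹ * ((x * y * x⁻¹) * g) * x := by group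
      _ = x⁻¹ * (g * (x * y * x⁻¹)) * x := by rw [hc.eq]
      _ = x⁻¹ * g * x * y := by group
  rw [Subgroup.mem_center_iff]
  intro g
  have hg : g ∈ Subgroup.centralizer ((R : Subgroup G) : Set G) := htop ▸ Subgroup.mem_top g
  exact (Subgroup.mem_centralizer_iff.1 hg u huR).symm

/-- A `p`-element acting on a finite set of elements by conjugation. -/
theorem card_modEq_fixed {p : ℕ} [hp : Fact p.Prime] {g : G} (hg : ∃ e, orderOf g = p ^ e)
    (K : Subgroup G) (hgK : ∀ k ∈ K, g * k * g⁻¹ ∈ K) :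
    Nat.card K ≡ Nat.card ↥(K ⊓ C[g]) [MOD p] := by
  obtain ⟨e, he⟩ := hg
  have hP : IsPGroup p (Subgroup.zpowers g) := IsPGroup.of_card (n := e) (by rw [Nat.card_zpowers, he])
  have hn : ∀ s ∈ Subgroup.zpowers g, ∀ k ∈ K, s * k * s⁻¹ ∈ K := by
    intro s hs k hk
    obtain ⟨i, rfl⟩ := mem_powers_iff_mem_zpowers.2 hs
    simp only []
    clear hs
    induction i with
    | zero => simpa using hk
    | succ i ih =>
      have := hgK _ ih
      have e1 : g ^ (i + 1) * k * (g ^ (i + 1))⁻¹ = g * (g ^ i * k * (g ^ i)⁻¹) * g⁻¹ := by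
        rw [pow_succ']; group
      rw [e1]; exact this
  letI : MulAction (Subgroup.zpowers g) K :=
    { smul := fun s k => ⟨(s : G) * k * (s : G)⁻¹, hn s s.2 k k.2⟩
      one_smul := fun k => Subtype.ext (by
        change ((1 : Subgroup.zpowers g) : G) * k * ((1 : Subgroup.zpowers g) : G)⁻¹ = k
        simp)
      mul_smul := fun s t k => Subtype.ext (by
        change ((s * t : Subgroup.zpowers g) : G) * k * ((s * t : Subgroup.zpowers g) : G)⁻¹ =
          (s : G) * ((t : G) * k * (t : G)⁻¹) * (s : G)⁻¹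
        push_cast
        group) }
  refine (hP.card_modEq_card_fixedPoints K).trans ?_
  rw [Nat.card_congr (show MulAction.fixedPoints (Subgroup.zpowers g) K ≃ ↥(K ⊓ C[g]) from
    { toFun := fun k => ⟨k.1.1, k.1.2, mem_C.2 (by
        have := congrArg Subtype.val (k.2 ⟨g, Subgroup.mem_zpowers g⟩)
        exact (mul_inv_eq_iff_eq_mul.1 this).symm)⟩
      invFun := fun k => ⟨⟨k.1, k.2.1⟩, fun s => Subtype.ext (by
        obtain ⟨i, hi⟩ := mem_powers_iff_mem_zpowers.2 s.2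
        change (s : G) * k.1 * (s : G)⁻¹ = k.1
        rw [← hi, ((mem_C.1 k.2.2).pow_right i).symm.eq, mul_inv_cancel_right])⟩
      left_inv := fun k => rfl
      right_inv := fun k => rfl })]

/-- A `p`-element fixing only central elements of an invariant subgroup `K` of order prime
to `p` forces `p ∣ [K : K ∩ Z] - 1`. -/
theorem dvd_relIndex_sub_one {p : ℕ} [hp : Fact p.Prime] {g : G} (hg : ∃ e, orderOf g = p ^ e)
    (K : Subgroup G) (hK : (Nat.card K).Coprime p) (hgK : ∀ k ∈ K, g * k * g⁻¹ ∈ K)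
    (hfix : K ⊓ C[g] ≤ Z) : p ∣ (Z).relIndex K - 1 := by
  have h1 := card_modEq_fixed hg K hgK
  have he : K ⊓ C[g] = (Z) ⊓ K :=
    le_antisymm (le_inf hfix inf_le_left) (le_inf inf_le_right (inf_le_left.trans (center_le_C g)))
  rw [he] at h1
  have h2 : Nat.card ↥((Z) ⊓ K) * (Z).relIndex K = Nat.card K := by
    rw [← Subgroup.inf_relIndex_right, ← Subgroup.relIndex_bot_left ((Z) ⊓ K),
      Subgroup.relIndex_mul_relIndex _ _ _ bot_le inf_le_right, Subgroup.relIndex_bot_left]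
  rw [← h2] at h1
  have h3 : (Nat.card ↥((Z) ⊓ K)).Coprime p :=
    hK.coprime_dvd_left (Subgroup.card_dvd_of_le inf_le_right)
  have h4 : (Z).relIndex K ≡ 1 [MOD p] :=
    Nat.ModEq.cancel_left_of_coprime h3.symm (by rw [mul_one]; exact h1)
  exact (Nat.modEq_iff_dvd' (Nat.pos_of_ne_zero Subgroup.index_ne_zero_of_finite)).1 h4.symm

/-- A noncentral element of `p`-power order of a subgroup normalised by a `p`-group, central
modulo the centre in it, of order `p` modulo the centre. -/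
theorem exists_t {p : ℕ} [hp : Fact p.Prime] {P : Subgroup G} (hP : IsPGroup p P)
    {R : Subgroup G} (hRP : R ≤ P) (hRn : ∀ g ∈ P, ∀ r ∈ R, g * r * g⁻¹ ∈ R)
    (hR : ¬ R ≤ Z) :
    ∃ t ∈ R, t ∉ Z ∧ t ^ p ∈ Z ∧ ∀ g ∈ P, g * t * g⁻¹ * t⁻¹ ∈ Z := by
  set N : Subgroup P := (Z).subgroupOf P with hN
  haveI : N.Normal := inferInstance
  set R' : Subgroup P := R.subgroupOf P
  haveI : R'.Normal := ⟨fun r hr g => hRn g g.2 r hr⟩
  haveI : (R'.map (QuotientGroup.mk' N)).Normal :=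
    Subgroup.Normal.map inferInstance _ (QuotientGroup.mk'_surjective N)
  have hne : R'.map (QuotientGroup.mk' N) ≠ ⊥ := by
    rw [Ne, Subgroup.map_eq_bot_iff, QuotientGroup.ker_mk']
    exact fun h => hR fun r hr => h (x := ⟨r, hRP hr⟩) hr
  have hne2 := CfsgLib.PGroups.inf_center_ne_bot (hP.to_quotient N) hne
  obtain ⟨w, hw, hwo⟩ : ∃ w ∈ R'.map (QuotientGroup.mk' N) ⊓ Subgroup.center (P ⧸ N),
      orderOf w = p := by
    have hp' := (hP.to_quotient N).to_subgroup (R'.map (QuotientGroup.mk' N) ⊓ Subgroup.center (P ⧸ N))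
    haveI := (Subgroup.nontrivial_iff_ne_bot _).2 hne2
    obtain ⟨k, hk, hk'⟩ := hp'.nontrivial_iff_card.1 inferInstance
    obtain ⟨w, hw⟩ := exists_prime_orderOf_dvd_card' p (hk' ▸ dvd_pow_self p hk.ne')
    exact ⟨w, w.2, by rwa [Subgroup.orderOf_coe]⟩
  obtain ⟨⟨t, ht, rfl⟩, hc⟩ := hw
  refine ⟨t, ht, fun h => ?_, ?_, fun g hg => ?_⟩
  · rw [QuotientGroup.mk'_apply, (QuotientGroup.eq_one_iff t).2 h, orderOf_one] at hwo
    exact hp.out.one_lt.ne hwo
  · have h1 := pow_orderOf_eq_one (QuotientGroup.mk' N t)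
    rw [hwo, ← map_pow] at h1
    exact (QuotientGroup.eq_one_iff (N := N) _).1 h1
  · have h1 : QuotientGroup.mk' N (⟨g, hg⟩ * t * ⟨g, hg⟩⁻¹ * t⁻¹) = 1 := by
      rw [map_mul, map_mul, map_mul, map_inv, map_inv, (Subgroup.mem_center_iff.1 hc _),
        mul_inv_cancel_right, mul_inv_cancel]
    exact (QuotientGroup.eq_one_iff (N := N) _).1 h1

namespace Three

variable {m n : ℕ} (S : Three G m n)
include S

theorem m_lt : m < m * n := lt_mul_of_one_lt_right (by have := S.hm; omega) S.hn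

theorem not_dvd_n {p : ℕ} (hp : p.Prime) (hpm : p ∣ m) : ¬ p ∣ n := fun h =>
  hp.ne_one (Nat.eq_one_of_dvd_coprimes S.hcop hpm h)

theorem not_dvd_m {q : ℕ} (hq : q.Prime) (hqn : q ∣ n) : ¬ q ∣ m := fun h => S.not_dvd_n hq h hqn

theorem notMem_of_idx {g : G} (h : idx g = m ∨ idx g = m * n) : g ∉ Z := fun hz => by
  have h1 := idx_eq_one_iff.2 hz
  have := S.hm
  have := S.m_lt
  omega

theorem idx_eq_of_le {a b : G} (h : C[a] ≤ C[b]) (ha : idx a = m) (hb : b ∉ Z) : idx b = m := by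
  rcases S.h b hb with h1 | h1
  · exact h1
  · have h2 := idx_dvd_of_le h
    rw [ha, h1] at h2
    have := Nat.le_of_dvd (by have := S.hm; omega) h2
    have := S.m_lt
    omega

theorem idx_eq_mn_of_le {a b : G} (h : C[a] ≤ C[b]) (hb : idx b = m * n) (ha : a ∉ Z) :
    idx a = m * n := by
  rcases S.h a ha with h1 | h1
  · exact absurd (S.idx_eq_of_le h h1 (S.notMem_of_idx (Or.inr hb))) (by have := S.m_lt; omega)
  · exact h1

/-- The class of a product of commuting elements of coprime orders. -/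
theorem idx_mul {a b : G} (hc : Commute a b) (ho : (orderOf a).Coprime (orderOf b))
    (ha : a ∉ Z) : idx (a * b) = m ∧ C[a] ≤ C[b] ∧ idx a = m ∨
      idx (a * b) = m * n ∧ C[a * b] = C[a] ⊓ C[b] := by
  have he := C_mul_eq hc ho
  have hab : a * b ∉ Z := fun hz => ha (by
    rw [← C_eq_top_iff] at hz ⊢
    exact top_le_iff.1 (hz.ge.trans (he.le.trans inf_le_left)))
  rcases S.h _ hab with h1 | h1
  · have h2 := S.idx_eq_of_le (he.le.trans inf_le_left) h1 ha
    have h3 := C_eq_of_le_of_idx (he.le.trans inf_le_left) (h1.trans h2.symm)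
    exact Or.inl ⟨h1, h3.symm.le.trans (he.le.trans inf_le_right), h2⟩
  · exact Or.inr ⟨h1, he⟩

/-- Elements of coprime order in the centraliser of an element with class size `m * n` are
central in it. -/
theorem le_of_mn {e u : G} (he : idx e = m * n) (hu : u ∈ C[e])
    (ho : (orderOf e).Coprime (orderOf u)) : C[e] ≤ C[u] := by
  rcases S.idx_mul (mem_C.1 hu).symm ho (S.notMem_of_idx (Or.inr he)) with ⟨-, h, -⟩ | ⟨h, hC⟩
  · exact h
  · exact (C_eq_of_le_of_idx (hC.le.trans inf_le_left) (h.trans he.symm)).ge.trans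
      (hC.le.trans inf_le_right)

theorem rel_eq {a b : G} (ha : idx a = m * n) (hb : idx b = m * n) : rel a = rel b := by
  have h1 := rel_mul_idx a
  have h2 := rel_mul_idx b
  rw [ha] at h1
  rw [hb] at h2
  exact Nat.eq_of_mul_eq_mul_right (by have := S.m_lt; omega) (h1.trans h2.symm)

theorem rel_eq_mul {a b : G} (ha : idx a = m) (hb : idx b = m * n) : rel a = rel b * n := by
  have h1 := rel_mul_idx a
  have h2 := rel_mul_idx b
  rw [ha] at h1
  rw [hb, mul_comm m n, ← mul_assoc] at h2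
  exact Nat.eq_of_mul_eq_mul_right (by have := S.hm; omega) (h1.trans h2.symm)

theorem exists_of_dvd {p : ℕ} (hp : p.Prime) (hd : p ∣ m * n) :
    ∃ u : G, (∃ e, orderOf u = p ^ e) ∧ u ∉ Z := by
  haveI := Fact.mk hp
  obtain ⟨g, hg⟩ := S.hexmn
  by_contra hcon
  push Not at hcon
  obtain ⟨P⟩ : Nonempty (Sylow p G) := inferInstance
  refine P.not_dvd_index ((hd.trans (dvd_of_eq hg.symm)).trans
    (Subgroup.index_dvd_of_le fun u hu => center_le_C g ?_))
  obtain ⟨e, he⟩ := (IsPGroup.iff_orderOf.1 P.isPGroup') ⟨u, hu⟩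
  exact hcon u ⟨e, by rwa [Subgroup.orderOf_mk] at he⟩

theorem dvd_rel {p : ℕ} (hp : p.Prime) (hpm : p ∣ m) {g : G} (hg : g ∉ Z) : p ∣ rel g := by
  obtain ⟨u, hu, huZ⟩ := S.exists_of_dvd hp (hpm.mul_right n)
  have h := dvd_rel_of_mem hp (self_mem_C u) hu huZ
  have hn' := hp.coprime_iff_not_dvd.2 (S.not_dvd_n hp hpm)
  rcases S.h u huZ with h1 | h1 <;> rcases S.h g hg with h2 | h2
  · have e1 := rel_mul_idx u
    have e2 := rel_mul_idx g
    rw [h1] at e1
    rw [h2, ← e1] at e2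
    rwa [Nat.eq_of_mul_eq_mul_right (by have := S.hm; omega) e2]
  · rw [S.rel_eq_mul h1 h2] at h
    exact hn'.dvd_of_dvd_mul_right h
  · rw [S.rel_eq_mul h2 h1]
    exact h.mul_right n
  · rwa [S.rel_eq h2 h1]

theorem exists_in_C {p : ℕ} (hp : p.Prime) (hpm : p ∣ m) {g : G} (hg : g ∉ Z) :
    ∃ u ∈ C[g], (∃ e, orderOf u = p ^ e) ∧ u ∉ Z :=
  exists_primary_of_dvd hp (S.dvd_rel hp hpm hg)

theorem prime_cases {r : ℕ} (hr : r.Prime) {u : G} (hu : ∃ e, orderOf u = r ^ e) (huZ : u ∉ Z) :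
    r ∣ m ∨ r ∣ n := by
  by_contra hcon
  push Not at hcon
  refine huZ (mem_center_of_not_dvd hr (fun g hd => ?_) hu)
  by_cases hgZ : g ∈ Z
  · rw [idx_eq_one_iff.2 hgZ] at hd
    exact hr.ne_one (Nat.dvd_one.1 hd)
  · rcases S.h g hgZ with h1 | h1 <;> rw [h1] at hd
    · exact hcon.1 hd
    · exact (hr.dvd_mul.1 hd).elim hcon.1 hcon.2

theorem exists_primary_m : ∃ (q : ℕ) (x : G), q.Prime ∧ (∃ e, orderOf x = q ^ e) ∧ idx x = m := by
  obtain ⟨g, hg⟩ := S.hexm
  obtain ⟨q, k, e, hq, he, hz⟩ := exists_noncentral_primary (S.notMem_of_idx (Or.inl hg))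
  exact ⟨q, g ^ k, hq, ⟨e, he⟩, S.idx_eq_of_le (C_le_C_pow g k) hg hz⟩

/-- A `p`-element normalising `C(t)` and centralising an element above it centralises `t`. -/
theorem fix_mem {p : ℕ} (hp : p.Prime) (hpm : p ∣ m) {t N g : G} (hle : C[t] ≤ C[N])
    (ht : t ∉ Z) (hN : N ∉ Z) (hg : ∃ e, orderOf g = p ^ e)
    (hgn : g ∈ Subgroup.normalizer (C[t] : Set G)) (hgN : g ∈ C[N]) : g ∈ C[t] := by
  have hr : (C[t]).relIndex C[N] ∣ n := by
    have h1 := Subgroup.relIndex_mul_index hle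
    change (C[t]).relIndex C[N] * idx N = idx t at h1
    have hm0 : 0 < m := by have := S.hm; omega
    rcases S.h t ht with h2 | h2 <;> rcases S.h N hN with h3 | h3 <;> rw [h2, h3] at h1
    · exact ⟨n, by rw [Nat.eq_of_mul_eq_mul_right hm0 (h1.trans (one_mul m).symm), one_mul]⟩
    · have := S.idx_eq_of_le hle h2 hN
      have := S.m_lt
      omega
    · exact dvd_of_eq (Nat.eq_of_mul_eq_mul_right hm0 (h1.trans (mul_comm m n)))
    · exact ⟨n, by rw [Nat.eq_of_mul_eq_mul_right (by have := S.m_lt; omega)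
        (h1.trans (one_mul (m * n)).symm), one_mul]⟩
  set N' := Subgroup.normalizer (C[t] : Set G) ⊓ C[N]
  have hle' : C[t] ≤ N' := le_inf Subgroup.le_normalizer hle
  haveI : ((C[t]).subgroupOf N').Normal := Subgroup.normal_subgroupOf_of_le_normalizer inf_le_left
  have h2 : (C[t]).relIndex N' ∣ n :=
    (Dvd.intro _ (Subgroup.relIndex_mul_relIndex _ _ _ hle' inf_le_right)).trans hr
  have h3 : g ^ (C[t]).relIndex N' ∈ C[t] :=
    Subgroup.mem_subgroupOf.1 (Subgroup.pow_index_mem ((C[t]).subgroupOf N') ⟨g, hgn, hgN⟩)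
  obtain ⟨e, he⟩ := hg
  obtain ⟨j, hj⟩ := exists_pow_eq_self_of_coprime (x := g) (n := (C[t]).relIndex N') (by
    rw [he]
    exact (((hp.coprime_iff_not_dvd.2 (S.not_dvd_n hp hpm)).pow_left e).coprime_dvd_right h2).symm)
  exact hj ▸ pow_mem h3 j

/-- The square of a prime divisor `p` of `m` does not divide `m`, given a suitable element. -/
theorem sq_not_dvd {p : ℕ} [hpF : Fact p.Prime] (hpm : p ∣ m) (P : Sylow p G) {t : G}
    (htZ : t ∉ Z) (htp : t ^ p ∈ Z) (htc : ∀ g ∈ P, g * t * g⁻¹ * t⁻¹ ∈ Z)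
    {a : G} (ha : a ∈ dc t) (haZ : a ∉ Z) {q e : ℕ} (hq : q.Prime) (hao : orderOf a = q ^ e)
    (hqp : q ≠ p) : ¬ p ^ 2 ∣ m := by
  classical
  intro hsq
  have hp := hpF.out
  have hnorm : ∀ g ∈ P, g ∈ Subgroup.normalizer (C[t] : Set G) := fun g hg => mem_normalizer_C (by
    rw [show g * t * g⁻¹ = t * (g * t * g⁻¹ * t⁻¹) by
      rw [Subgroup.mem_center_iff.1 (htc g hg) t]; group]
    exact C_eq_of_mul_center (htc g hg))
  have hconj : ∀ g ∈ P, ∀ b ∈ dc t, g * b * g⁻¹ ∈ dc t := by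
    intro g hg b hb
    have h1 := conj_mem_dc g hb
    rwa [dc_eq_of_mk_eq (g := g * t * g⁻¹) (h := t) (QuotientGroup.eq.2 (by
      have h2 := inv_mem (htc g hg)
      rw [mul_inv_rev, inv_inv] at h2
      have h3 := (inferInstance : (Z).Normal).conj_mem _ h2 t⁻¹
      simpa [mul_assoc] using h3))] at h1
  set B : Subgroup ↥(P : Subgroup G) := (C[t]).subgroupOf (P : Subgroup G) with hB
  haveI : B.Normal := ⟨fun b hb g => (Subgroup.mem_normalizer_iff.1 (hnorm g g.2) _).1 hb⟩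
  have hcard : p ^ 2 ∣ Nat.card (↥(P : Subgroup G) ⧸ B) := by
    rw [← Subgroup.index_eq_card]
    have h1 : idx t ∣ (C[t] ⊓ (P : Subgroup G)).index := Subgroup.index_dvd_of_le inf_le_left
    rw [← Subgroup.relIndex_mul_index (inf_le_right : C[t] ⊓ (P : Subgroup G) ≤ P),
      Subgroup.inf_relIndex_right] at h1
    have h2 : p ^ 2 ∣ idx t := by
      rcases S.h t htZ with h | h <;> rw [h]
      · exact hsq
      · exact hsq.mul_right n
    exact ((hp.coprime_iff_not_dvd.2 P.not_dvd_index).pow_left 2).dvd_of_dvd_mul_right (h2.trans h1)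
  have hpow : ∀ y : ↥(P : Subgroup G) ⧸ B, y ^ p = 1 := by
    intro y
    obtain ⟨⟨g, hg⟩, rfl⟩ := QuotientGroup.mk_surjective y
    rw [← QuotientGroup.mk_pow, QuotientGroup.eq_one_iff]
    refine Subgroup.mem_subgroupOf.2 (mem_C.2 ?_)
    change Commute (g ^ p) t
    generalize hz : g * t * g⁻¹ * t⁻¹ = z
    have hzZ : z ∈ Z := hz ▸ htc g hg
    have e1 : g * t * g⁻¹ = z * t := by rw [← hz]; group
    have hzc : ∀ h : G, Commute h z := fun h => Subgroup.mem_center_iff.1 hzZ h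
    have key : ∀ i : ℕ, g ^ i * t * (g ^ i)⁻¹ = z ^ i * t := by
      intro i
      induction i with
      | zero => simp
      | succ i ih =>
        calc g ^ (i + 1) * t * (g ^ (i + 1))⁻¹ = g * (g ^ i * t * (g ^ i)⁻¹) * g⁻¹ := by
              rw [pow_succ']; group
          _ = (g * z ^ i * g⁻¹) * (g * t * g⁻¹) := by rw [ih]; group
          _ = z ^ i * (z * t) := by rw [e1, ((hzc g).pow_right i).eq, mul_inv_cancel_right]
          _ = z ^ (i + 1) * t := by rw [pow_succ, mul_assoc]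
    have h2 : z ^ p = 1 := by
      have h3 : (g * t * g⁻¹) ^ p = t ^ p := by
        rw [conj_pow, Subgroup.mem_center_iff.1 htp g, mul_inv_cancel_right]
      rw [e1, (hzc t).symm.mul_pow] at h3
      exact mul_eq_right.1 h3
    have h4 := key p
    rw [h2, one_mul] at h4
    exact mul_inv_eq_iff_eq_mul.1 h4
  haveI : Nontrivial (↥(P : Subgroup G) ⧸ B) := Finite.one_lt_card_iff_nontrivial.1
    (lt_of_lt_of_le (Nat.one_lt_pow two_ne_zero hp.one_lt) (Nat.le_of_dvd Nat.card_pos hcard))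
  haveI := (P.isPGroup'.to_quotient B).center_nontrivial
  obtain ⟨⟨x₁, hx₁⟩, hx₁1⟩ := exists_ne (1 : Subgroup.center (↥(P : Subgroup G) ⧸ B))
  obtain ⟨x₂, hx₂⟩ : ∃ y, y ∉ Subgroup.zpowers x₁ := by
    by_contra hcon
    push Not at hcon
    have h1 : Subgroup.zpowers x₁ = ⊤ := (Subgroup.eq_top_iff' _).2 hcon
    have h2 := Nat.le_of_dvd Nat.card_pos hcard
    rw [← Subgroup.card_top, ← h1, Nat.card_zpowers] at h2
    have h3 := Nat.le_of_dvd hp.pos (orderOf_dvd_of_pow_eq_one (hpow x₁))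
    have := hp.two_le
    nlinarith
  have hx₁' : x₁ ≠ 1 := fun h => hx₁1 (Subtype.ext h)
  letI : CommGroup ↥(dc t) :=
    { (inferInstance : Group ↥(dc t)) with mul_comm := fun a b => Subtype.ext (dc_comm a.2 b.2).eq }
  have hle : (P : Subgroup G) ≤ Subgroup.normalizer (dc t : Set G) := by
    intro g hg
    refine Subgroup.mem_normalizer_iff.2 fun b => ⟨hconj g hg b, fun hb => ?_⟩
    simpa [mul_assoc] using hconj g⁻¹ (inv_mem hg) _ hb
  let ρ : ↥(P : Subgroup G) →* MulAut ↥(dc t) :=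
    (dc t).normalizerMonoidHom.comp (Subgroup.inclusion hle)
  have hρB : ∀ b ∈ B, b ∈ ρ.ker := by
    intro b hb
    refine MonoidHom.mem_ker.2 (MulEquiv.ext fun c => Subtype.ext ?_)
    change (b : G) * c * (b : G)⁻¹ = c
    rw [(mem_C.1 (C_le_of_mem_dc c.2 (Subgroup.mem_subgroupOf.1 hb))).eq, mul_inv_cancel_right]
  let σ := QuotientGroup.lift B ρ hρB
  let SZ : Subgroup ↥(dc t) := (Z).subgroupOf (dc t)
  have hnormY : ∀ y : ↥(P : Subgroup G) ⧸ B, y ≠ 1 →
      ∏ k ∈ Finset.range p, ((σ y) ^ k) (⟨a, ha⟩ : ↥(dc t)) ∈ SZ := by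
    intro y hy
    have hys : (σ y) ^ p = 1 := by rw [← map_pow, hpow, map_one]
    have hfix := map_norm_eq (σ y) hys (⟨a, ha⟩ : ↥(dc t))
    generalize ∏ k ∈ Finset.range p, ((σ y) ^ k) (⟨a, ha⟩ : ↥(dc t)) = N at hfix
    obtain ⟨⟨g, hg⟩, rfl⟩ := QuotientGroup.mk_surjective y
    by_contra hNZ
    have hc : Commute g (N : G) := mul_inv_eq_iff_eq_mul.1 (congrArg Subtype.val hfix :)
    obtain ⟨i, hi⟩ := (IsPGroup.iff_orderOf.1 P.isPGroup') ⟨g, hg⟩
    rw [Subgroup.orderOf_mk] at hi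
    exact hy ((QuotientGroup.eq_one_iff _).2 (Subgroup.mem_subgroupOf.2
      (S.fix_mem hp hpm (C_le_of_mem_dc N.2) htZ (fun h => hNZ (Subgroup.mem_subgroupOf.2 h))
        ⟨i, hi⟩ (hnorm g hg) (mem_C.2 hc))))
  have hx₂1 : x₂ ≠ 1 := fun h => hx₂ (h ▸ one_mem _)
  have ho2 : orderOf x₂ = p := orderOf_eq_prime (hpow x₂) hx₂1
  have hfin := pow_mem_of_norms hp.pos (σ x₁) (σ x₂)
    ((show Commute x₁ x₂ from (Subgroup.mem_center_iff.1 hx₁ x₂).symm).map σ) SZ
    (fun i s hs => by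
      rw [← map_pow σ]
      obtain ⟨⟨g, hg⟩, hgi⟩ := QuotientGroup.mk_surjective (x₁ ^ i)
      rw [← hgi]
      refine Subgroup.mem_subgroupOf.2 ?_
      exact (inferInstance : (Z).Normal).conj_mem _ (Subgroup.mem_subgroupOf.1 hs) g)
    (⟨a, ha⟩ : ↥(dc t))
    (fun j => by
      rw [← map_pow σ, ← map_mul σ]
      refine hnormY _ fun h => ?_
      have h1 : x₂ ^ j ∈ Subgroup.zpowers x₁ := by
        rw [eq_inv_of_mul_eq_one_right h]; exact inv_mem (Subgroup.mem_zpowers x₁)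
      by_cases hj : p ∣ j
      · rw [orderOf_dvd_iff_pow_eq_one.1 (by rw [ho2]; exact hj), mul_one] at h
        exact hx₁' h
      · obtain ⟨i, hi⟩ := exists_pow_eq_self_of_coprime (x := x₂) (n := j)
          (by rw [ho2]; exact (hp.coprime_iff_not_dvd.2 hj).symm)
        exact hx₂ (hi ▸ pow_mem h1 i))
    (fun i hi => by
      rw [← map_pow σ]
      refine hnormY _ fun h => ?_
      have := Nat.le_of_dvd (Nat.succ_pos i) (ho2 ▸ orderOf_dvd_of_pow_eq_one h)
      omega)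
  have h1 : a ^ p ∈ Z := Subgroup.mem_subgroupOf.1 hfin
  exact haZ (mem_center_of_pow h1 (by
    rw [hao]; exact ((Nat.coprime_primes hp hq).2 hqp.symm).pow_right e))

end Three

end CfsgLib.CharApps.ClassSizes
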