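import Cfsg.Agent.Lib.CharApps.ClassSizes.Three

/-!
# Some element of prime power order, for a prime dividing `m`, has class size `m`
-/

set_option autoImplicit false
set_option linter.style.haveILetI false

open scoped Pointwise

namespace CfsgLib.CharApps.ClassSizes

variable {G : Type*} [Group G] [Finite G]

local notation "C[" g "]" => Subgroup.centralizer ({g} : Set G)
local notation "Z" => Subgroup.center G

omit [Finite G] in
theorem mem_dc_of_le {t a : G} (h : C[t] ≤ C[a]) : a ∈ dc t :=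
  Subgroup.mem_centralizer_iff.2 fun _c hc => (mem_C.1 (h hc)).eq

theorem relIndex_center_dvd {E H : Subgroup G} (h : E ≤ H) :
    (Z).relIndex E ∣ (Z).relIndex H := by
  rw [← Subgroup.relIndex_sup_right E Z, ← Subgroup.relIndex_sup_right H Z]
  exact ⟨(E ⊔ Z).relIndex (H ⊔ Z),
    (Subgroup.relIndex_mul_relIndex _ _ _ le_sup_right (sup_le_sup_right h _)).symm⟩

/-- In a `p`-group, a subgroup of index `p` is invariant. -/
theorem conj_mem_of_relIndex {p : ℕ} [hp : Fact p.Prime] {P E : Subgroup G} (hP : IsPGroup p P)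
    (hE : E ≤ P) (hrel : E.relIndex P = p) : ∀ g ∈ P, ∀ e ∈ E, g * e * g⁻¹ ∈ E := by
  intro g hg e he
  have hne : E.subgroupOf P < ⊤ := lt_top_iff_ne_top.2 fun h => by
    rw [Subgroup.relIndex, h, Subgroup.index_top] at hrel
    exact hp.out.one_lt.ne hrel
  have hlt := CfsgLib.PGroups.lt_normalizer hP hne
  have htop : Subgroup.normalizer ((E.subgroupOf P : Subgroup P) : Set P) = ⊤ := by
    have h1 := Subgroup.relIndex_mul_index hlt.le
    change _ * _ = E.relIndex P at h1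
    rw [hrel] at h1
    rcases (Nat.dvd_prime hp.out).1 (Dvd.intro_left _ h1) with h2 | h2
    · exact Subgroup.index_eq_one.1 h2
    · rw [h2, Nat.mul_eq_right hp.out.ne_zero, Subgroup.relIndex_eq_one] at h1
      exact absurd h1 (not_le_of_gt hlt)
  have : (⟨g, hg⟩ : P) ∈ Subgroup.normalizer ((E.subgroupOf P : Subgroup P) : Set P) :=
    htop ▸ Subgroup.mem_top _
  exact Subgroup.mem_subgroupOf.1
    ((Subgroup.mem_normalizer_iff.1 this ⟨e, hE he⟩).1 (Subgroup.mem_subgroupOf.2 he))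

namespace Three

variable {m n : ℕ} (S : Three G m n)
include S

theorem exists_m_primary :
    ∃ (p : ℕ) (x : G), p.Prime ∧ p ∣ m ∧ (∃ e, orderOf x = p ^ e) ∧ idx x = m := by
  by_contra hcon
  push Not at hcon
  have hall : ∀ (p : ℕ) (e : G), p.Prime → p ∣ m → (∃ k, orderOf e = p ^ k) → e ∉ Z →
      idx e = m * n :=
    fun p e hp hpm he heZ => (S.h e heZ).resolve_left (hcon p e hp hpm he)
  have hmn0 : 0 < m * n := by have := S.m_lt; omega
  have hm0 : 0 < m := by have := S.hm; omega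
  obtain ⟨q, x, hq, hxq, hx⟩ := S.exists_primary_m
  have hqm : ¬ q ∣ m := fun h => hcon q x hq h hxq hx
  have hxZ : x ∉ Z := S.notMem_of_idx (Or.inl hx)
  -- noncentral primary elements for the primes of `m` inside `C(x)`
  have hco : ∀ {p : ℕ} {e u : G}, p.Prime → (∃ k, orderOf e = p ^ k) →
      ¬ p ∣ orderOf u → (orderOf e).Coprime (orderOf u) := by
    intro p e u hp ⟨k, hk⟩ hu
    rw [hk]
    exact (hp.coprime_iff_not_dvd.2 hu).pow_left k
  have hcox : ∀ {p : ℕ} {e : G}, p.Prime → p ∣ m → (∃ k, orderOf e = p ^ k) →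
      (orderOf e).Coprime (orderOf x) := by
    intro p e hp hpm he
    obtain ⟨l, hl⟩ := hxq
    refine hco hp he fun h => ?_
    rw [hl] at h
    exact hqm ((Nat.prime_dvd_prime_iff_eq hp hq).1 (hp.dvd_of_dvd_pow h) ▸ hpm)
  have hCH : ∀ {p : ℕ} {e : G}, p.Prime → p ∣ m → (∃ k, orderOf e = p ^ k) → e ∉ Z →
      e ∈ C[x] → C[e] ≤ C[x] := fun hp hpm he heZ hex =>
    S.le_of_mn (hall _ _ hp hpm he heZ) (mem_C.2 (mem_C.1 hex).symm) (hcox hp hpm he)
  -- the prime `q` occurs in every centraliser of an element with class size `m * n`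
  have hqrel : ∀ e : G, idx e = m * n → q ∣ rel e := by
    intro e he
    obtain ⟨p, hp, hpm⟩ := Nat.exists_prime_and_dvd (n := m) (by have := S.hm; omega)
    obtain ⟨b, hb, hbo, hbZ⟩ := S.exists_in_C hp hpm hxZ
    rw [S.rel_eq he (hall p b hp hpm hbo hbZ)]
    exact dvd_rel_of_mem hq (mem_C.2 (mem_C.1 hb).symm) hxq hxZ
  -- `m` is squarefree
  have hsq : ∀ p : ℕ, p.Prime → p ∣ m → ¬ p ^ 2 ∣ m := by
    intro p hp hpm
    haveI := Fact.mk hp
    obtain ⟨P⟩ : Nonempty (Sylow p G) := inferInstance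
    have hPZ : ¬ (P : Subgroup G) ≤ Z := by
      intro h
      obtain ⟨u, hu, huZ⟩ := S.exists_of_dvd hp (hpm.mul_right n)
      obtain ⟨g, hg⟩ := FgsB.exists_conj_mem_sylow hu P
      exact huZ (by simpa using (mem_center_conj (g := g⁻¹)).1 (by simpa using h hg))
    obtain ⟨t, ht, htZ, htp, htc⟩ := exists_t P.isPGroup' le_rfl
      (fun g hg r hr => mul_mem (mul_mem hg hr) (inv_mem hg)) hPZ
    have hto := FgsB.exists_orderOf_eq_pow_of_mem P.isPGroup' ht
    have htmn := hall p t hp hpm hto htZ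
    obtain ⟨a, hat, ⟨e, hae⟩, haZ⟩ := exists_primary_of_dvd hq (hqrel t htmn)
    have hle : C[t] ≤ C[a] := S.le_of_mn htmn hat (hco hp hto (by
      rw [hae]; exact fun h => hqm ((Nat.prime_dvd_prime_iff_eq hp hq).1 (hp.dvd_of_dvd_pow h) ▸ hpm)))
    exact S.sq_not_dvd hpm P htZ htp htc (mem_dc_of_le hle) haZ hq hae
      (fun h => hqm (h ▸ hpm))
  have hmdvd : ∀ N : ℕ, (∀ p : ℕ, p.Prime → p ∣ m → p ∣ N) → m ∣ N := by
    intro N hN
    have hsf : Squarefree m := Nat.squarefree_iff_prime_squarefree.2 fun p hp h =>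
      hsq p hp ((dvd_mul_right p p).trans h) (by rwa [pow_two])
    rw [← Nat.prod_primeFactors_of_squarefree hsf]
    exact Finset.prod_primes_dvd _ (fun s hs => (Nat.prime_of_mem_primeFactors hs).prime)
      (fun s hs => hN s (Nat.prime_of_mem_primeFactors hs) (Nat.dvd_of_mem_primeFactors hs))
  obtain ⟨p₀, hp₀, hp₀m⟩ := Nat.exists_prime_and_dvd (n := m) (by have := S.hm; omega)
  haveI := Fact.mk hp₀
  obtain ⟨b, hbx, hbo, hbZ⟩ := S.exists_in_C hp₀ hp₀m hxZ
  have hb := hall p₀ b hp₀ hp₀m hbo hbZ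
  have hbH := hCH hp₀ hp₀m hbo hbZ hbx
  -- a pair
  obtain ⟨u, hux, hu0⟩ : ∃ u ∈ C[x], ∀ e ∈ C[u] ⊓ C[x],
      (∃ k, orderOf e = p₀ ^ k) → e ∈ Z := by
    by_contra hno
    push Not at hno
    have hreln : (C[b]).relIndex C[x] = n := by
      have h1 := Subgroup.relIndex_mul_index hbH
      change (C[b]).relIndex C[x] * idx x = idx b at h1
      rw [hx, hb, mul_comm m n] at h1
      exact Nat.eq_of_mul_eq_mul_right hm0 h1
    have hconj : ∀ e ∈ C[x], (∃ k, orderOf e = p₀ ^ k) → ∃ h ∈ C[x], h⁻¹ * e * h ∈ C[b] := by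
      intro e he ⟨k, hk⟩
      obtain ⟨g, hg⟩ := exists_conj_mem (H := (C[b]).subgroupOf C[x]) (u := (⟨e, he⟩ : C[x]))
        (e := k) hp₀ (by rw [Subgroup.orderOf_mk, hk])
        (by change ¬ p₀ ∣ (C[b]).relIndex C[x]; rw [hreln]; exact S.not_dvd_n hp₀ hp₀m)
      exact ⟨g, g.2, Subgroup.mem_subgroupOf.1 hg⟩
    -- `u ↦ h⁻¹ u h` lands in the centraliser of `e' ∈ C(b)`
    have hcov : ∀ u ∈ C[x], ∃ h ∈ C[x], ∃ e ∈ C[b], (∃ k, orderOf e = p₀ ^ k) ∧ e ∉ Z ∧
        h⁻¹ * u * h ∈ C[e] := by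
      intro u hu
      obtain ⟨e, he, ⟨k, hk⟩, heZ⟩ := hno u hu
      obtain ⟨h, hh, hhe⟩ := hconj e he.2 ⟨k, hk⟩
      refine ⟨h, hh, _, hhe, ⟨k, ?_⟩, ?_, ?_⟩
      · have h2 := (MulAut.conj h⁻¹).orderOf_eq e
        rw [MulAut.conj_apply, inv_inv] at h2
        exact h2.trans hk
      · simpa using (mem_center_conj (g := h⁻¹)).not.2 heZ
      · refine mem_C.2 ?_
        simpa using (mem_C.1 he.1).symm.map (MulAut.conj h⁻¹)
    have hA : ∀ a ∈ C[b], ¬ p₀ ∣ orderOf a → C[x] ≤ C[a] := by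
      intro a ha hao
      have hcov' : ∀ w : C[x], ∃ g : C[x], g⁻¹ * w * g ∈ (C[a]).subgroupOf C[x] := by
        intro w
        obtain ⟨h, hh, e, he, heo, heZ, hue⟩ := hcov w w.2
        refine ⟨⟨h, hh⟩, Subgroup.mem_subgroupOf.2 ?_⟩
        have h1 : C[b] ≤ C[a] := S.le_of_mn hb ha (hco hp₀ hbo hao)
        exact S.le_of_mn (hall _ _ hp₀ hp₀m heo heZ) (mem_C.2 (mem_C.1 (h1 he)).symm)
          (hco hp₀ heo hao) hue
      exact Subgroup.subgroupOf_eq_top.1 (FgsB.eq_top_of_forall_exists_conj_mem hcov')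
    obtain ⟨r, hr, hrn⟩ := Nat.exists_prime_and_dvd (n := n) (by have := S.hn; omega)
    haveI := Fact.mk hr
    obtain ⟨R⟩ : Nonempty (Sylow r ↥C[x]) := inferInstance
    refine R.not_dvd_index ((hrn.trans (dvd_of_eq hreln.symm)).trans
      (Subgroup.index_dvd_of_le fun w hw => Subgroup.mem_subgroupOf.2 ?_))
    obtain ⟨k, hk⟩ := (IsPGroup.iff_orderOf.1 R.isPGroup') ⟨w, hw⟩
    rw [Subgroup.orderOf_mk, ← Subgroup.orderOf_coe] at hk
    obtain ⟨h, hh, e, he, heo, heZ, hue⟩ := hcov w w.2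
    have hwo : orderOf (h⁻¹ * (w : G) * h) = r ^ k := by
      have h2 := (MulAut.conj h⁻¹).orderOf_eq (w : G)
      rw [MulAut.conj_apply, inv_inv] at h2
      exact h2.trans hk
    have hnd : ¬ p₀ ∣ orderOf (h⁻¹ * (w : G) * h) := by
      rw [hwo]
      intro hd
      exact S.not_dvd_n hp₀ hp₀m ((Nat.prime_dvd_prime_iff_eq hp₀ hr).1 (hp₀.dvd_of_dvd_pow hd) ▸ hrn)
    have h1 : h⁻¹ * (w : G) * h ∈ C[b] := by
      have := S.le_of_mn (hall _ _ hp₀ hp₀m heo heZ) hue (hco hp₀ heo hnd)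
      exact mem_C.2 (mem_C.1 (this (mem_C.2 (mem_C.1 he).symm))).symm
    have h2 : Commute h (h⁻¹ * (w : G) * h) := mem_C.1 (hA _ h1 hnd hh)
    have e1 : (w : G) = h⁻¹ * (w : G) * h := by
      calc (w : G) = h * (h⁻¹ * (w : G) * h) * h⁻¹ := by group
        _ = _ := by rw [h2.eq, mul_inv_cancel_right]
    rw [e1]; exact h1
  have huZ : u ∉ Z := fun h =>
    hbZ (hu0 b ⟨mem_C.2 (Subgroup.mem_center_iff.1 h b), hbx⟩ hbo)
  obtain ⟨k₁, k₂, hk, ⟨e', he'⟩, hc⟩ := exists_split u m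
  have hu1 : u ^ k₁ ∈ Z := by
    by_contra hu1
    obtain ⟨s, j, f, hs, hsf, hz⟩ := exists_noncentral_primary hu1
    have hsm : s ∣ m := by
      rcases Nat.eq_zero_or_pos f with rfl | hf
      · rw [pow_zero, orderOf_eq_one_iff] at hsf
        exact absurd (hsf ▸ one_mem _) hz
      · exact hs.dvd_of_dvd_pow
          (((dvd_pow_self s hf.ne').trans (hsf ▸ orderOf_pow_dvd' (u ^ k₁) j)).trans he')
    have hzmn := hall s _ hs hsm ⟨f, hsf⟩ hz
    have hle : C[u] ≤ C[(u ^ k₁) ^ j] := (C_le_C_pow u k₁).trans (C_le_C_pow _ j)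
    have heq := C_eq_of_le_of_idx hle ((S.idx_eq_mn_of_le hle hzmn huZ).trans hzmn.symm)
    obtain ⟨e, he, heo, heZ⟩ := S.exists_in_C hp₀ hp₀m hz
    exact heZ (hu0 e ⟨heq.symm.le he,
      hCH hs hsm ⟨f, hsf⟩ hz (pow_mem (pow_mem hux k₁) j) he⟩ heo)
  generalize hv : u ^ k₂ = v at hc
  have hCv : C[v] = C[u] := by
    conv_rhs => rw [← hk, hv, (Subgroup.mem_center_iff.1 hu1 v).symm, C_eq_of_mul_center hu1]
  have hxv : x ∈ C[v] := mem_C.2 (hv ▸ (mem_C.1 hux).symm.pow_right k₂)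
  have hvx : v ∈ C[x] := hv ▸ pow_mem hux k₂
  have hvZ : v ∉ Z := fun h => huZ (by rw [← hk, hv]; exact mul_mem hu1 h)
  have hnd : ∀ {p : ℕ}, p.Prime → p ∣ m → ¬ p ∣ orderOf v := fun hp hpm h =>
    hp.ne_one (Nat.eq_one_of_dvd_coprimes hc h hpm)
  have hvm : idx v = m := by
    refine (S.h v hvZ).resolve_right fun hvmn => ?_
    obtain ⟨e, he, heo, heZ⟩ := S.exists_in_C hp₀ hp₀m hvZ
    have hle := S.le_of_mn (hall _ _ hp₀ hp₀m heo heZ) (mem_C.2 (mem_C.1 he).symm)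
      (hco hp₀ heo (hnd hp₀ hp₀m))
    have heq := C_eq_of_le_of_idx hle ((hall _ _ hp₀ hp₀m heo heZ).trans hvmn.symm)
    exact heZ (hu0 e ⟨hCv ▸ he, mem_C.2 (mem_C.1 (heq.symm.le hxv)).symm⟩ heo)
  have hI : ∀ p : ℕ, p.Prime → p ∣ m → ∀ e ∈ C[v] ⊓ C[x], (∃ k, orderOf e = p ^ k) → e ∈ Z := by
    intro p hp hpm e he heo
    by_contra heZ
    have h1 := hCH hp hpm heo heZ he.2
    have h2 := S.le_of_mn (hall _ _ hp hpm heo heZ) (mem_C.2 (mem_C.1 he.1).symm)
      (hco hp heo (hnd hp hpm))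
    obtain ⟨e₀, he₀, he₀o, he₀Z⟩ := S.exists_in_C hp₀ hp₀m heZ
    exact he₀Z (hu0 e₀ ⟨hCv ▸ h2 he₀, h1 he₀⟩ he₀o)
  set I : Subgroup G := C[v] ⊓ C[x] with hIdef
  have hIm : ((Z).relIndex I).Coprime m := by
    by_contra hnc
    obtain ⟨p, hp, hpI, hpm⟩ := Nat.Prime.not_coprime_iff_dvd.1 hnc
    obtain ⟨e, he, heo, heZ⟩ := exists_primary_of_dvd hp hpI
    exact heZ (hI p hp hpm e he heo)
  have hIle : I.index ≤ m * m := by
    have h1 : I.index ≤ idx v * idx x := Subgroup.index_inf_le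
    rwa [hvm, hx] at h1
  have hImul : (Z).relIndex I * I.index = rel b * (m * n) := by
    rw [Subgroup.relIndex_mul_index (le_inf (center_le_C v) (center_le_C x)), ← rel_mul_idx b, hb]
  have hrelb : m ∣ rel b := hmdvd _ fun p hp hpm => S.dvd_rel hp hpm hbZ
  have hIdvd : ∀ N, N ∣ rel b → Nat.Coprime ((Z).relIndex I) N → N * m ∣ I.index := by
    intro N hN hNc
    have h1 : N * m ∣ (Z).relIndex I * I.index := by
      rw [hImul]
      exact Nat.mul_dvd_mul hN (dvd_mul_right m n)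
    exact (Nat.Coprime.mul_right hNc hIm).symm.dvd_of_dvd_mul_left h1
  have hI0 : 0 < I.index := Nat.pos_of_ne_zero Subgroup.index_ne_zero_of_finite
  have hsqrel : ∀ p : ℕ, p.Prime → p ∣ m → ¬ p ^ 2 ∣ rel b := by
    intro p hp hpm hd
    obtain ⟨m', hm'⟩ := hpm
    have hpm' : ¬ p ∣ m' := fun h => hsq p hp ⟨m', hm'⟩ (by
      rw [hm', pow_two]; exact Nat.mul_dvd_mul_left p h)
    have h1 : p ^ 2 * m' ∣ rel b := ((hp.coprime_iff_not_dvd.2 hpm').pow_left 2).mul_dvd_of_dvd_of_dvd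
      hd ((Dvd.intro_left p hm'.symm).trans hrelb)
    have h2 := hIdvd _ h1 (Nat.Coprime.mul_right
      ((hIm.coprime_dvd_right ⟨m', hm'⟩).pow_right 2) (hIm.coprime_dvd_right (Dvd.intro_left p hm'.symm)))
    have h3 := Nat.le_of_dvd hI0 h2
    have e : p ^ 2 * m' * m = p * (m * m) := by rw [hm']; ring
    rw [e] at h3
    have := hp.two_le
    nlinarith
  have hIeq : I.index = m * m :=
    le_antisymm hIle (Nat.le_of_dvd hI0 (hIdvd m hrelb hIm))
  -- `m` is a prime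
  have hdir : ∀ p p' : ℕ, p.Prime → p'.Prime → p ≠ p' → p ∣ m → p' ∣ m → p ∣ p' - 1 := by
    intro p p' hp hp' hne hpm hpm'
    haveI := Fact.mk hp
    obtain ⟨P⟩ : Nonempty (Sylow p G) := inferInstance
    have hPZ : ¬ (P : Subgroup G) ≤ Z := by
      intro h
      obtain ⟨w, hw, hwZ⟩ := S.exists_of_dvd hp (hpm.mul_right n)
      obtain ⟨g, hg⟩ := FgsB.exists_conj_mem_sylow hw P
      exact hwZ (by simpa using (mem_center_conj (g := g⁻¹)).1 (by simpa using h hg))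
    obtain ⟨t, ht, htZ, htp, htc⟩ := exists_t P.isPGroup' le_rfl
      (fun g hg r hr => mul_mem (mul_mem hg hr) (inv_mem hg)) hPZ
    have hto := FgsB.exists_orderOf_eq_pow_of_mem P.isPGroup' ht
    have htmn := hall p t hp hpm hto htZ
    obtain ⟨g, hg, hgt⟩ : ∃ g ∈ P, g ∉ C[t] := by
      by_contra hsub
      push Not at hsub
      refine P.not_dvd_index (((hpm.mul_right n).trans (dvd_of_eq htmn.symm)).trans
        (Subgroup.index_dvd_of_le fun g hg => hsub g hg))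
    have hCt : C[g * t * g⁻¹] = C[t] := by
      rw [show g * t * g⁻¹ = t * (g * t * g⁻¹ * t⁻¹) by
        rw [Subgroup.mem_center_iff.1 (htc g hg) t]; group]
      exact C_eq_of_mul_center (htc g hg)
    obtain ⟨e₁, he₁, he₁o, he₁Z⟩ := S.exists_in_C hp' hpm' htZ
    let E : Subgroup G :=
      { carrier := {c | c ∈ dc t ∧ ∃ k, c ^ p' ^ k = 1}
        one_mem' := ⟨one_mem _, 0, one_pow _⟩
        mul_mem' := fun {a c} ha hc => by
          obtain ⟨ha, i, hi⟩ := ha
          obtain ⟨hc, j, hj⟩ := hc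
          refine ⟨mul_mem ha hc, i + j, ?_⟩
          rw [(dc_comm ha hc).mul_pow, pow_add, pow_mul, hi, one_pow, one_mul, mul_comm, pow_mul,
            hj, one_pow]
        inv_mem' := fun {a} ha => by
          obtain ⟨ha, i, hi⟩ := ha
          exact ⟨inv_mem ha, i, by rw [inv_pow, hi, inv_one]⟩ }
    have hEp : IsPGroup p' E := fun c => by
      obtain ⟨-, k, hk⟩ := c.2
      exact ⟨k, Subtype.ext (by simpa using hk)⟩
    have he₁E : e₁ ∈ E := by
      refine ⟨mem_dc_of_le (S.le_of_mn htmn he₁ (hco hp hto ?_)), ?_⟩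
      · obtain ⟨k, hk⟩ := he₁o
        rw [hk]
        exact fun h => hne ((Nat.prime_dvd_prime_iff_eq hp hp').1 (hp.dvd_of_dvd_pow h))
      · obtain ⟨k, hk⟩ := he₁o
        exact ⟨k, by rw [← hk, pow_orderOf_eq_one]⟩
    have hEcard : (Nat.card E).Coprime p := by
      haveI := Fact.mk hp'
      obtain ⟨k, hk⟩ := IsPGroup.iff_card.1 hEp
      rw [hk]
      exact ((Nat.coprime_primes hp' hp).2 (Ne.symm hne)).pow_left k
    have hrelE : (Z).relIndex E = p' := by
      haveI := Fact.mk hp'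
      obtain ⟨k, hk⟩ := IsPGroup.iff_card.1 hEp
      have h1 : (Z).relIndex E ∣ p' ^ k := hk ▸ Subgroup.relIndex_dvd_card _ _
      obtain ⟨i, -, hi⟩ := (Nat.dvd_prime_pow hp').1 h1
      have h2 : (Z).relIndex E ∣ rel t := relIndex_center_dvd fun c hc => dc_le_C t hc.1
      rw [S.rel_eq htmn hb, hi] at h2
      have hne1 : i ≠ 0 := fun h0 => he₁Z
        (Subgroup.relIndex_eq_one.1 (by rw [hi, h0, pow_zero]) he₁E)
      have hle1 : i ≤ 1 := by
        by_contra hlt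
        exact hsqrel p' hp' hpm' ((pow_dvd_pow p' (by omega : 2 ≤ i)).trans h2)
      rw [hi, show i = 1 by omega, pow_one]
    have hconj : ∀ c ∈ E, g * c * g⁻¹ ∈ E := by
      intro c hc
      obtain ⟨hc, i, hi⟩ := hc
      refine ⟨?_, i, by rw [conj_pow, hi]; group⟩
      have h1 := conj_mem_dc g hc
      unfold dc at h1 ⊢
      rwa [hCt] at h1
    have := dvd_relIndex_sub_one (FgsB.exists_orderOf_eq_pow_of_mem P.isPGroup' hg) E hEcard hconj
      (fun c hc => by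
        by_contra hcZ
        exact hgt (S.fix_mem hp hpm (C_le_of_mem_dc hc.1.1) htZ hcZ
          (FgsB.exists_orderOf_eq_pow_of_mem P.isPGroup' hg) (mem_normalizer_C hCt)
          (mem_C.2 (mem_C.1 hc.2).symm)))
    rwa [hrelE] at this
  have hmp : m = p₀ := by
    refine Nat.dvd_antisymm (hmdvd _ fun p hp hpm => ?_) hp₀m
    by_contra hnd
    have hne : p ≠ p₀ := fun h => hnd (h ▸ dvd_rfl)
    have h1 := Nat.le_of_dvd (by have := hp₀.two_le; omega) (hdir p p₀ hp hp₀ hne hpm hp₀m)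
    have h2 := Nat.le_of_dvd (by have := hp.two_le; omega) (hdir p₀ p hp₀ hp hne.symm hp₀m hpm)
    have := hp.two_le
    omega
  subst hmp
  -- the final contradiction
  obtain ⟨P⟩ : Nonempty (Sylow m G) := inferInstance
  have hZP : (Z).relIndex (P : Subgroup G) ∣ m ^ 2 := by
    obtain ⟨k, hk⟩ := IsPGroup.iff_card.1 P.isPGroup'
    obtain ⟨i, -, hi⟩ := (Nat.dvd_prime_pow hp₀).1
      (hk ▸ Subgroup.relIndex_dvd_card (Z) (P : Subgroup G))
    rw [hi]
    refine pow_dvd_pow m ?_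
    by_contra hlt
    have h1 : m ^ 3 ∣ (Z).index := ((pow_dvd_pow m (by omega : 3 ≤ i)).trans (dvd_of_eq hi.symm)).trans
      (Subgroup.relIndex_dvd_index_of_normal _ _)
    rw [← rel_mul_idx b, hb, pow_succ, mul_comm m n, ← mul_assoc] at h1
    exact hsqrel m hp₀ dvd_rfl
      ((((hp₀.coprime_iff_not_dvd.2 (S.not_dvd_n hp₀ dvd_rfl)).pow_left 2).dvd_of_dvd_mul_right
        (Nat.dvd_of_mul_dvd_mul_right hm0 h1)))
  have hE : ∀ w : G, idx w = m → (C[w] ⊓ (P : Subgroup G)).relIndex (P : Subgroup G) = m ∧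
      ∃ e ∈ C[w] ⊓ (P : Subgroup G), e ∉ Z := by
    intro w hw
    have hrel : (C[w] ⊓ (P : Subgroup G)).relIndex (P : Subgroup G) = m := by
      rw [Subgroup.inf_relIndex_right]
      obtain ⟨k, hk⟩ := IsPGroup.iff_card.1 P.isPGroup'
      obtain ⟨i, -, hi⟩ := (Nat.dvd_prime_pow hp₀).1
        (hk ▸ Subgroup.relIndex_dvd_card C[w] (P : Subgroup G))
      have h1 : (C[w]).relIndex (P : Subgroup G) ≤ m := by
        refine le_trans (Subgroup.relIndex_le_of_le_right le_top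
          (by rw [Subgroup.relIndex_top_right]; exact Subgroup.index_ne_zero_of_finite))
          ((Subgroup.relIndex_top_right _).le.trans hw.le)
      have h2 : i ≠ 0 := fun h0 => by
        rw [h0, pow_zero, Subgroup.relIndex_eq_one] at hi
        exact P.not_dvd_index ((dvd_of_eq hw.symm).trans (Subgroup.index_dvd_of_le hi))
      have h3 : i ≤ 1 := by
        by_contra hlt
        have h4 := (Nat.pow_le_pow_right hp₀.pos (by omega : 2 ≤ i)).trans (hi ▸ h1)
        have := hp₀.two_le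
        nlinarith
      rw [hi, show i = 1 by omega, pow_one]
    refine ⟨hrel, ?_⟩
    by_contra hsub
    push Not at hsub
    have hwZ := S.notMem_of_idx (Or.inl hw)
    have heq : (Z) ⊓ (P : Subgroup G) = C[w] ⊓ (P : Subgroup G) :=
      le_antisymm (inf_le_inf_right _ (center_le_C w)) (le_inf (fun e he => hsub e he) inf_le_right)
    have h1 : m ^ 2 ∣ ((Z) ⊓ (P : Subgroup G)).index := by
      refine dvd_trans ?_ (Subgroup.index_dvd_of_le inf_le_left)
      rw [← rel_mul_idx w, hw, pow_two]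
      exact Nat.mul_dvd_mul (S.dvd_rel hp₀ dvd_rfl hwZ) dvd_rfl
    rw [heq, ← Subgroup.relIndex_mul_index (inf_le_right : C[w] ⊓ (P : Subgroup G) ≤ P), hrel,
      pow_two] at h1
    exact P.not_dvd_index (Nat.dvd_of_mul_dvd_mul_left hm0 h1)
  obtain ⟨hrelx, b', hb', hb'Z⟩ := hE x hx
  have hb'o := FgsB.exists_orderOf_eq_pow_of_mem P.isPGroup' hb'.2
  have hb'mn := hall m b' hp₀ dvd_rfl hb'o hb'Z
  have hb'H := hCH hp₀ dvd_rfl hb'o hb'Z hb'.1
  have hsame : ∀ g ∈ P, C[g * b' * g⁻¹] = C[b'] := by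
    intro g hg
    have hmem := conj_mem_of_relIndex P.isPGroup' inf_le_right hrelx g hg b' hb'
    have hW : C[x] ⊓ (P : Subgroup G) ≤ Subgroup.zpowers b' ⊔ Z := by
      have hWE : Subgroup.zpowers b' ⊔ (Z ⊓ (P : Subgroup G)) ≤ C[x] ⊓ (P : Subgroup G) :=
        sup_le (Subgroup.zpowers_le.2 hb') (inf_le_inf_right _ (center_le_C x))
      set W := Subgroup.zpowers b' ⊔ (Z ⊓ (P : Subgroup G))
      have h1 : ((Z ⊓ (P : Subgroup G)).relIndex W * W.relIndex (C[x] ⊓ (P : Subgroup G))) *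
          (C[x] ⊓ (P : Subgroup G)).relIndex (P : Subgroup G) = (Z).relIndex (P : Subgroup G) := by
        rw [Subgroup.relIndex_mul_relIndex _ _ _ le_sup_right hWE,
          Subgroup.relIndex_mul_relIndex _ _ _ (le_sup_right.trans hWE) inf_le_right,
          Subgroup.inf_relIndex_right]
      rw [hrelx] at h1
      have h2 : (Z ⊓ (P : Subgroup G)).relIndex W * W.relIndex (C[x] ⊓ (P : Subgroup G)) ∣ m := by
        have h3 := h1 ▸ hZP
        rw [pow_two] at h3
        exact Nat.dvd_of_mul_dvd_mul_right hm0 h3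
      rcases (Nat.dvd_prime hp₀).1 h2 with h4 | h4
      · have h5 := Subgroup.relIndex_eq_one.1 (Nat.eq_one_of_mul_eq_one_right h4)
        exact absurd ((h5 (Subgroup.mem_sup_left (Subgroup.mem_zpowers b'))).1) hb'Z
      · rcases (Nat.dvd_prime hp₀).1 (Dvd.intro _ h4) with h5 | h5
        · have h6 := Subgroup.relIndex_eq_one.1 h5
          exact absurd ((h6 (Subgroup.mem_sup_left (Subgroup.mem_zpowers b'))).1) hb'Z
        · rw [h5, Nat.mul_eq_left hp₀.ne_zero, Subgroup.relIndex_eq_one] at h4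
          exact h4.trans (sup_le_sup_left inf_le_left _)
    obtain ⟨y, hy, z, hz, he⟩ := Subgroup.mem_sup_of_normal_right.1 (hW hmem)
    obtain ⟨i, hi⟩ := mem_powers_iff_mem_zpowers.2 hy
    have hne : g * b' * g⁻¹ ∉ Z := fun h => hb'Z (mem_center_conj.1 h)
    have hle : C[b'] ≤ C[g * b' * g⁻¹] := by
      rw [← he, C_eq_of_mul_center hz, ← hi]
      exact C_le_C_pow b' i
    have hidx : idx (g * b' * g⁻¹) = m * n := (idx_conj g b').trans hb'mn
    exact (C_eq_of_le_of_idx hle (hb'mn.trans hidx.symm)).symm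
  generalize hw : x * v = w
  have hwZ : w ∉ Z := by
    intro h
    have hCeq : C[v] = C[x] := by
      have h1 : C[x⁻¹] = C[x] := by
        ext c; rw [mem_C, mem_C]; exact Commute.inv_right_iff
      rw [show v = x⁻¹ * w by rw [← hw, inv_mul_cancel_left], C_eq_of_mul_center h, h1]
    exact hbZ (hu0 b ⟨hCv ▸ hCeq.symm ▸ hbx, hbx⟩ hbo)
  have hwm : idx w = m := by
    refine (S.h w hwZ).resolve_right fun hwmn => ?_
    have h1 : I ≤ C[w] := fun c hc =>
      mem_C.2 (hw ▸ (mem_C.1 hc.2).mul_right (mem_C.1 hc.1))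
    have h2 := Subgroup.index_dvd_of_le h1
    change idx w ∣ I.index at h2
    rw [hwmn, hIeq] at h2
    have h3 := Nat.dvd_of_mul_dvd_mul_left hm0 h2
    have h4 := Nat.eq_one_of_dvd_coprimes S.hcop h3 dvd_rfl
    have := S.hn
    omega
  obtain ⟨-, g, hg, hgZ⟩ := hE w hwm
  obtain ⟨-, e, he, heZ⟩ := hE v hvm
  have heo := FgsB.exists_orderOf_eq_pow_of_mem P.isPGroup' he.2
  have hemn := hall m e hp₀ dvd_rfl heo heZ
  have hev : C[e] ≤ C[v] := S.le_of_mn hemn (mem_C.2 (mem_C.1 he.1).symm) (hco hp₀ heo (hnd hp₀ dvd_rfl))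
  have hgo := FgsB.exists_orderOf_eq_pow_of_mem P.isPGroup' hg.2
  generalize ha : x⁻¹ * (g * x * g⁻¹) = a
  have hgxv : g * x * g⁻¹ * (g * v * g⁻¹) = x * v := by
    calc g * x * g⁻¹ * (g * v * g⁻¹) = g * (x * v) * g⁻¹ := by group
      _ = x * v := by rw [hw, (mem_C.1 hg.1).eq, mul_inv_cancel_right]
  have ha2 : a = v * (g * v * g⁻¹)⁻¹ := by
    rw [← ha, eq_mul_inv_iff_mul_eq, mul_assoc, hgxv, inv_mul_cancel_left]
  have hx1 : g * x * g⁻¹ ∈ dc b' := by
    have h1 := conj_mem_dc g (mem_dc_of_le hb'H)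
    unfold dc at h1 ⊢
    rwa [hsame g hg.2] at h1
  have hab : C[b'] ≤ C[a] :=
    C_le_of_mem_dc (ha ▸ mul_mem (inv_mem (mem_dc_of_le hb'H)) hx1)
  have hae : e ∈ C[a] := by
    rw [ha2]
    refine mem_C.2 ((mem_C.1 (hev (self_mem_C e))).mul_right (Commute.inv_right ?_))
    have h1 : g⁻¹ * e * g ∈ C[v] := by
      have hE' := conj_mem_of_relIndex P.isPGroup' inf_le_right (hE v hvm).1 g⁻¹ (inv_mem hg.2) e he
      simpa using hE'.1
    have h2 := (mem_C.1 h1).map (MulAut.conj g)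
    simpa [mul_assoc] using h2
  have haZ : a ∈ Z := by
    by_contra haZ
    have h1 := S.fix_mem hp₀ dvd_rfl hab hb'Z haZ heo (mem_normalizer_C (hsame e he.2)) hae
    exact heZ (hu0 e ⟨hCv ▸ he.1, hb'H h1⟩ heo)
  have hgx : Commute g x := by
    refine commute_of_conj_eq_mul (c := a) (Subgroup.mem_center_iff.1 haZ g) ?_ ?_
    · obtain ⟨i, hi⟩ := hgo
      obtain ⟨l, hl⟩ := hxq
      have h1 : a ^ orderOf x = 1 := by
        have h2 : (g * x * g⁻¹) ^ orderOf x = 1 := by rw [conj_pow, pow_orderOf_eq_one]; group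
        rwa [show g * x * g⁻¹ = x * a by rw [← ha, mul_inv_cancel_left],
          (show Commute x a from Subgroup.mem_center_iff.1 haZ x).mul_pow,
          pow_orderOf_eq_one, one_mul] at h2
      refine Nat.Coprime.coprime_dvd_right (orderOf_dvd_of_pow_eq_one h1) ?_
      rw [hi, hl]
      exact ((Nat.coprime_primes hp₀ hq).2 fun h => hqm (h ▸ dvd_rfl)).pow i l
    · rw [← Subgroup.mem_center_iff.1 haZ x, ← ha, mul_inv_cancel_left]
  have hgv : Commute g v := by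
    have h1 := hgx.inv_right.mul_right (hw ▸ mem_C.1 hg.1)
    rwa [inv_mul_cancel_left] at h1
  exact hgZ (hu0 g ⟨hCv ▸ mem_C.2 hgv, mem_C.2 hgx⟩ hgo)

end Three

end CfsgLib.CharApps.ClassSizes
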