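import Cfsg.Agent.Lib.CharApps.ClassSizes.ThreeExclude
import Cfsg.Agent.Lib.CharApps.ClassSizes.TwoSizes

/-!
# The centraliser of a `p`-element with class size `m` is abelian
-/

set_option autoImplicit false
set_option linter.style.haveILetI false

open scoped Pointwise

namespace CfsgLib.CharApps.ClassSizes

variable {G : Type*} [Group G] [Finite G]

local notation "C[" g "]" => Subgroup.centralizer ({g} : Set G)
local notation "Z" => Subgroup.center G

theorem subgroupOf_C (H : Subgroup G) (v : H) :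
    Subgroup.centralizer ({v} : Set H) = (C[(v : G)]).subgroupOf H := by
  ext c
  rw [Subgroup.mem_centralizer_singleton_iff, Subgroup.mem_subgroupOf,
    Subgroup.mem_centralizer_singleton_iff, Subtype.ext_iff]
  rfl

theorem conj_C_eq {a b : G} (y : G) (h : C[a] = C[b]) : C[y * a * y⁻¹] = C[y * b * y⁻¹] := by
  have key : ∀ a c : G, c ∈ C[y * a * y⁻¹] ↔ y⁻¹ * c * y ∈ C[a] := by
    intro a c
    rw [mem_C, mem_C]
    refine ⟨fun hc => ?_, fun hc => ?_⟩
    · simpa [mul_assoc] using hc.map (MulAut.conj y⁻¹)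
    · simpa [mul_assoc] using hc.map (MulAut.conj y)
  ext c
  rw [key, key, h]

/-- A Sylow subgroup sitting in a subgroup of index prime to `q`, containing a given `q`-element. -/
theorem exists_sylow_le {q : ℕ} [hq : Fact q.Prime] (H : Subgroup G) (hH : ¬ q ∣ H.index) {u : G}
    {e : ℕ} (hu : orderOf u = q ^ e) (huH : u ∈ H) :
    ∃ Q : Sylow q G, (Q : Subgroup G) ≤ H ∧ u ∈ Q := by
  obtain ⟨Q₀, hQ₀⟩ := (IsPGroup.of_card (G := Subgroup.zpowers (⟨u, huH⟩ : H)) (n := e)
    (by rw [Nat.card_zpowers, Subgroup.orderOf_mk, hu])).exists_le_sylow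
  have hp : IsPGroup q ((Q₀ : Subgroup H).map H.subtype) := Q₀.isPGroup'.map _
  have hi : ¬ q ∣ ((Q₀ : Subgroup H).map H.subtype).index := by
    rw [← Subgroup.relIndex_mul_index (Subgroup.map_subtype_le (Q₀ : Subgroup H)),
      Subgroup.relIndex, Subgroup.subgroupOf,
      Subgroup.comap_map_eq_self_of_injective H.subtype_injective]
    exact hq.out.not_dvd_mul Q₀.not_dvd_index hH
  exact ⟨hp.toSylow hi, Subgroup.map_subtype_le _,
    ⟨⟨u, huH⟩, hQ₀ (Subgroup.mem_zpowers _), rfl⟩⟩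

/-- If every element of order prime to `p` has class size prime to `p`, then it commutes with
every `p`-element. -/
theorem commute_of_classes {p : ℕ} [hp : Fact p.Prime]
    (h : ∀ v : G, ¬ p ∣ orderOf v → ¬ p ∣ idx v) {v u : G} (hv : ¬ p ∣ orderOf v)
    (hu : ∃ e, orderOf u = p ^ e) : Commute u v := by
  obtain ⟨P⟩ : Nonempty (Sylow p G) := inferInstance
  have hnd : ∀ {w : G}, (orderOf w).Coprime p → ¬ p ∣ orderOf w := fun hw hd =>
    hp.out.ne_one (Nat.eq_one_of_dvd_coprimes hw hd dvd_rfl)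
  set L := (P : Subgroup G) ⊔ Subgroup.centralizer ((P : Subgroup G) : Set G) with hL
  have htop : L = ⊤ := by
    refine FgsB.eq_top_of_forall_exists_conj_mem fun g => ?_
    obtain ⟨k₁, k₂, hk, ⟨e, he⟩, hc⟩ := exists_split g p
    obtain ⟨i, -, hi⟩ := (Nat.dvd_prime_pow hp.out).1 he
    obtain ⟨R, hR, hgR⟩ := exists_sylow_le C[g ^ k₂] (h _ (hnd hc)) hi
      (mem_C.2 (((Commute.refl g).pow_left k₁).pow_right k₂))
    obtain ⟨x, hx⟩ := MulAction.exists_smul_eq G P R
    refine ⟨x, ?_⟩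
    rw [← hk, show x⁻¹ * (g ^ k₁ * g ^ k₂) * x = (x⁻¹ * g ^ k₁ * x) * (x⁻¹ * g ^ k₂ * x) by group]
    refine mul_mem (Subgroup.mem_sup_left (FgsB.conj_mem_of_smul (by rw [hx]; exact hgR)))
      (Subgroup.mem_sup_right (Subgroup.mem_centralizer_iff.2 fun y hy => ?_))
    have hyR : x * y * x⁻¹ ∈ (R : Subgroup G) := by
      rw [← hx]
      exact FgsB.mem_smul_of_conj_mem (by
        rw [show x⁻¹ * (x * y * x⁻¹) * x = y by group]; exact hy)
    have := ((mem_C.1 (hR hyR)).map (MulAut.conj x⁻¹)).eq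
    simpa [mul_assoc] using this
  have hcP : ∀ a ∈ Subgroup.centralizer ((P : Subgroup G) : Set G), ∀ b ∈ P, Commute b a :=
    fun a ha b hb => Subgroup.mem_centralizer_iff.1 ha b hb
  have hLn : Subgroup.centralizer ((P : Subgroup G) : Set G) ≤
      Subgroup.normalizer ((P : Subgroup G) : Set G) := fun a ha =>
    Subgroup.mem_normalizer_iff.2 fun b => ⟨fun hb => by
      rw [← (hcP a ha b hb).eq, mul_inv_cancel_right]; exact hb, fun hb => by
      have := (hcP a ha _ hb).eq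
      rw [inv_mul_cancel_right] at this
      have e1 : a * b * a⁻¹ = b := mul_left_cancel (this.symm.trans (by group))
      rwa [e1] at hb⟩
  haveI hPn : (P : Subgroup G).Normal := Subgroup.normalizer_eq_top_iff.1
    (top_le_iff.1 (htop ▸ sup_le Subgroup.le_normalizer hLn))
  have hvC : v ∈ Subgroup.centralizer ((P : Subgroup G) : Set G) := by
    have hvL : v ∈ Subgroup.centralizer ((P : Subgroup G) : Set G) ⊔ (P : Subgroup G) := by
      rw [sup_comm, ← hL, htop]; exact Subgroup.mem_top v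
    obtain ⟨a, ha, b, hb, rfl⟩ := Subgroup.mem_sup_of_normal_right.1 hvL
    obtain ⟨e, he⟩ := FgsB.exists_orderOf_eq_pow_of_mem P.isPGroup' hb
    have h1 : (a * b) ^ p ^ e ∈ Subgroup.centralizer ((P : Subgroup G) : Set G) := by
      rw [(hcP a ha b hb).symm.mul_pow, ← he, pow_orderOf_eq_one, mul_one]
      exact pow_mem ha _
    obtain ⟨j, hj⟩ := exists_pow_eq_self_of_coprime (x := a * b) (n := p ^ e)
      ((hp.out.coprime_iff_not_dvd.2 hv).pow_left e)
    exact hj ▸ pow_mem h1 j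
  obtain ⟨e, he⟩ := hu
  obtain ⟨g, hg⟩ := FgsB.exists_conj_mem_sylow ⟨e, he⟩ P
  refine hcP v hvC u ?_
  have := hPn.conj_mem _ hg g
  rwa [show g * (g⁻¹ * u * g) * g⁻¹ = u by group] at this

namespace Three

variable {m n : ℕ} (S : Three G m n)
include S

/-- In `C(x)`, elements of order prime to `p` have class size `1` or `n`. -/
theorem relIndex_C {p : ℕ} (hp : p.Prime) {x : G} (hxo : ∃ e, orderOf x = p ^ e)
    (hx : idx x = m) {v : G} (hv : v ∈ C[x]) (hvo : ¬ p ∣ orderOf v) :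
    (C[v]).relIndex C[x] = 1 ∨ (C[v]).relIndex C[x] = n ∧ idx (x * v) = m * n ∧
      C[x * v] = C[x] ⊓ C[v] := by
  have hco : (orderOf x).Coprime (orderOf v) := by
    obtain ⟨e, he⟩ := hxo
    rw [he]
    exact (hp.coprime_iff_not_dvd.2 hvo).pow_left e
  rcases S.idx_mul (mem_C.1 hv).symm hco (S.notMem_of_idx (Or.inl hx)) with ⟨-, h, -⟩ | ⟨h, hC⟩
  · exact Or.inl (Subgroup.relIndex_eq_one.2 h)
  · refine Or.inr ⟨?_, h, hC⟩
    have h1 := Subgroup.relIndex_mul_index (inf_le_left : C[x] ⊓ C[v] ≤ C[x])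
    rw [Subgroup.inf_relIndex_left, ← hC] at h1
    change _ * idx x = idx (x * v) at h1
    rw [h, hx, mul_comm m n] at h1
    exact Nat.eq_of_mul_eq_mul_right (by have := S.hm; omega) h1

theorem commute_p {p : ℕ} (hp : p.Prime) (hpm : p ∣ m) {x : G} (hxo : ∃ e, orderOf x = p ^ e)
    (hx : idx x = m) {v u : G} (hv : v ∈ C[x]) (hvo : ¬ p ∣ orderOf v) (hu : u ∈ C[x])
    (huo : ∃ e, orderOf u = p ^ e) : Commute u v := by
  haveI := Fact.mk hp
  have key := commute_of_classes (G := ↥C[x]) (p := p) (fun w hw => by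
    rw [idx, subgroupOf_C]
    change ¬ p ∣ (C[(w : G)]).relIndex C[x]
    rcases S.relIndex_C hp hxo hx w.2 (by rwa [Subgroup.orderOf_coe]) with h | ⟨h, -⟩ <;> rw [h]
    · exact hp.not_dvd_one
    · exact S.not_dvd_n hp hpm) (v := ⟨v, hv⟩) (u := ⟨u, hu⟩)
    (by rwa [Subgroup.orderOf_mk]) (by simpa [Subgroup.orderOf_mk] using huo)
  exact congrArg Subtype.val key.eq

/-- Either the elements of order prime to `p` in `C(x)` commute, or only one prime gives
noncentral ones. -/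
theorem split_cases {p : ℕ} (hp : p.Prime) (hpm : p ∣ m) {x : G} (hxo : ∃ e, orderOf x = p ^ e)
    (hx : idx x = m) :
    (∀ u v : G, u ∈ C[x] → v ∈ C[x] → ¬ p ∣ orderOf u → ¬ p ∣ orderOf v → Commute u v) ∨
    ∃ q : ℕ, q.Prime ∧ q ∣ n ∧
      (∀ r : ℕ, r.Prime → r ≠ q → ∀ u v : G, u ∈ C[x] → v ∈ C[x] → (∃ e, orderOf u = r ^ e) →
        ¬ p ∣ orderOf v → Commute u v) ∧
      ∃ Q : Sylow q G, (Q : Subgroup G) ≤ C[x] ∧
        (∀ u ∈ C[x], (∃ e, orderOf u = q ^ e) → u ∈ Q) ∧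
        ∃ u ∈ Q, ∃ v ∈ Q, ¬ Commute u v := by
  haveI := Fact.mk hp
  obtain ⟨P⟩ : Nonempty (Sylow p ↥C[x]) := inferInstance
  have hcomm : ∀ w : ↥C[x], ¬ p ∣ orderOf w → ∀ a ∈ P, Commute a w := fun w hw a ha => by
    obtain ⟨e, he⟩ := FgsB.exists_orderOf_eq_pow_of_mem P.isPGroup' ha
    exact Subtype.ext (S.commute_p hp hpm hxo hx w.2 (by rwa [Subgroup.orderOf_coe]) a.2
      ⟨e, by rw [Subgroup.orderOf_coe, he]⟩).eq
  haveI hPn : (P : Subgroup ↥C[x]).Normal := by
    refine Subgroup.normalizer_eq_top_iff.1 (top_le_iff.1 (le_of_primes fun r hr hd a _ ha => ?_))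
    rcases eq_or_ne r p with rfl | hne
    · rw [Subgroup.relIndex_top_right] at hd
      exact absurd (hd.trans (Subgroup.index_dvd_of_le Subgroup.le_normalizer)) P.not_dvd_index
    · obtain ⟨e, he⟩ := ha
      have hao : ¬ p ∣ orderOf a := by
        rw [he]
        exact fun h => hne ((Nat.prime_dvd_prime_iff_eq hp hr).1 (hp.dvd_of_dvd_pow h)).symm
      refine Subgroup.mem_normalizer_iff.2 fun b => ⟨fun hb => ?_, fun hb => ?_⟩
      · rw [← (hcomm a hao b hb).eq, mul_inv_cancel_right]; exact hb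
      · have := (hcomm a hao _ hb).eq
        rw [inv_mul_cancel_right] at this
        have e1 : a * b * a⁻¹ = b := mul_left_cancel (this.symm.trans (by group))
        rwa [e1] at hb
  obtain ⟨K, hK⟩ := Subgroup.exists_right_complement'_of_coprime
    (N := (P : Subgroup ↥C[x])) P.card_coprime_index
  have hKcard : Nat.card K = (P : Subgroup ↥C[x]).index := hK.symm.index_eq_card.symm
  have hKo : ∀ a ∈ K, ¬ p ∣ orderOf a := fun a ha hd =>
    P.not_dvd_index (hKcard ▸ hd.trans (Subgroup.orderOf_dvd_natCard _ ha))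
  have hKmem : ∀ a : ↥C[x], ¬ p ∣ orderOf a → a ∈ K := by
    intro a ha
    obtain ⟨⟨⟨b, hb⟩, ⟨c, hc⟩⟩, hbc⟩ := hK.2 a
    have e1 : b * c = a := hbc
    have hbc' := hcomm c (hKo c hc) b hb
    obtain ⟨e, he⟩ := FgsB.exists_orderOf_eq_pow_of_mem P.isPGroup' hb
    have h1 : a ^ p ^ e ∈ K := by
      rw [← e1, hbc'.mul_pow, ← he, pow_orderOf_eq_one, one_mul]
      exact pow_mem hc _
    obtain ⟨j, hj⟩ := exists_pow_eq_self_of_coprime (x := a) (n := p ^ e)
      ((hp.coprime_iff_not_dvd.2 ha).pow_left e)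
    exact hj ▸ pow_mem h1 j
  haveI hKn : K.Normal := ⟨fun a ha g => hKmem _ (by
    have h := (MulAut.conj g).orderOf_eq a
    rw [MulAut.conj_apply] at h
    rw [h]; exact hKo a ha)⟩
  -- class sizes in `K`
  have hidxK : ∀ a : ↥K, idx a = 1 ∨ idx a = n := by
    intro a
    have hsup : Subgroup.centralizer ({(a : ↥C[x])} : Set ↥C[x]) ⊔ K = ⊤ := by
      refine top_le_iff.1 fun g _ => ?_
      obtain ⟨⟨⟨b, hb⟩, ⟨c, hc⟩⟩, hbc⟩ := hK.2 g
      rw [← (show b * c = g from hbc)]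
      exact mul_mem (Subgroup.mem_sup_left (Subgroup.mem_centralizer_singleton_iff.2
        (hcomm a (hKo a a.2) b hb).eq)) (Subgroup.mem_sup_right hc)
    have hidx : idx a = (C[((a : ↥C[x]) : G)]).relIndex C[x] := by
      rw [idx, subgroupOf_C]
      change (Subgroup.centralizer ({(a : ↥C[x])} : Set ↥C[x])).relIndex K = _
      have h1 := Base.card_sup_mul_card_inf (Subgroup.centralizer ({(a : ↥C[x])} : Set ↥C[x])) K
      rw [hsup] at h1
      have h2 : Nat.card ↥(Subgroup.centralizer ({(a : ↥C[x])} : Set ↥C[x]) ⊓ K) *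
          (Subgroup.centralizer ({(a : ↥C[x])} : Set ↥C[x])).relIndex K = Nat.card K := by
        rw [← Subgroup.inf_relIndex_right, ← Subgroup.relIndex_bot_left,
          Subgroup.relIndex_mul_relIndex _ _ _ bot_le inf_le_right, Subgroup.relIndex_bot_left]
      have h3 := Subgroup.index_mul_card (Subgroup.centralizer ({(a : ↥C[x])} : Set ↥C[x]))
      rw [Subgroup.card_top, ← h3, ← h2] at h1
      change _ = ((C[((a : ↥C[x]) : G)]).subgroupOf C[x]).index
      rw [← subgroupOf_C]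
      refine Nat.eq_of_mul_eq_mul_left (Nat.mul_pos
        (Nat.card_pos (α := ↥(Subgroup.centralizer ({(a : ↥C[x])} : Set ↥C[x]))))
        (Nat.card_pos (α := ↥(Subgroup.centralizer ({(a : ↥C[x])} : Set ↥C[x]) ⊓ K)))) ?_
      ring_nf at h1 ⊢
      exact h1.symm
    rw [hidx]
    exact (S.relIndex_C hp hxo hx (a : ↥C[x]).2
      (by rw [Subgroup.orderOf_coe]; exact hKo a a.2)).imp id (fun h => h.1)
  have hmemK : ∀ u : G, ∀ hu : u ∈ C[x], ¬ p ∣ orderOf u → (⟨u, hu⟩ : ↥C[x]) ∈ K :=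
    fun u hu ho => hKmem _ (by rwa [Subgroup.orderOf_mk])
  by_cases hKab : ∀ a : ↥K, a ∈ Subgroup.center ↥K
  · refine Or.inl fun u v hu hv huo hvo => ?_
    exact (congrArg (fun w : ↥K => ((w : ↥C[x]) : G))
      (Subgroup.mem_center_iff.1 (hKab ⟨_, hmemK u hu huo⟩) ⟨_, hmemK v hv hvo⟩)).symm
  push Not at hKab
  obtain ⟨a₀, ha₀⟩ := hKab
  have T : Two ↥K n := ⟨S.hn, fun a ha => (hidxK a).resolve_left fun h1 =>
    ha (idx_eq_one_iff.1 h1), a₀, ha₀⟩
  obtain ⟨q, k, e, hq, hqe, hqZ⟩ := exists_noncentral_primary ha₀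
  haveI := Fact.mk hq
  have hone : ∀ r : ℕ, r.Prime → r ≠ q → ∀ a : ↥K, (∃ e, orderOf a = r ^ e) →
      a ∈ Subgroup.center ↥K := fun r hr hne a ha => by
    by_contra haZ
    exact T.one_prime hr hq hne ⟨a, ha, haZ⟩ ⟨_, ⟨e, hqe⟩, hqZ⟩
  have hqn : q ∣ n := by
    obtain ⟨r, hr, hrn⟩ := Nat.exists_prime_and_dvd (n := n) (by have := S.hn; omega)
    obtain ⟨w, hw, hwZ⟩ := T.exists_of_dvd hr hrn
    by_cases hne : r = q
    · exact hne ▸ hrn
    · exact absurd (hone r hr hne w hw) hwZ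
  have hqp : q ≠ p := fun h => S.not_dvd_n hp hpm (h ▸ hqn)
  have hqel : ∀ {u : G}, (∃ e, orderOf u = q ^ e) → ¬ p ∣ orderOf u := by
    rintro u ⟨i, hi⟩ h
    rw [hi] at h
    exact hqp ((Nat.prime_dvd_prime_iff_eq hp hq).1 (hp.dvd_of_dvd_pow h)).symm
  refine Or.inr ⟨q, hq, hqn, fun r hr hne u v hu hv huo hvo => ?_, ?_⟩
  · rcases eq_or_ne r p with rfl | hrp
    · exact S.commute_p hp hpm hxo hx hv hvo hu huo
    · have huo' : ¬ p ∣ orderOf u := by
        obtain ⟨i, hi⟩ := huo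
        rw [hi]
        exact fun h => hrp ((Nat.prime_dvd_prime_iff_eq hp hr).1 (hp.dvd_of_dvd_pow h)).symm
      have hc := hone r hr hne ⟨_, hmemK u hu huo'⟩ (by
        obtain ⟨i, hi⟩ := huo
        exact ⟨i, by rw [Subgroup.orderOf_mk, Subgroup.orderOf_mk, hi]⟩)
      exact (congrArg (fun w : ↥K => ((w : ↥C[x]) : G))
        (Subgroup.mem_center_iff.1 hc ⟨_, hmemK v hv hvo⟩)).symm
  obtain ⟨Q₀⟩ : Nonempty (Sylow q ↥K) := inferInstance
  haveI hQn : (Q₀ : Subgroup ↥K).Normal := by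
    refine Subgroup.normalizer_eq_top_iff.1 (top_le_iff.1 (le_of_primes fun r hr hd a _ ha => ?_))
    rcases eq_or_ne r q with rfl | hne
    · rw [Subgroup.relIndex_top_right] at hd
      exact absurd (hd.trans (Subgroup.index_dvd_of_le Subgroup.le_normalizer)) Q₀.not_dvd_index
    · refine Subgroup.mem_normalizer_iff.2 fun b => ?_
      rw [(Subgroup.mem_center_iff.1 (hone r hr hne a ha) b).symm, mul_inv_cancel_right]
  set R : Subgroup G := ((Q₀ : Subgroup ↥K).map K.subtype).map (C[x]).subtype with hR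
  have hRle : R ≤ C[x] := Subgroup.map_subtype_le _
  have hall : ∀ u ∈ C[x], (∃ e, orderOf u = q ^ e) → u ∈ R := by
    intro u hu huo
    have hk := hmemK u hu (hqel huo)
    obtain ⟨i, hi⟩ := huo
    obtain ⟨g, hg⟩ := FgsB.exists_conj_mem_sylow (x := (⟨_, hk⟩ : ↥K))
      ⟨i, by rw [Subgroup.orderOf_mk, Subgroup.orderOf_mk, hi]⟩ Q₀
    have h1 : (⟨_, hk⟩ : ↥K) ∈ (Q₀ : Subgroup ↥K) := by
      simpa [mul_assoc] using hQn.conj_mem _ hg g
    exact ⟨_, ⟨_, h1, rfl⟩, rfl⟩
  have hqI : ¬ q ∣ (C[x]).index := by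
    rw [show (C[x]).index = m from hx]; exact S.not_dvd_m hq hqn
  obtain ⟨Q, hQ, -⟩ := exists_sylow_le (q := q) C[x] hqI (u := 1) (e := 0) (by simp) (one_mem _)
  have hQR : (Q : Subgroup G) = R := le_antisymm
    (fun u hu => hall u (hQ hu) (FgsB.exists_orderOf_eq_pow_of_mem Q.isPGroup' hu))
    (by
      have hRp : IsPGroup q R := (Q₀.isPGroup'.map _).map _
      intro u hu
      have := Q.is_maximal' hRp (fun w hw => hall w (hQ hw)
        (FgsB.exists_orderOf_eq_pow_of_mem Q.isPGroup' hw))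
      exact this ▸ hu)
  refine ⟨Q, hQ, fun u hu ho => hQR.ge (hall u hu ho), ?_⟩
  by_contra hcon
  push Not at hcon
  have hcon' : ∀ a : ↥K, (∃ e, orderOf a = q ^ e) → a ∈ Subgroup.center ↥K := by
    intro a ha
    have hle : (⊤ : Subgroup ↥K) ≤ Subgroup.centralizer ({a} : Set ↥K) := by
      refine le_of_primes fun r hr _ b _ hb => Subgroup.mem_centralizer_singleton_iff.2 ?_
      rcases eq_or_ne r q with rfl | hne
      · obtain ⟨i, hi⟩ := ha
        obtain ⟨j, hj⟩ := hb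
        have h1 : ((a : ↥C[x]) : G) ∈ Q := hQR.ge (hall _ (a : ↥C[x]).2
          ⟨i, by rw [Subgroup.orderOf_coe, Subgroup.orderOf_coe, hi]⟩)
        have h2 : ((b : ↥C[x]) : G) ∈ Q := hQR.ge (hall _ (b : ↥C[x]).2
          ⟨j, by rw [Subgroup.orderOf_coe, Subgroup.orderOf_coe, hj]⟩)
        exact Subtype.ext (Subtype.ext (hcon _ h2 _ h1).eq)
      · exact (Subgroup.mem_center_iff.1 (hone r hr hne b hb) a).symm
    rw [Subgroup.mem_center_iff]
    exact fun g => Subgroup.mem_centralizer_singleton_iff.1 (hle (Subgroup.mem_top g))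
  exact hqZ (hcon' _ ⟨e, hqe⟩)

/-- The elements of order prime to `p` of `C(x)` commute. -/
theorem abelian_part {p : ℕ} (hp : p.Prime) (hpm : p ∣ m) {x : G} (hxo : ∃ e, orderOf x = p ^ e)
    (hx : idx x = m) :
    ∀ u v : G, u ∈ C[x] → v ∈ C[x] → ¬ p ∣ orderOf u → ¬ p ∣ orderOf v → Commute u v := by
  rcases S.split_cases hp hpm hxo hx with h | ⟨q, hq, hqn, hb, Q, hQx, hQall, u, hu, v, hv, huv⟩
  · exact h
  exfalso
  haveI := Fact.mk hq
  have hqm := S.not_dvd_m hq hqn
  have hqp : q ≠ p := fun h => S.not_dvd_n hp hpm (h ▸ hqn)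
  have hndp : ∀ {w : G}, w ∈ (Q : Subgroup G) → ¬ p ∣ orderOf w := by
    intro w hw h
    obtain ⟨i, hi⟩ := FgsB.exists_orderOf_eq_pow_of_mem Q.isPGroup' hw
    rw [hi] at h
    exact hqp ((Nat.prime_dvd_prime_iff_eq hp hq).1 (hp.dvd_of_dvd_pow h)).symm
  have huo := FgsB.exists_orderOf_eq_pow_of_mem Q.isPGroup' hu
  have huZ : u ∉ Z := fun h => huv (Subgroup.mem_center_iff.1 h v).symm
  -- the element `x * u`
  obtain ⟨hxu, hxuC⟩ : idx (x * u) = m * n ∧ C[x * u] = C[x] ⊓ C[u] := by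
    rcases S.relIndex_C hp hxo hx (hQx hu) (hndp hu) with h | ⟨-, h⟩
    · exact absurd (mem_C.1 (Subgroup.relIndex_eq_one.1 h (hQx hv))).symm huv
    · exact h
  have hqrel : ∀ g : G, idx g = m * n → q ∣ rel g := fun g hg => by
    rw [S.rel_eq hg hxu]
    exact dvd_rel_of_mem hq (hxuC.ge ⟨hQx hu, self_mem_C u⟩) huo huZ
  -- every `q`-element centralising elements of `Q` and `x`
  have hcent : ∀ z ∈ Q, (∀ w ∈ Q, Commute w z) → C[x] ≤ C[z] := by
    intro z hz hzc
    refine le_of_primes fun r hr _ w hw hwo => mem_C.2 ?_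
    rcases eq_or_ne r q with rfl | hne
    · exact hzc w (hQall w hw hwo)
    · exact hb r hr hne w z hw (hQx hz) hwo (hndp hz)
  -- all `p'`-primary elements for the primes of `m` have class size `m`
  have hm' : ∀ (s : ℕ) (g : G), s.Prime → s ∣ m → (∃ e, orderOf g = s ^ e) → g ∉ Z →
      idx g = m := by
    intro s g hs hsm hgo hgZ
    refine (S.h g hgZ).resolve_right fun hg => ?_
    obtain ⟨w, hw, hwo, hwZ⟩ := exists_primary_of_dvd hq (hqrel g hg)
    obtain ⟨i, hi⟩ := hwo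
    obtain ⟨k, hk⟩ := exists_conj_mem (H := C[x]) hq hi
      (by rw [show (C[x]).index = m from hx]; exact hqm)
    -- a conjugate of `g` in `C(x)`
    have key : ∃ y : G, y * g * y⁻¹ ∈ C[x] := by
      have hgw : Commute (k⁻¹ * g * k) (k⁻¹ * w * k) := by
        simpa using (mem_C.1 hw).symm.map (MulAut.conj k⁻¹)
      have hw'Z : k⁻¹ * w * k ∉ Z := by simpa using (mem_center_conj (g := k⁻¹)).not.2 hwZ
      have hw'o : orderOf (k⁻¹ * w * k) = q ^ i := by
        have h2 := (MulAut.conj k⁻¹).orderOf_eq w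
        rw [MulAut.conj_apply, inv_inv] at h2
        exact h2.trans hi
      generalize k⁻¹ * w * k = w' at hgw hw'Z hw'o hk
      rcases S.h w' hw'Z with hwm | hwmn
      · obtain ⟨Q₁, hQ₁, hw'Q⟩ := exists_sylow_le (q := q) C[w'] (by
          change ¬ q ∣ idx w'; rw [hwm]; exact hqm) hw'o (self_mem_C w')
        obtain ⟨j, hj⟩ := MulAction.exists_smul_eq G Q₁ Q
        have hjw : j * w' * j⁻¹ ∈ (Q : Subgroup G) := by
          rw [← hj]
          exact FgsB.mem_smul_of_conj_mem (by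
            rw [show j⁻¹ * (j * w' * j⁻¹) * j = w' by group]; exact hw'Q)
        have hle := hcent _ hjw fun a ha => by
          have := (mem_C.1 (hQ₁ (FgsB.conj_mem_of_smul (hj ▸ ha)))).map (MulAut.conj j)
          simpa [mul_assoc] using this
        have heq := C_eq_of_le_of_idx hle (hx.trans ((idx_conj j w').trans hwm).symm)
        refine ⟨j * k⁻¹, ?_⟩
        rw [heq]
        refine mem_C.2 ?_
        have := hgw.map (MulAut.conj j)
        simpa [mul_assoc] using this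
      · refine ⟨k⁻¹, ?_⟩
        rcases S.relIndex_C hp hxo hx hk (fun h => by
            rw [hw'o] at h
            exact hqp ((Nat.prime_dvd_prime_iff_eq hp hq).1 (hp.dvd_of_dvd_pow h)).symm) with
          h | ⟨-, h, hC⟩
        · have h1 := S.idx_eq_of_le (Subgroup.relIndex_eq_one.1 h) hx hw'Z
          have := S.m_lt
          omega
        · have heq := C_eq_of_le_of_idx (hC.le.trans inf_le_right) (h.trans hwmn.symm)
          rw [inv_inv]
          exact (hC.le (heq.symm.le (mem_C.2 hgw))).1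
    obtain ⟨y, hy⟩ := key
    have hyo : ∃ e, orderOf (y * g * y⁻¹) = s ^ e := by
      obtain ⟨e, he⟩ := hgo
      exact ⟨e, ((MulAut.conj y).orderOf_eq g).trans he⟩
    have hle : (Q : Subgroup G) ≤ C[y * g * y⁻¹] := fun a ha =>
      mem_C.2 (hb s hs (fun h => hqm (h ▸ hsm)) _ a hy (hQx ha) hyo (hndp ha)).symm
    have h1 := Subgroup.index_dvd_of_le hle
    change idx (y * g * y⁻¹) ∣ _ at h1
    rw [idx_conj, hg] at h1
    exact Q.not_dvd_index ((hqn.mul_left m).trans h1)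
  -- in each such centraliser the `q`-elements form a conjugate of `Q`
  have hloc : ∀ (s : ℕ) (g : G), s.Prime → s ∣ m → (∃ e, orderOf g = s ^ e) → idx g = m →
      ∃ Q' : Sylow q G, (Q' : Subgroup G) ≤ C[g] ∧
        ∀ a ∈ C[g], (∃ e, orderOf a = q ^ e) → a ∈ Q' := by
    intro s g hs hsm hgo hg
    obtain ⟨Q₁, hQ₁, -⟩ := exists_sylow_le (q := q) C[g] (by
      change ¬ q ∣ idx g; rw [hg]; exact hqm) (u := 1) (e := 0) (by simp) (one_mem _)
    obtain ⟨j, hj⟩ := MulAction.exists_smul_eq G Q Q₁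
    have hmem : ∀ a ∈ Q, j * a * j⁻¹ ∈ C[g] := fun a ha => hQ₁ (by
      rw [← hj]; exact FgsB.mem_smul_of_conj_mem (by
        rw [show j⁻¹ * (j * a * j⁻¹) * j = a by group]; exact ha))
    have hnc : ¬ Commute (j * u * j⁻¹) (j * v * j⁻¹) := fun h => huv (by
      simpa [mul_assoc] using h.map (MulAut.conj j⁻¹))
    have hord : ∀ a ∈ Q, ∃ e, orderOf (j * a * j⁻¹) = q ^ e := fun a ha => by
      obtain ⟨e, he⟩ := FgsB.exists_orderOf_eq_pow_of_mem Q.isPGroup' ha
      exact ⟨e, ((MulAut.conj j).orderOf_eq a).trans he⟩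
    have hnds : ∀ a ∈ Q, ¬ s ∣ orderOf (j * a * j⁻¹) := fun a ha h => by
      obtain ⟨e, he⟩ := hord a ha
      rw [he] at h
      exact hqm ((Nat.prime_dvd_prime_iff_eq hs hq).1 (hs.dvd_of_dvd_pow h) ▸ hsm)
    rcases S.split_cases hs hsm hgo hg with h | ⟨q', hq', hq'n, hb', Q', hQ', hall', -⟩
    · exact absurd (h _ _ (hmem u hu) (hmem v hv) (hnds u hu) (hnds v hv)) hnc
    · by_cases hqq : q' = q
      · subst hqq; exact ⟨Q', hQ', hall'⟩
      · exact absurd (hb' q hq (Ne.symm hqq) _ _ (hmem u hu) (hmem v hv) (hord u hu) (hnds v hv)) hnc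
  -- `Q` is normal
  have hQN : C[x] ≤ Subgroup.normalizer ((Q : Subgroup G) : Set G) := by
    refine le_of_primes fun r hr hd a ha hao => ?_
    rcases eq_or_ne r q with rfl | hne
    · exact Subgroup.le_normalizer (hQall a ha hao)
    · refine Subgroup.mem_normalizer_iff.2 fun b => ⟨fun hb' => ?_, fun hb' => ?_⟩
      · rw [(hb r hr hne a b ha (hQx hb') hao (hndp hb')).eq, mul_inv_cancel_right]
        exact hb'
      · have := (hb r hr hne a _ ha (hQx hb') hao (hndp hb')).eq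
        have e1 : a * b * a⁻¹ = b := mul_left_cancel (this.trans (by group))
        rwa [e1] at hb'
  have hQnorm : (Q : Subgroup G).Normal := by
    refine Subgroup.normalizer_eq_top_iff.1 (Subgroup.index_eq_one.1 ?_)
    by_contra hne
    obtain ⟨s, hs, hsN⟩ := Nat.exists_prime_and_dvd hne
    haveI := Fact.mk hs
    have hsm : s ∣ m := hx ▸ hsN.trans (Subgroup.index_dvd_of_le hQN)
    obtain ⟨P⟩ : Nonempty (Sylow s G) := inferInstance
    have hPZ : ¬ (P : Subgroup G) ≤ Z := by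
      intro h
      obtain ⟨w, hw, hwZ⟩ := S.exists_of_dvd hs (hsm.mul_right n)
      obtain ⟨g, hg⟩ := FgsB.exists_conj_mem_sylow hw P
      exact hwZ (by simpa using (mem_center_conj (g := g⁻¹)).1 (by simpa using h hg))
    obtain ⟨t, ht, htZ, -, htc⟩ := exists_t P.isPGroup' le_rfl
      (fun g hg r hr => mul_mem (mul_mem hg hr) (inv_mem hg)) hPZ
    have hto := FgsB.exists_orderOf_eq_pow_of_mem P.isPGroup' ht
    obtain ⟨Q', hQ', hall'⟩ := hloc s t hs hsm hto (hm' s t hs hsm hto htZ)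
    have hle : (P : Subgroup G) ≤ Subgroup.normalizer ((Q' : Subgroup G) : Set G) := by
      have key : ∀ g ∈ P, ∀ a ∈ Q', g * a * g⁻¹ ∈ Q' := by
        intro g hg a ha
        have hCt : C[g * t * g⁻¹] = C[t] := by
          rw [show g * t * g⁻¹ = t * (g * t * g⁻¹ * t⁻¹) by
            rw [Subgroup.mem_center_iff.1 (htc g hg) t]; group]
          exact C_eq_of_mul_center (htc g hg)
        obtain ⟨e, he⟩ := FgsB.exists_orderOf_eq_pow_of_mem Q'.isPGroup' ha
        refine hall' _ ((Subgroup.mem_normalizer_iff.1 (mem_normalizer_C hCt) a).1 (hQ' ha))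
          ⟨e, ((MulAut.conj g).orderOf_eq a).trans he⟩
      intro g hg
      refine Subgroup.mem_normalizer_iff.2 fun a => ⟨key g hg a, fun ha => ?_⟩
      have := key g⁻¹ (inv_mem hg) _ ha
      rwa [show g⁻¹ * (g * a * g⁻¹) * g⁻¹⁻¹ = a by group] at this
    have h1 : Nat.card (Sylow q G) = (Subgroup.normalizer ((Q' : Subgroup G) : Set G)).index :=
      Sylow.card_eq_index_normalizer Q'
    have h2 : Nat.card (Sylow q G) = (Subgroup.normalizer ((Q : Subgroup G) : Set G)).index :=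
      Sylow.card_eq_index_normalizer Q
    exact P.not_dvd_index ((hsN.trans (dvd_of_eq (h2.symm.trans h1))).trans
      (Subgroup.index_dvd_of_le hle))
  -- conclusion
  haveI := Fact.mk hp
  obtain ⟨P⟩ : Nonempty (Sylow p G) := inferInstance
  have hPu : (P : Subgroup G) ≤ C[u] := by
    intro g hg
    by_cases hgZ : g ∈ Z
    · exact center_le_C u hgZ
    have hgo := FgsB.exists_orderOf_eq_pow_of_mem P.isPGroup' hg
    obtain ⟨Q', hQ', -⟩ := hloc p g hp hpm hgo (hm' p g hp hpm hgo hgZ)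
    have hQQ : Q' = Q := by
      haveI := hQnorm
      haveI := Sylow.unique_of_normal Q hQnorm
      exact Subsingleton.elim _ _
    exact mem_C.2 (mem_C.1 (hQ' (hQQ ▸ hu))).symm
  have h1 := Subgroup.index_dvd_of_le hPu
  change idx u ∣ _ at h1
  refine P.not_dvd_index (dvd_trans ?_ h1)
  rcases S.h u huZ with h | h <;> rw [h]
  · exact hpm
  · exact hpm.mul_right n

/-- The centraliser of `x` is abelian and equals that of each of its noncentral elements. -/
structure Nice (m : ℕ) (x : G) : Prop where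
  idx_x : idx x = m
  comm : ∀ a ∈ C[x], ∀ b ∈ C[x], Commute a b
  C_eq : ∀ e ∈ C[x], e ∉ Z → C[e] = C[x]

theorem nice {p : ℕ} (hp : p.Prime) (hpm : p ∣ m) {x : G} (hxo : ∃ e, orderOf x = p ^ e)
    (hx : idx x = m) : Nice m x := by
  have hnd : ∀ {s : ℕ} {a : G}, s.Prime → s ≠ p → (∃ e, orderOf a = s ^ e) → ¬ p ∣ orderOf a := by
    rintro s a hs hne ⟨e, he⟩ h
    rw [he] at h
    exact hne ((Nat.prime_dvd_prime_iff_eq hp hs).1 (hp.dvd_of_dvd_pow h)).symm
  have habx := S.abelian_part hp hpm hxo hx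
  have hCu : ∀ {r : ℕ} {a : G}, r.Prime → r ≠ p → (∃ e, orderOf a = r ^ e) → a ∈ C[x] → a ∉ Z →
      C[a] = C[x] := by
    intro r a hr hrp hao ha haZ
    have hle : C[x] ≤ C[a] := by
      refine le_of_primes fun s hs _ w hw hwo => mem_C.2 ?_
      rcases eq_or_ne s p with rfl | hne
      · exact S.commute_p hp hpm hxo hx ha (hnd hr hrp hao) hw hwo
      · exact habx w a hw ha (hnd hs hne hwo) (hnd hr hrp hao)
    exact (C_eq_of_le_of_idx hle (hx.trans (S.idx_eq_of_le hle hx haZ).symm)).symm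
  -- a `q`-element for a prime of `n`
  obtain ⟨q, hq, hqn⟩ := Nat.exists_prime_and_dvd (n := n) (by have := S.hn; omega)
  haveI := Fact.mk hq
  have hqp : q ≠ p := fun h => S.not_dvd_n hp hpm (h ▸ hqn)
  have hqI : ¬ q ∣ (C[x]).index := by
    rw [show (C[x]).index = m from hx]; exact S.not_dvd_m hq hqn
  obtain ⟨u₀, ⟨e, he⟩, hu₀Z⟩ := S.exists_of_dvd hq (hqn.mul_left m)
  obtain ⟨k, hk⟩ := exists_conj_mem (H := C[x]) hq he hqI
  have huZ : k⁻¹ * u₀ * k ∉ Z := by simpa using (mem_center_conj (g := k⁻¹)).not.2 hu₀Z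
  have huo : ∃ e, orderOf (k⁻¹ * u₀ * k) = q ^ e := by
    refine ⟨e, ?_⟩
    have h2 := (MulAut.conj k⁻¹).orderOf_eq u₀
    rw [MulAut.conj_apply, inv_inv] at h2
    exact h2.trans he
  generalize k⁻¹ * u₀ * k = u at hk huZ huo
  obtain ⟨Q, hQ, -⟩ := exists_sylow_le (q := q) C[x] hqI (u := 1) (e := 0) (by simp) (one_mem _)
  have hprim : ∀ {s : ℕ} {a : G}, s.Prime → (∃ e, orderOf a = s ^ e) → a ∈ C[x] → a ∉ Z →
      C[a] = C[x] := by
    intro s a hs hao ha haZ
    by_cases hsm : s ∣ m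
    · have hsq : s ≠ q := fun h => S.not_dvd_m hq hqn (h ▸ hsm)
      have hQa : (Q : Subgroup G) ≤ C[a] := fun w hw => mem_C.2 (by
        have hwo := hnd hq hqp (FgsB.exists_orderOf_eq_pow_of_mem Q.isPGroup' hw)
        rcases eq_or_ne s p with rfl | hne
        · exact (S.commute_p hp hpm hxo hx (hQ hw) hwo ha hao).symm
        · exact habx w a (hQ hw) ha hwo (hnd hs hne hao))
      have ham : idx a = m := (S.h a haZ).resolve_right fun h => by
        have h1 := Subgroup.index_dvd_of_le hQa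
        change idx a ∣ _ at h1
        rw [h] at h1
        exact Q.not_dvd_index ((hqn.mul_left m).trans h1)
      have hau : u ∈ C[a] := mem_C.2 (mem_C.1 ((hCu hq hqp huo hk huZ).symm.le ha)).symm
      have huos : ¬ s ∣ orderOf u := by
        obtain ⟨i, hi⟩ := huo
        rw [hi]
        exact fun h => hsq ((Nat.prime_dvd_prime_iff_eq hs hq).1 (hs.dvd_of_dvd_pow h))
      have hle : C[a] ≤ C[u] := by
        refine le_of_primes fun r hr _ w hw hwo => mem_C.2 ?_
        rcases eq_or_ne r s with rfl | hne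
        · exact S.commute_p hs hsm hao ham hau huos hw hwo
        · refine S.abelian_part hs hsm hao ham w u hw hau ?_ huos
          obtain ⟨i, hi⟩ := hwo
          rw [hi]
          exact fun h => hne ((Nat.prime_dvd_prime_iff_eq hs hr).1 (hs.dvd_of_dvd_pow h)).symm
      rw [hCu hq hqp huo hk huZ] at hle
      exact C_eq_of_le_of_idx hle (ham.trans hx.symm)
    · exact hCu hs (fun h => hsm (h ▸ hpm)) hao ha haZ
  have hcomm : C[x] ≤ Subgroup.centralizer (C[x] : Set G) := by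
    refine le_of_primes fun s hs _ a ha hao => Subgroup.mem_centralizer_iff.2 fun w hw => ?_
    by_cases haZ : a ∈ Z
    · exact Subgroup.mem_center_iff.1 haZ w
    · exact (mem_C.1 ((hprim hs hao ha haZ).symm.le hw)).eq
  refine ⟨hx, fun a ha b hb => (Subgroup.mem_centralizer_iff.1 (hcomm hb) a ha), fun a ha haZ => ?_⟩
  have hle : C[x] ≤ C[a] := fun w hw =>
    mem_C.2 (Subgroup.mem_centralizer_iff.1 (hcomm ha) w hw)
  exact (C_eq_of_le_of_idx hle (hx.trans (S.idx_eq_of_le hle hx haZ).symm)).symm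

end Three

end CfsgLib.CharApps.ClassSizes
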