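import Cfsg.Agent.Lib.CharApps.ClassSizes.ThreeNice

/-!
# Class sizes `1`, `m`, `m * n`: the structure theorem
-/

set_option autoImplicit false
set_option linter.style.haveILetI false

open scoped Pointwise

namespace CfsgLib.CharApps.ClassSizes

variable {G : Type*} [Group G] [Finite G]

local notation "C[" g "]" => Subgroup.centralizer ({g} : Set G)
local notation "Z" => Subgroup.center G

namespace Three

/-- The elements of a commutative centraliser of order prime to `m`. -/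
def coprimePart {m : ℕ} {x : G} (H : Nice m x) : Subgroup G where
  carrier := {g | g ∈ C[x] ∧ (orderOf g).Coprime m}
  one_mem' := ⟨one_mem _, by rw [orderOf_one]; exact Nat.coprime_one_left m⟩
  mul_mem' := fun {a b} ha hb => ⟨mul_mem ha.1 hb.1,
    (ha.2.mul_left hb.2).coprime_dvd_left (H.comm a ha.1 b hb.1).orderOf_mul_dvd_mul_orderOf⟩
  inv_mem' := fun {a} ha => ⟨inv_mem ha.1, by rw [orderOf_inv]; exact ha.2⟩

theorem Nice.conj_C_eq' {m : ℕ} {x : G} (H : Nice m x) {k c : G}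
    (hc : c ∈ C[k * x * k⁻¹]) (hcZ : c ∉ Z) : C[c] = C[k * x * k⁻¹] := by
  have h1 : k⁻¹ * c * k ∈ C[x] := mem_C.2 (by
    simpa [mul_assoc] using (mem_C.1 hc).map (MulAut.conj k⁻¹))
  have h2 : k⁻¹ * c * k ∉ Z := by simpa using (mem_center_conj (g := k⁻¹)).not.2 hcZ
  have h3 := conj_C_eq k (H.C_eq _ h1 h2)
  rwa [show k * (k⁻¹ * c * k) * k⁻¹ = c by group] at h3

theorem Nice.mem_normalizer {m : ℕ} {x : G} (H : Nice m x) {g e : G} (he : e ∈ C[x])
    (heZ : e ∉ Z) (hge : g * e * g⁻¹ ∈ C[x]) : g ∈ Subgroup.normalizer (C[x] : Set G) := by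
  have hg2 : g * e * g⁻¹ ∉ Z := fun h => heZ (mem_center_conj.1 h)
  have := mem_normalizer_C (g := g) (e := e) ((H.C_eq _ hge hg2).trans (H.C_eq _ he heZ).symm)
  rwa [H.C_eq _ he heZ] at this

variable {m n : ℕ} (S : Three G m n)
include S

theorem structure_thm : ∃ (x : G), Nice m x ∧ (C[x]).Normal ∧ m.Prime ∧ rel x = m * n ∧
    ∀ g : G, g ∉ C[x] → idx g ≠ m := by
  obtain ⟨p, x, hp, hpm, hxo, hx⟩ := S.exists_m_primary
  haveI := Fact.mk hp
  have H := S.nice hp hpm hxo hx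
  have hxZ := S.notMem_of_idx (Or.inl hx)
  have hm0 : 0 < m := by have := S.hm; omega
  -- the basic inequality
  have hineq : ∀ g : G, g ∉ C[x] → rel x ≤ idx g := by
    intro g hg
    have he : C[g] ⊓ C[x] = Z := by
      refine le_antisymm (fun e he => ?_) (le_inf (center_le_C g) (center_le_C x))
      by_contra heZ
      exact hg ((H.C_eq e he.2 heZ).le (mem_C.2 (mem_C.1 he.1).symm))
    have h1 : (Z).index ≤ idx g * idx x := he ▸ Subgroup.index_inf_le
    rw [← rel_mul_idx x] at h1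
    exact Nat.le_of_mul_le_mul_right h1 (idx_pos x)
  obtain ⟨y, hy⟩ := S.hexmn
  have hyZ := S.notMem_of_idx (Or.inr hy)
  have hyx : y ∉ C[x] := fun h => by
    have h1 : idx y = m := by unfold idx; rw [H.C_eq y h hyZ]; exact hx
    have := S.m_lt
    omega
  have hrelx := S.rel_eq_mul hx hy
  have hrely : rel y ≤ m := by
    have h1 := hineq y hyx
    rw [hy, hrelx] at h1
    exact Nat.le_of_mul_le_mul_right h1 (by have := S.hn; omega)
  -- a `q`-element of `C(x)` for a prime of `n`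
  obtain ⟨q, hq, hqn⟩ := Nat.exists_prime_and_dvd (n := n) (by have := S.hn; omega)
  have hqm := S.not_dvd_m hq hqn
  obtain ⟨u, hux, ⟨eu, heu⟩, huZ⟩ := exists_primary_of_dvd hq (H := C[x])
    (show q ∣ rel x by rw [hrelx]; exact hqn.mul_left _)
  -- Sylow subgroups above those of `C(x)`
  have hexP : ∀ s : ℕ, s.Prime → s ∣ m → ∃ P : Sylow s G,
      (∃ e ∈ (P : Subgroup G), e ∈ C[x] ∧ e ∉ Z) ∧
      ∃ g ∈ (P : Subgroup G), g ∉ C[x] ∧ g ∈ Subgroup.normalizer (C[x] : Set G) := by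
    intro s hs hsm
    haveI := Fact.mk hs
    obtain ⟨e, hex', heo, heZ⟩ := S.exists_in_C hs hsm hxZ
    obtain ⟨i, hi⟩ := heo
    obtain ⟨R, hR⟩ := (IsPGroup.of_card (G := Subgroup.zpowers (⟨e, hex'⟩ : C[x])) (n := i)
      (by rw [Nat.card_zpowers, Subgroup.orderOf_mk, hi])).exists_le_sylow
    set R' : Subgroup G := (R : Subgroup C[x]).map C[x].subtype
    have heR : e ∈ R' := ⟨⟨e, hex'⟩, hR (Subgroup.mem_zpowers _), rfl⟩
    obtain ⟨P, hP⟩ := (R.isPGroup'.map C[x].subtype).exists_le_sylow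
    refine ⟨P, ⟨e, hP heR, hex', heZ⟩, ?_⟩
    have hne : R'.subgroupOf (P : Subgroup G) < ⊤ := lt_top_iff_ne_top.2 fun h => by
      have h1 := Subgroup.subgroupOf_eq_top.1 h
      exact P.not_dvd_index ((hsm.trans (dvd_of_eq hx.symm)).trans
        (Subgroup.index_dvd_of_le (h1.trans (Subgroup.map_subtype_le _))))
    obtain ⟨⟨g, hg⟩, hgn, hgR⟩ := SetLike.exists_of_lt
      (CfsgLib.PGroups.lt_normalizer P.isPGroup' hne)
    have hge : g * e * g⁻¹ ∈ R' := Subgroup.mem_subgroupOf.1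
      ((Subgroup.mem_normalizer_iff.1 hgn ⟨e, hP heR⟩).1 (Subgroup.mem_subgroupOf.2 heR))
    refine ⟨g, hg, fun hgx => hgR (Subgroup.mem_subgroupOf.2 ?_),
      H.mem_normalizer hex' heZ (Subgroup.map_subtype_le _ hge)⟩
    -- `R` is the whole `s`-part of the abelian group `C(x)`
    obtain ⟨j, hj⟩ := FgsB.exists_orderOf_eq_pow_of_mem P.isPGroup' hg
    obtain ⟨k, hk⟩ := FgsB.exists_conj_mem_sylow (x := (⟨g, hgx⟩ : C[x]))
      ⟨j, by rw [Subgroup.orderOf_mk, hj]⟩ R
    refine ⟨⟨g, hgx⟩, ?_, rfl⟩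
    have hc : Commute (⟨g, hgx⟩ : C[x]) k := Subtype.ext (H.comm g hgx k k.2).eq
    rwa [mul_assoc, hc.eq, inv_mul_cancel_left] at hk
  -- `m` is a prime power
  have hsingle : ∀ s : ℕ, s.Prime → s ∣ m → s = p := by
    by_contra hcon
    push Not at hcon
    obtain ⟨p', hp', hp'm, hne⟩ := hcon
    have hsq : ∀ s : ℕ, s.Prime → s ∣ m → ¬ s ^ 2 ∣ m := by
      intro s hs hsm
      haveI := Fact.mk hs
      obtain ⟨P⟩ : Nonempty (Sylow s G) := inferInstance
      have hPZ : ¬ (P : Subgroup G) ≤ Z := by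
        intro h
        obtain ⟨w, hw, hwZ⟩ := S.exists_of_dvd hs (hsm.mul_right n)
        obtain ⟨g, hg⟩ := FgsB.exists_conj_mem_sylow hw P
        exact hwZ (by simpa using (mem_center_conj (g := g⁻¹)).1 (by simpa using h hg))
      obtain ⟨t, ht, htZ, htp, htc⟩ := exists_t P.isPGroup' le_rfl
        (fun g hg r hr => mul_mem (mul_mem hg hr) (inv_mem hg)) hPZ
      obtain ⟨s', hs', hs'm, hne'⟩ : ∃ s', s'.Prime ∧ s' ∣ m ∧ s' ≠ s := by
        by_cases h : p = s
        · exact ⟨p', hp', hp'm, fun h' => hne (h'.trans h.symm)⟩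
        · exact ⟨p, hp, hpm, h⟩
      obtain ⟨a, hat, ⟨e, hae⟩, haZ⟩ := S.exists_in_C hs' hs'm htZ
      have hto := FgsB.exists_orderOf_eq_pow_of_mem P.isPGroup' ht
      have hle : C[t] ≤ C[a] := by
        rcases S.h t htZ with h | h
        · exact ((S.nice hs hsm hto h).C_eq a hat haZ).ge
        · refine S.le_of_mn h hat ?_
          obtain ⟨i, hi⟩ := hto
          rw [hi, hae]
          exact ((Nat.coprime_primes hs hs').2 hne'.symm).pow i e
      exact S.sq_not_dvd hsm P htZ htp htc (mem_dc_of_le hle) haZ hs' hae hne'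
    have hsf : Squarefree m := Nat.squarefree_iff_prime_squarefree.2 fun s hs h =>
      hsq s hs ((dvd_mul_right s s).trans h) (by rwa [pow_two])
    have hmy : m ∣ rel y := by
      rw [← Nat.prod_primeFactors_of_squarefree hsf]
      exact Finset.prod_primes_dvd _ (fun s hs => (Nat.prime_of_mem_primeFactors hs).prime)
        (fun s hs => S.dvd_rel (Nat.prime_of_mem_primeFactors hs) (Nat.dvd_of_mem_primeFactors hs) hyZ)
    have hrelx' : rel x = m * n := by
      rw [hrelx, le_antisymm hrely (Nat.le_of_dvd (rel_pos y) hmy)]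
    have hdir : ∀ s s' : ℕ, s.Prime → s'.Prime → s ≠ s' → s ∣ m → s' ∣ m → s ∣ s' - 1 := by
      intro s s' hs hs' hne' hsm hs'm
      haveI := Fact.mk hs
      obtain ⟨P, -, g, hgP, hgx, hgn⟩ := hexP s hs hsm
      obtain ⟨e₁, he₁x, he₁o, he₁Z⟩ := S.exists_in_C hs' hs'm hxZ
      let E : Subgroup G :=
        { carrier := {c | c ∈ C[x] ∧ ∃ k, c ^ s' ^ k = 1}
          one_mem' := ⟨one_mem _, 0, one_pow _⟩
          mul_mem' := fun {a c} ha hc => by
            obtain ⟨ha, i, hi⟩ := ha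
            obtain ⟨hc, j, hj⟩ := hc
            refine ⟨mul_mem ha hc, i + j, ?_⟩
            rw [(H.comm a ha c hc).mul_pow, pow_add, pow_mul, hi, one_pow, one_mul, mul_comm,
              pow_mul, hj, one_pow]
          inv_mem' := fun {a} ha => by
            obtain ⟨ha, i, hi⟩ := ha
            exact ⟨inv_mem ha, i, by rw [inv_pow, hi, inv_one]⟩ }
      have hEp : IsPGroup s' E := fun c => by
        obtain ⟨-, k, hk⟩ := c.2
        exact ⟨k, Subtype.ext (by simpa using hk)⟩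
      haveI := Fact.mk hs'
      obtain ⟨k, hk⟩ := IsPGroup.iff_card.1 hEp
      have hrelE : (Z).relIndex E = s' := by
        obtain ⟨i, -, hi⟩ := (Nat.dvd_prime_pow hs').1 (hk ▸ Subgroup.relIndex_dvd_card (Z) E)
        have h2 : (Z).relIndex E ∣ rel x := relIndex_center_dvd fun c hc => hc.1
        rw [hrelx', hi] at h2
        have hne1 : i ≠ 0 := fun h0 => he₁Z
          ((Subgroup.relIndex_eq_one.1 (by rw [hi, h0, pow_zero]) : E ≤ Z) ⟨he₁x, by
            obtain ⟨j, hj⟩ := he₁o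
            exact ⟨j, by rw [← hj, pow_orderOf_eq_one]⟩⟩)
        have hle1 : i ≤ 1 := by
          by_contra hlt
          have h3 : s' ^ 2 ∣ m * n := (pow_dvd_pow s' (by omega : 2 ≤ i)).trans h2
          exact hsq s' hs' hs'm
            (((hs'.coprime_iff_not_dvd.2 (S.not_dvd_n hs' hs'm)).pow_left 2).dvd_of_dvd_mul_right h3)
        rw [hi, show i = 1 by omega, pow_one]
      have hgo := FgsB.exists_orderOf_eq_pow_of_mem P.isPGroup' hgP
      have := dvd_relIndex_sub_one hgo E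
        (by rw [hk]; exact ((Nat.coprime_primes hs' hs).2 (Ne.symm hne')).pow_left k)
        (fun c hc => by
          obtain ⟨hc, i, hi⟩ := hc
          exact ⟨(Subgroup.mem_normalizer_iff.1 hgn c).1 hc, i, by rw [conj_pow, hi]; group⟩)
        (fun c hc => by
          by_contra hcZ
          exact hgx ((H.C_eq c hc.1.1 hcZ).le (mem_C.2 (mem_C.1 hc.2).symm)))
      rwa [hrelE] at this
    have h1 := Nat.le_of_dvd (by have := hp'.two_le; omega) (hdir p p' hp hp' hne.symm hpm hp'm)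
    have h2 := Nat.le_of_dvd (by have := hp.two_le; omega) (hdir p' p hp' hp hne hp'm hpm)
    have := hp.two_le
    omega
  obtain ⟨c, hc⟩ : ∃ c, m = p ^ c :=
    ⟨_, Nat.eq_prime_pow_of_unique_prime_dvd (by omega) fun hs hd => hsingle _ hs hd⟩
  have hidxco : ∀ (P : Sylow p G), (C[x]).index.Coprime (P : Subgroup G).index := by
    intro P
    rw [show (C[x]).index = m from hx, hc]
    exact ((hp.coprime_iff_not_dvd).2 P.not_dvd_index).pow_left c
  -- normality
  obtain ⟨P, ⟨e₀, he₀P, he₀x, he₀Z⟩, -⟩ := hexP p hp hpm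
  have hPZ : ¬ (P : Subgroup G) ≤ Z := fun h => he₀Z (h he₀P)
  obtain ⟨t, htP, htZ, -, htc⟩ := exists_t P.isPGroup' le_rfl
    (fun g hg r hr => mul_mem (mul_mem hg hr) (inv_mem hg)) hPZ
  have htN : t ∈ Subgroup.normalizer (C[x] : Set G) := by
    refine H.mem_normalizer he₀x he₀Z ?_
    have e1 : t * e₀ * t⁻¹ = (e₀ * t * e₀⁻¹ * t⁻¹)⁻¹ * e₀ := by group
    rw [e1]
    exact mul_mem (inv_mem (center_le_C x (htc e₀ he₀P))) he₀x
  have hnormal : ∀ k : G, C[k * x * k⁻¹] = C[x] := by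
    by_cases htx : t ∈ C[x]
    · intro k
      obtain ⟨y', hy', hh⟩ := QBaer.exists_left_factor (hidxco P) k
      have hk : k * x * k⁻¹ = y' * x * y'⁻¹ := by
        have h1 : (y'⁻¹ * k) * x * (y'⁻¹ * k)⁻¹ = x := by
          rw [(mem_C.1 hh).eq, mul_inv_cancel_right]
        calc k * x * k⁻¹ = y' * ((y'⁻¹ * k) * x * (y'⁻¹ * k)⁻¹) * y'⁻¹ := by group
          _ = _ := by rw [h1]
      have hyn := H.mem_normalizer htx htZ (g := y') (by
        rw [show y' * t * y'⁻¹ = (y' * t * y'⁻¹ * t⁻¹) * t by group]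
        exact mul_mem (center_le_C x (htc y' hy')) htx)
      rw [hk]
      exact H.C_eq _ ((Subgroup.mem_normalizer_iff.1 hyn x).1 (self_mem_C x))
        (fun h => hxZ (mem_center_conj.1 h))
    -- `t` normalises every conjugate
    have htall : ∀ k : G, C[t * (k * x * k⁻¹) * t⁻¹] = C[k * x * k⁻¹] := by
      intro k
      obtain ⟨y', hy', hh⟩ := QBaer.exists_left_factor (hidxco P) k
      have hk : k * x * k⁻¹ = y' * x * y'⁻¹ := by
        have h1 : (y'⁻¹ * k) * x * (y'⁻¹ * k)⁻¹ = x := by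
          rw [(mem_C.1 hh).eq, mul_inv_cancel_right]
        calc k * x * k⁻¹ = y' * ((y'⁻¹ * k) * x * (y'⁻¹ * k)⁻¹) * y'⁻¹ := by group
          _ = _ := by rw [h1]
      rw [hk]
      have ht' : y'⁻¹ * t * y' ∈ Subgroup.normalizer (C[x] : Set G) := by
        have e1 : y'⁻¹ * t * y' = (y'⁻¹ * t * y'⁻¹⁻¹ * t⁻¹) * t := by group
        rw [e1]
        exact mul_mem (Subgroup.le_normalizer (center_le_C x (htc y'⁻¹ (inv_mem hy')))) htN
      have h1 : C[(y'⁻¹ * t * y') * x * (y'⁻¹ * t * y')⁻¹] = C[x] :=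
        H.C_eq _ ((Subgroup.mem_normalizer_iff.1 ht' x).1 (self_mem_C x))
          (fun h => hxZ (mem_center_conj.1 h))
      have h2 := conj_C_eq y' h1
      rwa [show y' * ((y'⁻¹ * t * y') * x * (y'⁻¹ * t * y')⁻¹) * y'⁻¹ =
        t * (y' * x * y'⁻¹) * t⁻¹ by group] at h2
    generalize hd : t * u * t⁻¹ * u⁻¹ = d
    have htu : t * u * t⁻¹ ∈ C[x] := (Subgroup.mem_normalizer_iff.1 htN u).1 hux
    have hdx : d ∈ C[x] := hd ▸ mul_mem htu (inv_mem hux)
    have hdp : (orderOf d).Coprime m := by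
      have hq' : Nat.Coprime (q ^ eu) m := ((hq.coprime_iff_not_dvd).2 hqm).pow_left eu
      refine hq'.coprime_dvd_left (orderOf_dvd_of_pow_eq_one ?_)
      rw [← hd, (H.comm _ htu _ (inv_mem hux)).mul_pow, conj_pow, inv_pow, ← heu, pow_orderOf_eq_one]
      group
    have hdZ : d ∉ Z := by
      intro hdZ
      obtain ⟨i, hi⟩ := FgsB.exists_orderOf_eq_pow_of_mem P.isPGroup' htP
      have hcd : (orderOf t).Coprime (orderOf d) := by
        rw [hi]
        exact (hdp.coprime_dvd_right hpm).symm.pow_left i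
      have h1 := commute_of_conj_eq_mul (h := t) (a := u) (c := d)
        (Subgroup.mem_center_iff.1 hdZ t) hcd (by rw [← hd]; group)
      exact htx ((H.C_eq u hux huZ).le (mem_C.2 h1))
    intro k
    have hdn : ∀ k : G, d ∈ Subgroup.normalizer (C[k * x * k⁻¹] : Set G) := by
      intro k
      have h1 := mem_normalizer_C (htall k)
      have h2 : u * t⁻¹ * u⁻¹ ∈ Subgroup.normalizer (C[k * x * k⁻¹] : Set G) := by
        refine mem_normalizer_C ?_
        have h3 := htall (u⁻¹ * k)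
        have h4 := conj_C_eq u h3
        have e1 : u * (t * (u⁻¹ * k * x * (u⁻¹ * k)⁻¹) * t⁻¹) * u⁻¹ =
            (u * t * u⁻¹) * (k * x * k⁻¹) * (u * t * u⁻¹)⁻¹ := by group
        have e2 : u * (u⁻¹ * k * x * (u⁻¹ * k)⁻¹) * u⁻¹ = k * x * k⁻¹ := by group
        rw [e1, e2] at h4
        have h5 := conj_C_eq (u * t⁻¹ * u⁻¹) h4
        rw [show u * t⁻¹ * u⁻¹ * ((u * t * u⁻¹) * (k * x * k⁻¹) * (u * t * u⁻¹)⁻¹) *
          (u * t⁻¹ * u⁻¹)⁻¹ = k * x * k⁻¹ by group] at h5
        exact h5.symm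
      rw [← hd, show t * u * t⁻¹ * u⁻¹ = t * (u * t⁻¹ * u⁻¹) by group]
      exact mul_mem h1 h2
    have hdk : d ∈ C[k * x * k⁻¹] := by
      set N' := Subgroup.normalizer (C[k * x * k⁻¹] : Set G)
      have hN : C[k * x * k⁻¹] ≤ N' := Subgroup.le_normalizer
      haveI : ((C[k * x * k⁻¹]).subgroupOf N').Normal :=
        Subgroup.normal_subgroupOf_of_le_normalizer le_rfl
      have h2 : d ^ (C[k * x * k⁻¹]).relIndex N' ∈ C[k * x * k⁻¹] :=
        Subgroup.mem_subgroupOf.1 (Subgroup.pow_index_mem _ ⟨d, hdn k⟩)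
      have h3 : (C[k * x * k⁻¹]).relIndex N' ∣ m :=
        (Dvd.intro _ (Subgroup.relIndex_mul_index hN)).trans (dvd_of_eq ((idx_conj k x).trans hx))
      obtain ⟨j, hj⟩ := exists_pow_eq_self_of_coprime (x := d)
        (n := (C[k * x * k⁻¹]).relIndex N') (hdp.coprime_dvd_right h3).symm
      exact hj ▸ pow_mem h2 j
    rw [← H.conj_C_eq' hdk hdZ, H.C_eq d hdx hdZ]
  have hN : (C[x]).Normal := ⟨fun a ha k => by
    rw [← hnormal k, mem_C]
    simpa using (mem_C.1 ha).map (MulAut.conj k)⟩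
  -- `m` is prime
  obtain ⟨t₁, ht₁, ht₁Z, ht₁p, ht₁c⟩ := exists_t P.isPGroup'
    (inf_le_right : C[x] ⊓ (P : Subgroup G) ≤ P)
    (fun g hg r hr => Subgroup.mem_inf.2 ⟨hN.conj_mem r hr.1 g, mul_mem (mul_mem hg hr.2) (inv_mem hg)⟩)
    (fun h => he₀Z (h ⟨he₀x, he₀P⟩))
  have hsq := S.sq_not_dvd hpm P ht₁Z ht₁p ht₁c
    (mem_dc_of_le ((H.C_eq _ ht₁.1 ht₁Z).trans (H.C_eq u hux huZ).symm).le) huZ hq heu
    (fun h => hqm (h ▸ hpm))
  have hmp : m = p := by
    rcases Nat.lt_or_ge c 2 with h | h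
    · interval_cases c
      · rw [pow_zero] at hc
        have := S.hm
        omega
      · rw [hc, pow_one]
    · exact absurd (hc ▸ pow_dvd_pow p h) hsq
  have hrely' : rel y = m :=
    le_antisymm hrely (Nat.le_of_dvd (rel_pos y) (hmp ▸ S.dvd_rel hp hpm hyZ))
  refine ⟨x, H, hN, hmp ▸ hp, by rw [hrelx, hrely'], fun g hg hgm => ?_⟩
  have h1 := hineq g hg
  rw [hgm, hrelx, hrely'] at h1
  have := S.m_lt
  omega

end Three

end CfsgLib.CharApps.ClassSizes
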